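import Mathlib.RingTheory.Unramified.Finite
import Mathlib.RingTheory.Etale.Basic
import Mathlib.RingTheory.Flat.FaithfullyFlat.Algebra
import Mathlib.RingTheory.RingHom.FaithfullyFlat
import Mathlib.RingTheory.Nakayama
import Mathlib.FieldTheory.IsAlgClosed.AlgebraicClosure

/-!
# Galois extensions of rings

* `IsGal A B G`: `B` is a finite étale faithfully flat Galois extension of `A` with finite group `G`.
* `IsGal.of_transitive`: a finite étale connected cover whose automorphism group is transitive on geometric points.
* `act`: the action of `G` on `R ⊗[A] B`; invariants and trace after base change.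
-/

set_option autoImplicit false
universe u v
open TensorProduct

namespace K965.Gal

/-- faithfully flat descent of elements -/
lemma mem_range_of_tmul_eq {R B : Type*} [CommRing R] [CommRing B] [Algebra R B]
    [Module.FaithfullyFlat R B] (x : B) (h : (1 : B) ⊗ₜ[R] x = x ⊗ₜ[R] 1) : ∃ a, algebraMap R B a = x := by
  let D : Submodule R B := LinearMap.range (Algebra.linearMap R B)
  have h1 : (1 : B) ⊗ₜ[R] (D.mkQ x) = 0 := by
    have h2 := congrArg (LinearMap.lTensor B D.mkQ) h
    rw [LinearMap.lTensor_tmul, LinearMap.lTensor_tmul] at h2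
    have h3 : D.mkQ (1 : B) = 0 := by
      rw [← LinearMap.mem_ker, Submodule.ker_mkQ]
      exact ⟨1, by simp⟩
    rw [h3, TensorProduct.tmul_zero] at h2
    exact h2
  have h4 := Module.FaithfullyFlat.tensorProduct_mk_injective (A := R) (B := B) (B ⧸ D)
    (a₁ := D.mkQ x) (a₂ := 0) (by simpa using h1)
  rw [← LinearMap.mem_ker, Submodule.ker_mkQ] at h4
  obtain ⟨a, ha⟩ := h4
  exact ⟨a, ha⟩

/-- `B` is a finite Galois extension of the ring `A` with group `G`. -/
structure IsGal (A B : Type u) [CommRing A] [CommRing B] [Algebra A B] (G : Type) [Group G] [Fintype G]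
    [MulSemiringAction G B] [SMulCommClass G A B] : Prop where
  ff : Module.FaithfullyFlat A B
  fin : Module.Finite A B
  et : Algebra.Etale A B
  inv : ∀ b : B, (∀ g : G, g • b = b) → ∃ a, algebraMap A B a = b
  tr : ∃ t : B, ∑ g : G, g • t = 1
  dual : ∃ (n : ℕ) (x y : Fin n → B), (∑ i, x i * y i = 1) ∧ ∀ g : G, g ≠ 1 → ∑ i, x i * g • y i = 0

section transitive

variable {A B : Type u} [CommRing A] [CommRing B] [Algebra A B] {G : Type v} [Group G]
    [MulSemiringAction G B] [SMulCommClass G A B]

/-- the element of `B ⊗ B` is a finite sum -/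
lemma exists_fin_sum (t : B ⊗[A] B) : ∃ (n : ℕ) (x y : Fin n → B), t = ∑ i, x i ⊗ₜ[A] y i := by
  induction t using TensorProduct.induction_on with
  | zero => exact ⟨0, Fin.elim0, Fin.elim0, by simp⟩
  | tmul x y => exact ⟨1, fun _ => x, fun _ => y, by simp⟩
  | add s t hs ht =>
    obtain ⟨n, x, y, rfl⟩ := hs
    obtain ⟨m, x', y', rfl⟩ := ht
    refine ⟨n + m, Fin.append x x', Fin.append y y', ?_⟩
    rw [Fin.sum_univ_add]
    simp

/-- the automorphism of `B ⊗ B` given by `g` on the right -/
noncomputable def actR (A B : Type u) [CommRing A] [CommRing B] [Algebra A B] {G : Type v} [Group G]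
    [MulSemiringAction G B] [SMulCommClass G A B] (g : G) : B ⊗[A] B →ₐ[B] B ⊗[A] B :=
  Algebra.TensorProduct.map (AlgHom.id B B) (MulSemiringAction.toAlgHom A B g)

/-- evaluation `x ⊗ y ↦ x * g y` -/
noncomputable def evg (A B : Type u) [CommRing A] [CommRing B] [Algebra A B] {G : Type v} [Group G]
    [MulSemiringAction G B] [SMulCommClass G A B] (g : G) : B ⊗[A] B →ₐ[B] B :=
  Algebra.TensorProduct.lift (Algebra.ofId B B) (MulSemiringAction.toAlgHom A B g) (fun _ _ => Commute.all _ _)

@[simp] lemma evg_tmul (g : G) (x y : B) : evg A B g (x ⊗ₜ y) = x * g • y := by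
  simp [evg]

@[simp] lemma actR_tmul (g : G) (x y : B) : actR A B g (x ⊗ₜ y) = x ⊗ₜ (g • y) := by
  simp [actR]

lemma evg_actR (g h : G) (z : B ⊗[A] B) : evg A B g (actR A B h z) = evg A B (g * h) z := by
  induction z using TensorProduct.induction_on with
  | zero => simp
  | tmul x y => simp [mul_smul]
  | add x y hx hy => rw [map_add, map_add, hx, hy, map_add]

theorem evg_elem [Algebra.Etale A B] (hB : ∀ x : B, x * x = x → x = 0 ∨ x = 1)
    (hfaith : ∀ g : G, (∀ b : B, g • b = b) → g = 1) [DecidableEq G] (g : G) :
    evg A B g (Algebra.FormallyUnramified.elem A B) = if g = 1 then 1 else 0 := by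
  set t := Algebra.FormallyUnramified.elem A B with ht
  have h1 : evg A B (1 : G) t = 1 := by
    have h2 := Algebra.FormallyUnramified.lmul_elem (R := A) (S := B)
    have h3 : ∀ z : B ⊗[A] B, evg A B (1 : G) z = Algebra.TensorProduct.lmul' A z := by
      intro z
      induction z using TensorProduct.induction_on with
      | zero => simp
      | tmul x y => simp
      | add x y hx hy => rw [map_add, map_add, hx, hy]
    rw [h3, h2]
  split_ifs with hg
  · rw [hg, h1]
  · have h4 : ∀ s : B, (g • s) * evg A B g t = s * evg A B g t := by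
      intro s
      have h5 := congrArg (evg A B g) (Algebra.FormallyUnramified.one_tmul_mul_elem (R := A) (S := B) s)
      rw [map_mul, map_mul, evg_tmul, evg_tmul] at h5
      simpa using h5
    have h6 : ∀ z : B ⊗[A] B, evg A B g z * evg A B g t = Algebra.TensorProduct.lmul' A z * evg A B g t := by
      intro z
      induction z using TensorProduct.induction_on with
      | zero => simp
      | tmul x y => rw [evg_tmul, Algebra.TensorProduct.lmul'_apply_tmul, mul_assoc, h4, mul_assoc]
      | add x y hx hy => rw [map_add, map_add, add_mul, hx, hy, add_mul]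
    have h7 : evg A B g t * evg A B g t = evg A B g t := by
      rw [h6 t, Algebra.FormallyUnramified.lmul_elem, one_mul]
    rcases hB _ h7 with h8 | h8
    · exact h8
    · exfalso
      apply hg
      apply hfaith
      intro b
      have := h4 b
      rwa [h8, mul_one, mul_one] at this

/-- The idempotents of `B ⊗ B`. -/
noncomputable def Eg (A B : Type u) [CommRing A] [CommRing B] [Algebra A B] {G : Type v} [Group G]
    [MulSemiringAction G B] [SMulCommClass G A B] [Algebra.Etale A B] (g : G) : B ⊗[A] B :=
  actR A B g⁻¹ (Algebra.FormallyUnramified.elem A B)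

lemma mul_Eg [Algebra.Etale A B] (g : G) (z : B ⊗[A] B) : z * Eg A B g = (evg A B g z ⊗ₜ 1) * Eg A B g := by
  induction z using TensorProduct.induction_on with
  | zero => simp
  | tmul x y =>
    have h1 : ((1 : B) ⊗ₜ[A] y) * Eg A B g = ((g • y) ⊗ₜ 1) * Eg A B g := by
      have h2 := congrArg (actR A B g⁻¹)
        (Algebra.FormallyUnramified.one_tmul_mul_elem (R := A) (S := B) (g • y))
      rw [map_mul, map_mul, actR_tmul, actR_tmul, inv_smul_smul, smul_one] at h2
      exact h2
    have h3 : x ⊗ₜ[A] y = (x ⊗ₜ 1) * (1 ⊗ₜ y) := by simp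
    rw [h3, mul_assoc, h1, ← mul_assoc, map_mul, evg_tmul, evg_tmul, smul_one, mul_one, one_mul]
    simp
  | add x y hx hy => rw [add_mul, hx, hy, map_add, TensorProduct.add_tmul, add_mul]

/-- Rigidity: an automorphism fixing a geometric point is trivial. -/
theorem eq_one_of_fixed [Algebra.Etale A B] (hB : ∀ x : B, x * x = x → x = 0 ∨ x = 1)
    (hfaith : ∀ g : G, (∀ b : B, g • b = b) → g = 1) {Ω : Type u} [CommRing Ω] [Nontrivial Ω] (p : B →+* Ω) (g : G)
    (hg : ∀ b, p (g • b) = p b) : g = 1 := by
  classical
  by_contra hne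
  have h1 := evg_elem (A := A) hB hfaith g
  rw [if_neg hne] at h1
  have h2 : ∀ z : B ⊗[A] B, p (evg A B g z) = p (Algebra.TensorProduct.lmul' A z) := by
    intro z
    induction z using TensorProduct.induction_on with
    | zero => simp
    | tmul x y => rw [evg_tmul, Algebra.TensorProduct.lmul'_apply_tmul, map_mul, map_mul, hg]
    | add x y hx hy => rw [map_add, map_add, hx, hy, map_add, map_add]
  have h3 := h2 (Algebra.FormallyUnramified.elem A B)
  rw [h1, Algebra.FormallyUnramified.lmul_elem, map_zero, map_one] at h3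
  exact zero_ne_one h3

/-- A finite étale faithfully flat connected algebra, on which a finite group acts faithfully, and transitively on
geometric points. -/
theorem IsGal.of_transitive {G : Type} [Group G] [MulSemiringAction G B] [SMulCommClass G A B] [Fintype G] [Module.FaithfullyFlat A B] [Module.Finite A B] [Algebra.Etale A B]
    (hB : ∀ x : B, x * x = x → x = 0 ∨ x = 1)
    (hfaith : ∀ g : G, (∀ b : B, g • b = b) → g = 1)
    (htr : ∀ (Ω : Type u) [Field Ω] [IsAlgClosed Ω] (p q : B →+* Ω),
      p.comp (algebraMap A B) = q.comp (algebraMap A B) → ∃ g : G, ∀ b, p (g • b) = q b) :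
    IsGal A B G := by
  classical
  obtain ⟨n, x, y, hxy⟩ := exists_fin_sum (Algebra.FormallyUnramified.elem A B)
  have hd : ∀ g : G, ∑ i, x i * g • y i = if g = 1 then 1 else 0 := by
    intro g
    rw [← evg_elem (A := A) hB hfaith g, hxy, map_sum]
    simp
  have hE : ∀ g h : G, evg A B g (Eg A B h) = if g = h then 1 else 0 := by
    intro g h
    rw [Eg, evg_actR, evg_elem hB hfaith]
    simp [mul_inv_eq_one]
  have hsum : ∑ g : G, Eg A B g = 1 := by
    set F : B ⊗[A] B := ∑ g : G, Eg A B g with hF
    have hFF : F * F = F := by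
      rw [hF, Finset.mul_sum]
      refine Finset.sum_congr rfl fun g _ => ?_
      rw [mul_Eg, map_sum]
      simp [hE]
      exact one_mul _
    have hnil : IsNilpotent (1 - F) := by
      rw [nilpotent_iff_mem_prime]
      intro J hJ
      let Ω := AlgebraicClosure (FractionRing ((B ⊗[A] B) ⧸ J))
      let π : B ⊗[A] B →+* Ω := (algebraMap (FractionRing ((B ⊗[A] B) ⧸ J)) Ω).comp
        ((algebraMap ((B ⊗[A] B) ⧸ J) (FractionRing ((B ⊗[A] B) ⧸ J))).comp (Ideal.Quotient.mk J))
      have hπ : ∀ z, π z = 0 → z ∈ J := by
        intro z hz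
        have h1 := (algebraMap (FractionRing ((B ⊗[A] B) ⧸ J)) Ω).injective (hz.trans (map_zero _).symm)
        have h2 := IsFractionRing.injective ((B ⊗[A] B) ⧸ J) (FractionRing ((B ⊗[A] B) ⧸ J))
          (h1.trans (map_zero _).symm)
        exact Ideal.Quotient.eq_zero_iff_mem.1 h2
      apply hπ
      let p : B →+* Ω := π.comp (Algebra.TensorProduct.includeLeft : B →ₐ[A] B ⊗[A] B).toRingHom
      let q : B →+* Ω := π.comp (Algebra.TensorProduct.includeRight : B →ₐ[A] B ⊗[A] B).toRingHom
      obtain ⟨g, hg⟩ := htr Ω p q (by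
        ext a
        change π _ = π _
        congr 1
        simp [Algebra.algebraMap_eq_smul_one])
      have hπg : ∀ z, π z = p (evg A B g z) := by
        intro z
        induction z using TensorProduct.induction_on with
        | zero => simp
        | tmul u v =>
          rw [evg_tmul, map_mul, hg]
          change _ = π _ * π _
          rw [← map_mul]
          simp
        | add u v hu hv => rw [map_add, map_add, hu, hv, map_add]
      rw [map_sub, map_one, hπg F, hF, map_sum]
      simp [hE]
    have hidem : IsIdempotentElem (1 - F) := by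
      change (1 - F) * (1 - F) = 1 - F
      linear_combination hFF
    have h0 : 1 - F = 0 := by
      obtain ⟨k, hk⟩ := hnil
      by_cases hk0 : k = 0
      · subst hk0
        rw [pow_zero] at hk
        rw [← mul_one (1 - F), hk, mul_zero]
      · rw [hidem.pow_eq hk0] at hk  
        exact hk
    exact (sub_eq_zero.1 h0).symm
  have hinj : ∀ z : B ⊗[A] B, (∀ g : G, evg A B g z = 0) → z = 0 := by
    intro z hz
    rw [← mul_one z, ← hsum, Finset.mul_sum]
    refine Finset.sum_eq_zero fun g _ => ?_
    rw [mul_Eg, hz g, TensorProduct.zero_tmul, zero_mul]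
  have hinv : ∀ b : B, (∀ g : G, g • b = b) → ∃ a, algebraMap A B a = b := by
    intro b hb
    apply mem_range_of_tmul_eq
    rw [← sub_eq_zero]
    apply hinj
    intro g
    rw [map_sub, evg_tmul, evg_tmul, hb g]
    simp
  refine ⟨inferInstance, inferInstance, inferInstance, hinv, ?_, n, x, y, ?_, ?_⟩
  · -- trace
    have hT : ∀ b : B, ∃ a, algebraMap A B a = ∑ g : G, g • b := by
      intro b
      apply hinv
      intro g
      rw [Finset.smul_sum]
      simp only [← mul_smul]
      exact Fintype.sum_equiv (Equiv.mulLeft g) _ _ (fun h => rfl)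
    let I : Ideal A :=
      { carrier := {a | ∃ b : B, ∑ g : G, g • b = algebraMap A B a}
        add_mem' := by
          rintro a a' ⟨b, hb⟩ ⟨b', hb'⟩
          exact ⟨b + b', by simp [smul_add, Finset.sum_add_distrib, hb, hb']⟩
        zero_mem' := ⟨0, by simp⟩
        smul_mem' := by
          rintro c a ⟨b, hb⟩
          refine ⟨c • b, ?_⟩
          simp only [smul_comm _ c b, ← Finset.smul_sum, hb]
          simp [Algebra.smul_def] }
    have hle : (⊤ : Submodule A B) ≤ I • (⊤ : Submodule A B) := by
      intro b _
      have h1 : b = ∑ i, x i * ∑ g : G, g • (y i * b) := by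
        simp only [Finset.mul_sum, smul_mul']
        rw [Finset.sum_comm]
        simp only [← mul_assoc, ← Finset.sum_mul, hd]
        simp
      rw [h1]
      refine Submodule.sum_mem _ fun i _ => ?_
      obtain ⟨a, ha⟩ := hT (y i * b)
      rw [← ha, mul_comm, ← Algebra.smul_def]
      exact Submodule.smul_mem_smul ⟨_, ha.symm⟩ Submodule.mem_top
    obtain ⟨r, hr, hr'⟩ := Submodule.exists_sub_one_mem_and_smul_eq_zero_of_fg_of_le_smul I ⊤
      Module.Finite.fg_top hle
    have hr0 : algebraMap A B r = 0 := by
      have := hr' 1 Submodule.mem_top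
      rwa [Algebra.smul_def, mul_one] at this
    obtain ⟨b, hb⟩ := hr
    refine ⟨-b, ?_⟩
    simp only [smul_neg, Finset.sum_neg_distrib, hb, map_sub, hr0, map_one]
    ring
  · simpa using hd 1
  · intro g hg
    rw [hd, if_neg hg]

end transitive

section act

variable (A B : Type u) [CommRing A] [CommRing B] [Algebra A B] {G : Type} [Group G]
    [MulSemiringAction G B] [SMulCommClass G A B]

/-- the action of `G` on `R ⊗[A] B` -/
noncomputable def act (R : Type u) [CommRing R] [Algebra A R] (g : G) : R ⊗[A] B →ₐ[R] R ⊗[A] B :=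
  Algebra.TensorProduct.map (AlgHom.id R R) (MulSemiringAction.toAlgHom A B g)

variable {A B} {R : Type u} [CommRing R] [Algebra A R]

@[simp] lemma act_tmul (g : G) (r : R) (b : B) : act A B R g (r ⊗ₜ b) = r ⊗ₜ (g • b) := by
  simp [act]

lemma act_act (g h : G) (z : R ⊗[A] B) : act A B R g (act A B R h z) = act A B R (g * h) z := by
  induction z using TensorProduct.induction_on with
  | zero => simp
  | tmul x y => simp [mul_smul]
  | add x y hx hy => rw [map_add, map_add, hx, hy, map_add]

lemma act_one (z : R ⊗[A] B) : act A B R (1 : G) z = z := by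
  induction z using TensorProduct.induction_on with
  | zero => simp
  | tmul x y => simp
  | add x y hx hy => rw [map_add, hx, hy]

lemma act_inv_act (g : G) (z : R ⊗[A] B) : act A B R g⁻¹ (act A B R g z) = z := by
  rw [act_act, inv_mul_cancel, act_one]

lemma act_act_inv (g : G) (z : R ⊗[A] B) : act A B R g (act A B R g⁻¹ z) = z := by
  rw [act_act, mul_inv_cancel, act_one]

/-- the action is compatible with algebra maps on the left -/
lemma map_act {R' : Type u} [CommRing R'] [Algebra A R'] (ψ : R →ₐ[A] R') (g : G) (z : R ⊗[A] B) :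
    Algebra.TensorProduct.map ψ (AlgHom.id A B) (act A B R g z) =
      act A B R' g (Algebra.TensorProduct.map ψ (AlgHom.id A B) z) := by
  induction z using TensorProduct.induction_on with
  | zero => simp
  | tmul x y => simp
  | add x y hx hy => simp only [map_add, hx, hy]

lemma includeLeft_injective [Module.FaithfullyFlat A B] :
    Function.Injective (Algebra.TensorProduct.includeLeft : R →ₐ[A] R ⊗[A] B) := by
  intro x y h
  have h1 := Module.FaithfullyFlat.tensorProduct_mk_injective (A := A) (B := B) R
    (a₁ := x) (a₂ := y) (by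
      apply (TensorProduct.comm A B R).injective
      simpa using h)
  exact h1

/-- Invariants of `R ⊗ B`. -/
lemma exists_of_act_eq [Fintype G] (hG : IsGal A B G) (z : R ⊗[A] B) (hz : ∀ g : G, act A B R g z = z) :
    ∃ r : R, z = r ⊗ₜ 1 := by
  have hT : ∀ b : B, ∃ a, algebraMap A B a = ∑ g : G, g • b := by
    intro b
    apply hG.inv
    intro g
    rw [Finset.smul_sum]
    simp only [← mul_smul]
    exact Fintype.sum_equiv (Equiv.mulLeft g) _ _ (fun h => rfl)
  have key : ∀ w : R ⊗[A] B, ∃ r : R, ∑ g : G, act A B R g w = r ⊗ₜ 1 := by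
    intro w
    induction w using TensorProduct.induction_on with
    | zero => exact ⟨0, by simp⟩
    | tmul r b =>
      obtain ⟨a, ha⟩ := hT b
      refine ⟨a • r, ?_⟩
      simp only [act_tmul, ← TensorProduct.tmul_sum, ← ha]
      rw [Algebra.algebraMap_eq_smul_one, TensorProduct.smul_tmul]
    | add x y hx hy =>
      obtain ⟨r, hr⟩ := hx
      obtain ⟨r', hr'⟩ := hy
      exact ⟨r + r', by simp only [map_add, Finset.sum_add_distrib, hr, hr', TensorProduct.add_tmul]⟩
  obtain ⟨t, ht⟩ := hG.tr
  obtain ⟨r, hr⟩ := key (z * (1 ⊗ₜ t))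
  refine ⟨r, ?_⟩
  rw [← hr]
  simp only [map_mul, hz, act_tmul]
  rw [← Finset.mul_sum, ← TensorProduct.tmul_sum, ht]
  exact (mul_one z).symm

end act

end K965.Gal
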