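import Groth.Agent.Sga5.H833.GalConn
import Groth.Agent.MultTori.K965.IsGal

/-!
# Galois covers of an affine connected scheme, algebraically
-/

set_option autoImplicit false
universe u

open CategoryTheory CategoryTheory.Limits AlgebraicGeometry Opposite PreGaloisCategory
open Groth.Agent.Pi1B.FEtFibre Groth.Agent.Pi1B.FEtPreGalois Groth.Agent.Sga5.H833.GalConn

namespace K965.Gal

attribute [local instance] galoisCategory

theorem exists_cover {A : Type u} [CommRing A] [ConnectedSpace (Spec (CommRingCat.of A))] (Z : Scheme.{u})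
    (f : Z ⟶ Spec (CommRingCat.of A)) [IsFinite f] [Etale f] (z : Z) :
    ∃ (B : Type u) (_ : CommRing B) (_ : Algebra A B) (p : Spec (CommRingCat.of B) ⟶ Z),
      p ≫ f = Spec.map (CommRingCat.ofHom (algebraMap A B)) ∧
      Module.Finite A B ∧ Algebra.Etale A B ∧ ConnectedSpace (Spec (CommRingCat.of B)) ∧
      (∀ (Ω : Type u) [Field Ω] [IsAlgClosed Ω] (p q : B →+* Ω),
        p.comp (algebraMap A B) = q.comp (algebraMap A B) → ∃ g : B ≃ₐ[A] B, ∀ b, p (g b) = q b) := by
  let Z₀ : FEt.Cat (Spec (CommRingCat.of A)) := MorphismProperty.Over.mk ⊤ f ⟨inferInstance, inferInstance⟩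
  obtain ⟨Y, π, hY⟩ := exists_galois Z₀ z
  have hYc : PreGaloisCategory.IsConnected Y := hY.toIsConnected
  have hconn : ConnectedSpace Y.left := connectedSpace_left Y
  obtain ⟨h, hh⟩ : ∃ h : Y.left ⟶ Spec (CommRingCat.of A), h = Y.hom := ⟨Y.hom, rfl⟩
  have hfin : IsFinite h := hh ▸ Y.prop.1
  have het : Etale h := hh ▸ Y.prop.2
  have haff : IsAffine Y.left := isAffine_of_isAffineHom h
  let B : Type u := Γ(Y.left, ⊤)
  let i : Y.left ≅ Spec (CommRingCat.of B) := Y.left.isoSpec
  let β : CommRingCat.of A ⟶ CommRingCat.of B := Spec.preimage (i.inv ≫ h)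
  have hβ : Spec.map β = i.inv ≫ h := Spec.map_preimage _
  let _ : Algebra A B := β.hom.toAlgebra
  have hβ' : Spec.map (CommRingCat.ofHom (algebraMap A B)) = i.inv ≫ h := hβ
  have h1 : IsFinite (Spec.map (CommRingCat.ofHom (algebraMap A B))) := by
    rw [hβ']; infer_instance
  have h2 : Etale (Spec.map (CommRingCat.ofHom (algebraMap A B))) := by
    rw [hβ']; infer_instance
  refine ⟨B, inferInstance, inferInstance, i.inv ≫ π.left, ?_, ?_, ?_, ?_, ?_⟩
  · rw [hβ', Category.assoc]
    congr 1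
    rw [hh]
    exact MorphismProperty.Over.w π
  · rw [IsFinite.SpecMap_iff] at h1
    exact h1
  · have h3 := (HasRingHomProperty.Spec_iff (P := @Etale)).1 h2
    exact h3
  · exact i.hom.homeomorph.connectedSpace_iff.1 hconn
  · intro Ω _ _ p q hpq
    let p' : Spec (CommRingCat.of Ω) ⟶ Y.left := Spec.map (CommRingCat.ofHom p) ≫ i.inv
    let q' : Spec (CommRingCat.of Ω) ⟶ Y.left := Spec.map (CommRingCat.ofHom q) ≫ i.inv
    have hp' : p' ≫ h = Spec.map (CommRingCat.ofHom (p.comp (algebraMap A B))) := by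
      rw [Category.assoc, ← hβ']
      exact (Spec.map_comp _ _).symm
    have hq' : q' ≫ h = Spec.map (CommRingCat.ofHom (q.comp (algebraMap A B))) := by
      rw [Category.assoc, ← hβ']
      exact (Spec.map_comp _ _).symm
    have hqp : q' ≫ h = p' ≫ h := by rw [hq', hp', hpq]
    obtain ⟨φ, hφ⟩ := evaluation_aut_surjective_of_isGalois (fiberF (p' ≫ h)) Y
      (⟨p', by rw [hh]⟩ : FEt.fiberObj (p' ≫ h) Y) (⟨q', by rw [← hh]; exact hqp⟩ : FEt.fiberObj (p' ≫ h) Y)
    have h3 : p' ≫ φ.hom.left = q' := congrArg Subtype.val hφ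
    let γ : CommRingCat.of B ⟶ CommRingCat.of B := Spec.preimage (i.inv ≫ φ.hom.left ≫ i.hom)
    have hγ : Spec.map γ = i.inv ≫ φ.hom.left ≫ i.hom := Spec.map_preimage _
    let γ' : CommRingCat.of B ⟶ CommRingCat.of B := Spec.preimage (i.inv ≫ φ.inv.left ≫ i.hom)
    have hγ' : Spec.map γ' = i.inv ≫ φ.inv.left ≫ i.hom := Spec.map_preimage _
    have hl : φ.hom.left ≫ φ.inv.left = 𝟙 _ := by
      exact congrArg (fun z : Y ⟶ Y => z.left) φ.hom_inv_id
    have hl' : φ.inv.left ≫ φ.hom.left = 𝟙 _ := by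
      exact congrArg (fun z : Y ⟶ Y => z.left) φ.inv_hom_id
    have e1 : γ ≫ γ' = 𝟙 _ := by
      apply Spec.map_injective
      rw [Spec.map_comp, hγ, hγ']
      simp [reassoc_of% hl']
    have e2 : γ' ≫ γ = 𝟙 _ := by
      apply Spec.map_injective
      rw [Spec.map_comp, hγ, hγ']
      simp [reassoc_of% hl]
    have e3 : CommRingCat.ofHom (algebraMap A B) ≫ γ = CommRingCat.ofHom (algebraMap A B) := by
      apply Spec.map_injective
      rw [Spec.map_comp, hγ, hβ']
      simp only [Category.assoc, Iso.hom_inv_id_assoc]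
      congr 1
      rw [hh]
      exact MorphismProperty.Over.w φ.hom
    refine ⟨AlgEquiv.ofRingEquiv (f := RingEquiv.ofRingHom γ.hom γ'.hom
      (congrArg CommRingCat.Hom.hom e2) (congrArg CommRingCat.Hom.hom e1)) (fun a => congr($(e3).hom a)), ?_⟩
    · intro b
      have e4 : γ ≫ CommRingCat.ofHom p = CommRingCat.ofHom q := by
        apply Spec.map_injective
        rw [Spec.map_comp, hγ]
        rw [← cancel_mono i.inv]
        simp only [Category.assoc, Iso.hom_inv_id, Category.comp_id]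
        exact h3
      exact congr($(e4).hom b)

theorem idem_trivial {B : Type u} [CommRing B] [ConnectedSpace (Spec (CommRingCat.of B))] (x : B)
    (hx : x * x = x) : x = 0 ∨ x = 1 := by
  have h : ConnectedSpace (PrimeSpectrum B) := inferInstanceAs (ConnectedSpace (Spec (CommRingCat.of B)))
  have h1 : IsClopen (PrimeSpectrum.basicOpen x : Set (PrimeSpectrum B)) :=
    PrimeSpectrum.isClopen_basicOpen_of_mul_add x (1 - x) (by rw [mul_sub, mul_one, hx, sub_self]) (by ring)
  rcases isClopen_iff.1 h1 with h2 | h2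
  · left
    have h3 : PrimeSpectrum.basicOpen x = ⊥ := by
      ext1
      exact h2
    obtain ⟨n, hn⟩ := PrimeSpectrum.basicOpen_eq_bot_iff x |>.1 h3
    have hid : IsIdempotentElem x := hx
    by_cases hn0 : n = 0
    · subst hn0
      rw [pow_zero] at hn
      rw [← mul_one x, hn, mul_zero]
    · rwa [hid.pow_eq hn0] at hn
  · right
    have h4 : IsUnit x := by
      by_contra h5
      obtain ⟨m, hm, hxm⟩ := exists_max_ideal_of_mem_nonunits h5
      have h6 : (⟨m, hm.isPrime⟩ : PrimeSpectrum B) ∈ (PrimeSpectrum.basicOpen x : Set (PrimeSpectrum B)) := by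
        rw [h2]; trivial
      exact h6 hxm
    exact h4.mul_left_cancel (by rw [hx, mul_one])

theorem exists_isGal {A : Type u} [CommRing A] [ConnectedSpace (Spec (CommRingCat.of A))] (Z : Scheme.{u})
    (f : Z ⟶ Spec (CommRingCat.of A)) [IsFinite f] [Etale f] (z : Z) :
    ∃ (B : Type u) (_ : CommRing B) (_ : Algebra A B) (G : Type) (_ : Group G) (_ : Fintype G)
      (_ : MulSemiringAction G B) (_ : SMulCommClass G A B) (p : Spec (CommRingCat.of B) ⟶ Z),
      p ≫ f = Spec.map (CommRingCat.ofHom (algebraMap A B)) ∧ IsGal A B G ∧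
      ConnectedSpace (Spec (CommRingCat.of B)) := by
  obtain ⟨B, _, _, p, hp, hfin, het, hconn, htr⟩ := exists_cover Z f z
  have hB : ∀ x : B, x * x = x → x = 0 ∨ x = 1 := fun x hx => idem_trivial x hx
  obtain ⟨x₀⟩ := (inferInstance : Nonempty (Spec (CommRingCat.of B)))
  have hnt : Nontrivial B := PrimeSpectrum.nontrivial (show PrimeSpectrum B from x₀)
  have hsurj : Function.Surjective (Spec.map (CommRingCat.ofHom (algebraMap A B))) := by
    have h1 : IsFinite (Spec.map (CommRingCat.ofHom (algebraMap A B))) := by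
      refine (IsFinite.SpecMap_iff _).2 ?_
      exact RingHom.finite_algebraMap.2 hfin
    have h2 : Etale (Spec.map (CommRingCat.ofHom (algebraMap A B))) := by
      refine (HasRingHomProperty.Spec_iff (P := @Etale)).2 ?_
      exact RingHom.etale_algebraMap.2 het
    have h3 : IsClopen (Set.range (Spec.map (CommRingCat.ofHom (algebraMap A B)))) :=
      ⟨(Scheme.Hom.isClosedMap _).isClosed_range, (Scheme.Hom.isOpenMap _).isOpen_range⟩
    rcases isClopen_iff.1 h3 with h4 | h4
    · exact absurd h4 (Set.range_nonempty _).ne_empty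
    · exact Set.range_eq_univ.1 h4
  have hff : Module.FaithfullyFlat A B := Module.FaithfullyFlat.of_comap_surjective hsurj
  obtain ⟨Ω, _, _, ξ, -⟩ := exists_geom x₀
  let π : B →+* Ω := (Spec.preimage ξ).hom
  have hfaith : ∀ g : B ≃ₐ[A] B, (∀ b : B, g • b = b) → g = 1 := by
    intro g hg
    ext b
    exact hg b
  have hH : Finite (B ≃ₐ[A] B) := by
    let _ : Algebra A Ω := (π.comp (algebraMap A B)).toAlgebra
    let π' : B →ₐ[A] Ω := { π with commutes' := fun _ => rfl }
    refine Finite.of_injective (β := B →ₐ[A] Ω) (fun g => π'.comp (g : B →ₐ[A] B)) ?_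
    intro g h hgh
    have h2 : g * h⁻¹ = 1 := by
      apply eq_one_of_fixed (A := A) hB hfaith π
      intro b
      have h3 := DFunLike.congr_fun hgh (h⁻¹ b)
      change π (g (h⁻¹ b)) = π (h (h⁻¹ b)) at h3
      change π (g (h⁻¹ b)) = π b
      rw [h3]
      congr 1
      exact h.apply_symm_apply b
    exact mul_inv_eq_one.1 h2
  let μ : Shrink.{0} (B ≃ₐ[A] B) ≃* (B ≃ₐ[A] B) := Shrink.mulEquiv
  let _ : Fintype (Shrink.{0} (B ≃ₐ[A] B)) := Fintype.ofFinite _
  let _ : MulSemiringAction (Shrink.{0} (B ≃ₐ[A] B)) B := MulSemiringAction.compHom B μ.toMonoidHom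
  have hsmul : ∀ (g : Shrink.{0} (B ≃ₐ[A] B)) (b : B), g • b = μ g b := fun _ _ => rfl
  have hcomm : SMulCommClass (Shrink.{0} (B ≃ₐ[A] B)) A B := ⟨fun g a b => by
    rw [hsmul, hsmul, map_smul]⟩
  refine ⟨B, inferInstance, inferInstance, Shrink.{0} (B ≃ₐ[A] B), inferInstance, inferInstance, inferInstance,
    hcomm, p, hp, ?_, hconn⟩
  refine IsGal.of_transitive hB ?_ ?_
  · intro g hg
    apply μ.injective
    rw [map_one]
    exact hfaith _ hg
  · intro Ω _ _ p q hpq
    obtain ⟨g, hg⟩ := htr Ω p q hpq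
    refine ⟨μ.symm g, fun b => ?_⟩
    rw [hsmul, MulEquiv.apply_symm_apply, hg]

end K965.Gal
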