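import Groth.Prelude.Def_GmPts
import Groth.Prelude.Def_ActBC
import Groth.Prelude.Def_WeilRes

/-!
# Points of the Weil restriction of the multiplicative group along `Spec B → Spec A`

For a Weil restriction `(P, q)` of `𝔾_{m,B}` along `Spec B → Spec A`, the `R`-points of `P` are the units of `R ⊗ B`
(`wrU`, bijective, natural).
-/

set_option autoImplicit false
universe u
open CategoryTheory MonoidalCategory CartesianMonoidalCategory MonObj GrpObj AlgebraicGeometry Limits TensorProduct

namespace K965.WeilGm

variable {A B : Type u} [CommRing A] [CommRing B] [Algebra A B]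

/-- `Spec R` over `Spec A` -/
noncomputable abbrev so (A : Type u) [CommRing A] (R : Type u) [CommRing R] [Algebra A R] : Over (Spec (CommRingCat.of A)) :=
  Over.mk (Spec.map (CommRingCat.ofHom (algebraMap A R)))

/-- the morphism given by an algebra map -/
noncomputable def som {R R' : Type u} [CommRing R] [CommRing R'] [Algebra A R] [Algebra A R'] (j : R →ₐ[A] R') :
    so A R' ⟶ so A R :=
  Over.homMk (Spec.map (CommRingCat.ofHom j.toRingHom)) (by
    change Spec.map _ ≫ Spec.map _ = Spec.map _
    rw [← Spec.map_comp, ← CommRingCat.ofHom_comp]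
    congr 2
    exact j.comp_algebraMap)

/-- the base morphism -/
noncomputable abbrev ff (A B : Type u) [CommRing A] [CommRing B] [Algebra A B] :
    Spec (CommRingCat.of B) ⟶ Spec (CommRingCat.of A) :=
  Spec.map (CommRingCat.ofHom (algebraMap A B))

/-- the base change is a spectrum -/
noncomputable def psI (A B R : Type u) [CommRing A] [CommRing B] [Algebra A B] [CommRing R] [Algebra A R] :
    (Red.bc (ff A B) (so A R)).left ≅ Spec (CommRingCat.of (R ⊗[A] B)) :=
  pullbackSpecIso A R B

/-- the functions on the base change -/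
noncomputable def fnE (A B R : Type u) [CommRing A] [CommRing B] [Algebra A B] [CommRing R] [Algebra A R] :
    Γ((Red.bc (ff A B) (so A R)).left, ⊤) ≅ CommRingCat.of (R ⊗[A] B) :=
  have : IsIso ((psI A B R).inv.appTop) := inferInstanceAs (IsIso (Scheme.Γ.map (psI A B R).inv.op))
  asIso ((psI A B R).inv.appTop) ≪≫ Scheme.ΓSpecIso (CommRingCat.of (R ⊗[A] B))

theorem bc_som {R R' : Type u} [CommRing R] [CommRing R'] [Algebra A R] [Algebra A R'] (j : R →ₐ[A] R') :
    (psI A B R').inv ≫ ((Over.pullback (ff A B)).map (som j)).left =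
      Spec.map (CommRingCat.ofHom (Algebra.TensorProduct.map j (AlgHom.id A B)).toRingHom) ≫
        (psI A B R).inv := by
  unfold psI
  apply pullback.hom_ext
  · have h1 := ActBC.pullback_map_left_fst (ff A B) (som j)
    rw [Category.assoc, Category.assoc, h1]
    erw [pullbackSpecIso_inv_fst, ← Category.assoc, pullbackSpecIso_inv_fst]
    change Spec.map _ ≫ Spec.map _ = Spec.map _ ≫ Spec.map _
    rw [← Spec.map_comp, ← Spec.map_comp, ← CommRingCat.ofHom_comp, ← CommRingCat.ofHom_comp]
    congr 2
  · have h1 : ((Over.pullback (ff A B)).map (som j)).left ≫ pullback.snd (so A R).hom (ff A B) =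
        pullback.snd (so A R').hom (ff A B) := Over.w ((Over.pullback (ff A B)).map (som j))
    rw [Category.assoc, Category.assoc, h1]
    erw [pullbackSpecIso_inv_snd, pullbackSpecIso_inv_snd]
    rw [← Spec.map_comp, ← CommRingCat.ofHom_comp]
    congr 2
    ext r
    simp

theorem fnE_som {R R' : Type u} [CommRing R] [CommRing R'] [Algebra A R] [Algebra A R'] (j : R →ₐ[A] R')
    (x : Γ((Red.bc (ff A B) (so A R)).left, ⊤)) :
    (fnE A B R').hom (((Over.pullback (ff A B)).map (som j)).left.appTop x) =
      Algebra.TensorProduct.map j (AlgHom.id A B) ((fnE A B R).hom x) := by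
  have h1 : ((Over.pullback (ff A B)).map (som j)).left.appTop ≫ (fnE A B R').hom =
      (fnE A B R).hom ≫ CommRingCat.ofHom (Algebra.TensorProduct.map j (AlgHom.id A B)).toRingHom := by
    change _ ≫ (psI A B R').inv.appTop ≫ _ = ((psI A B R).inv.appTop ≫ _) ≫ _
    rw [← Category.assoc, ← Scheme.Hom.comp_appTop, bc_som, Scheme.Hom.comp_appTop, Category.assoc, Category.assoc]
    congr 1
    exact Scheme.ΓSpecIso_naturality (CommRingCat.ofHom (Algebra.TensorProduct.map j (AlgHom.id A B)).toRingHom)
  exact congr($(h1).hom x)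

variable {P : Over (Spec (CommRingCat.of A))} (q : Red.bc (ff A B) P ⟶ Red.Gm (Spec (CommRingCat.of B)))

/-- The unit of `R ⊗ B` attached to an `R`-point of `P`. -/
noncomputable def wrU {R : Type u} [CommRing R] [Algebra A R] (g : so A R ⟶ P) : (R ⊗[A] B)ˣ :=
  Units.map (fnE A B R).hom.hom.toMonoidHom (GmPts.unitOfPt (WeilRes.restr (ff A B) q (so A R) g))

theorem wrU_som {R R' : Type u} [CommRing R] [CommRing R'] [Algebra A R] [Algebra A R'] (j : R →ₐ[A] R')
    (g : so A R ⟶ P) :
    wrU q (som j ≫ g) = Units.map (Algebra.TensorProduct.map j (AlgHom.id A B) : R ⊗[A] B →* R' ⊗[A] B) (wrU q g) := by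
  ext
  rw [wrU, WeilRes.restr_comp, GmPts.unitOfPt_comp]
  exact fnE_som j _

variable {q} (hP : WeilRes.IsWeilRes (ff A B) (Red.Gm (Spec (CommRingCat.of B))) P q)

include hP in
theorem wrU_bijective (R : Type u) [CommRing R] [Algebra A R] :
    Function.Bijective (wrU q : (so A R ⟶ P) → (R ⊗[A] B)ˣ) := by
  have h1 : Function.Bijective (fun g : so A R ⟶ P => WeilRes.restr (ff A B) q (so A R) g) := hP (so A R)
  have h2 : Function.Bijective (GmPts.unitOfPt : (Red.bc (ff A B) (so A R) ⟶ Red.Gm (Spec (CommRingCat.of B))) →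
      (Γ((Red.bc (ff A B) (so A R)).left, ⊤))ˣ) :=
    ⟨Function.LeftInverse.injective GmPts.ptOfUnit_unitOfPt, Function.RightInverse.surjective GmPts.unitOfPt_ptOfUnit⟩
  have h3 : Function.Bijective (Units.map (fnE A B R).hom.hom.toMonoidHom :
      (Γ((Red.bc (ff A B) (so A R)).left, ⊤))ˣ →* (R ⊗[A] B)ˣ) :=
    (Units.mapEquiv (fnE A B R).commRingCatIsoToRingEquiv.toMulEquiv).bijective
  exact h3.comp (h2.comp h1)

end K965.WeilGm
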