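import Groth.Agent.MultTori.K965.EqRep
import Groth.Agent.Sga3B.AffPts

/-!
# Groups of multiplicative type from lattices with Galois action

`exists_group`: for a Galois extension `A → B` with group `G` and an abelian group `N` with action of `G`, there is an
affine group scheme over `Spec A` with dictionary, split by `B` with character group `N`.
-/

set_option autoImplicit false
universe u
open CategoryTheory MonoidalCategory CartesianMonoidalCategory MonObj GrpObj AlgebraicGeometry Opposite
open TensorProduct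

namespace K965.LatTor

open K965.Pts K965.Alpha K965.Gal K965.Dict K965.EqRep
open K964.UC (mB mB_comp)
open Groth.Agent.Books.AffBridge Groth.Agent.Sga3B.AffPts Groth.Agent.Sga3B.DSPts

variable (A B : Type u) [CommRing A] [CommRing B] [Algebra A B] (G : Type) [Group G]
  [MulSemiringAction G B] [SMulCommClass G A B] (N : Type) [AddCommGroup N] [DistribMulAction G N]

/-- the functor of equivariant characters -/
noncomputable def FN : (Over (Spec (CommRingCat.of A)))ᵒᵖ ⥤ GrpCat.{u} where
  obj Y := GrpCat.of (Multiplicative (cs A B G N (Fn Y.unop)))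
  map h := GrpCat.ofHom (AddMonoidHom.toMultiplicative (csMap (fnMap h.unop)))
  map_id Y := by
    ext x
    apply Multiplicative.toAdd.injective
    apply Subtype.ext
    have : fnMap (𝟙 Y.unop) = AlgHom.id A (Fn Y.unop) := by
      ext x
      simp [fnMap_apply]
    change push (fnMap (𝟙 Y.unop)) x.toAdd.1 = x.toAdd.1
    rw [this, push_id]
  map_comp {X Y Z} f g := by
    ext x
    apply Multiplicative.toAdd.injective
    apply Subtype.ext
    have : fnMap (g.unop ≫ f.unop) = (fnMap g.unop).comp (fnMap f.unop) := by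
      ext x
      simp [fnMap_apply]
    change push (fnMap (g.unop ≫ f.unop)) x.toAdd.1 = push (fnMap g.unop) (push (fnMap f.unop) x.toAdd.1)
    rw [this, push_push]

variable {A B G N} {H : Type u} [CommRing H] [Algebra A H] {u : N →+ Additive (H ⊗[A] B)ˣ} (hu : Rep G H u)

/-- points with values in a scheme -/
noncomputable def ptE (Y : Over (Spec (CommRingCat.of A))) : (Y ⟶ SpecOver A H) ≃ cs A B G N (Fn Y) :=
  (Equiv.ofBijective _ (affPt_bijective (A := H) Y)).symm.trans (hu.equiv (Fn Y))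

lemma ptE_affPt (Y : Over (Spec (CommRingCat.of A))) (f : H →ₐ[A] Fn Y) : ptE hu Y (affPt Y f) = hu.equiv (Fn Y) f := by
  rw [ptE, Equiv.trans_apply]
  congr 1
  exact (Equiv.ofBijective _ (affPt_bijective (A := H) Y)).symm_apply_apply f

lemma ptE_comp {Y Y' : Over (Spec (CommRingCat.of A))} (h : Y' ⟶ Y) (x : Y ⟶ SpecOver A H) :
    ptE hu Y' (h ≫ x) = csMap (fnMap h) (ptE hu Y x) := by
  obtain ⟨f, rfl⟩ := (affPt_bijective (A := H) Y).2 x
  rw [comp_affPt, ptE_affPt, ptE_affPt, hu.csMap_equiv]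

/-- the representation of the functor -/
noncomputable def repBy : (FN A B G N ⋙ forget _).RepresentableBy (SpecOver A H) where
  homEquiv {Y} := (ptE hu Y).trans Multiplicative.ofAdd
  homEquiv_comp h x := ptE_comp hu h x

/-- the group structure -/
@[reducible] noncomputable def grpObj : GrpObj (SpecOver A H) := GrpObj.ofRepresentableBy _ _ (repBy hu)

lemma ofRepresentableBy_mul {𝒞 : Type*} [Category 𝒞] [CartesianMonoidalCategory 𝒞] {Z : 𝒞}
    (F : 𝒞ᵒᵖ ⥤ GrpCat) (r : (F ⋙ forget _).RepresentableBy Z) {Y : 𝒞} (f g : Y ⟶ Z) :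
    letI := GrpObj.ofRepresentableBy Z F r
    (r.homEquiv (f * g) : F.obj (op Y)) = (r.homEquiv f : F.obj (op Y)) * (r.homEquiv g : F.obj (op Y)) := by
  let := GrpObj.ofRepresentableBy Z F r
  have h0 : (r.homEquiv μ[Z] : F.obj (op (Z ⊗ Z))) =
      (r.homEquiv (fst Z Z) : F.obj (op (Z ⊗ Z))) * (r.homEquiv (snd Z Z) : F.obj (op (Z ⊗ Z))) :=
    r.homEquiv.apply_symm_apply _
  have h1 : f * g = lift f g ≫ μ[Z] := Hom.mul_def f g
  rw [h1, r.homEquiv_comp]
  have h2 : (r.homEquiv f : F.obj (op Y)) = (F.map (lift f g).op) (r.homEquiv (fst Z Z) : F.obj (op (Z ⊗ Z))) := by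
    have := r.homEquiv_comp (lift f g) (fst Z Z)
    rw [lift_fst] at this
    exact this
  have h3 : (r.homEquiv g : F.obj (op Y)) = (F.map (lift f g).op) (r.homEquiv (snd Z Z) : F.obj (op (Z ⊗ Z))) := by
    have := r.homEquiv_comp (lift f g) (snd Z Z)
    rw [lift_snd] at this
    exact this
  rw [h2, h3, ← map_mul, ← h0]
  rfl

lemma ptE_mul {Y : Over (Spec (CommRingCat.of A))} (x y : Y ⟶ SpecOver A H) :
    letI := grpObj hu
    ptE hu Y (x * y) = ptE hu Y x + ptE hu Y y := by
  let := grpObj hu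
  exact ofRepresentableBy_mul (FN A B G N) (repBy hu) x y

/-- the character of a ring-valued point -/
noncomputable def rch (R : Type u) [CommRing R] [Algebra A R] (x : sp (algebraMap A R) ⟶ SpecOver A H) :
    N →+ Additive (R ⊗[A] B)ˣ :=
  push (specPreimage A x) u

lemma rch_specMap (R : Type u) [CommRing R] [Algebra A R] (f : H →ₐ[A] R) :
    rch (u := u) R (specMap A f) = push f u := by
  rw [rch]
  congr 1
  exact specPreimage_specMap A f

lemma rch_eq (R : Type u) [CommRing R] [Algebra A R] (x : sp (algebraMap A R) ⟶ SpecOver A H) :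
    rch (u := u) R x = push (fnSpec (R := A) R).toAlgHom (ptE hu (SpecOver A R) x).1 := by
  obtain ⟨f, rfl⟩ : ∃ f, affPt (SpecOver A R) f = x := (affPt_bijective (A := H) (SpecOver A R)).2 x
  rw [ptE_affPt, hu.coe_equiv, push_push, affPt_spec]
  exact rch_specMap R _

include hu in
lemma exists_dict :
    letI := grpObj hu
    Nonempty (K965.Dict A B G (SpecOver A H) N) := by
  let := grpObj hu
  refine ⟨{
    ch := fun R _ _ x => rch (u := u) R x
    ch_mul := ?_
    ch_inj := ?_
    ch_smul := ?_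
    ch_surj := ?_
    ch_nat := ?_ }⟩
  · intro R _ _ x y
    rw [rch_eq hu, rch_eq hu, rch_eq hu, ← push_add]
    congr 1
    have := ptE_mul hu (Y := SpecOver A R) x y
    exact congrArg Subtype.val this
  · intro R _ _ x y hxy
    have h1 : specPreimage A x = specPreimage A y := hu.inj _ _ hxy
    have h2 := congrArg (specMap A) h1
    rwa [specMap_specPreimage, specMap_specPreimage] at h2
  · intro R _ _ x g m
    have := eqv_push (specPreimage A x) hu.eqv g m
    exact congrArg (fun z : Additive (R ⊗[A] B)ˣ => (z.toMul : R ⊗[A] B)) this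
  · intro R _ _ χ hχ
    obtain ⟨f, hf⟩ := hu.surj χ (fun g m => addUnits_ext (hχ g m))
    exact ⟨specMap A f, by rw [rch_specMap, hf]⟩
  · intro R R' _ _ _ _ ψ x m
    obtain ⟨f, rfl⟩ : ∃ f, specMap A f = x := ⟨_, specMap_specPreimage A x⟩
    have h1 : mp (ψ : R →+* R') ψ.comp_algebraMap ≫ specMap A f = specMap A (ψ.comp f) := (specMap_comp A f ψ).symm
    rw [h1, rch_specMap, rch_specMap, ← push_push]
    rfl

section split

/-- homomorphisms to units as homomorphisms of monoids -/
noncomputable def tm {R : Type u} [CommRing R] (χ : N →+ Additive Rˣ) : Multiplicative N →* R :=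
  (Units.coeHom R).comp (AddMonoidHom.toMultiplicativeLeft χ)

lemma tm_apply {R : Type u} [CommRing R] (χ : N →+ Additive Rˣ) (n : Multiplicative N) :
    tm χ n = ((χ n.toAdd).toMul : R) := rfl

lemma tm_add {R : Type u} [CommRing R] (χ χ' : N →+ Additive Rˣ) : tm (χ + χ') = tm χ * tm χ' := rfl

lemma tm_bijective {R : Type u} [CommRing R] : Function.Bijective (tm : (N →+ Additive Rˣ) → (Multiplicative N →* R)) := by
  constructor
  · intro χ χ' h
    ext1 n
    apply addUnits_ext
    exact DFunLike.congr_fun h (Multiplicative.ofAdd n)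
  · intro f
    refine ⟨MonoidHom.toAdditiveRight (MonoidHom.toHomUnits f), ?_⟩
    ext n
    rfl

/-- base change morphism -/
noncomputable abbrev bm (A B : Type u) [CommRing A] [CommRing B] [Algebra A B] :
    Spec (CommRingCat.of B) ⟶ Spec (CommRingCat.of A) :=
  Spec.map (CommRingCat.ofHom (algebraMap A B))

/-- the structure map of functions over `Spec B`, seen over `Spec A` -/
noncomputable def sB (Y : Over (Spec (CommRingCat.of B))) : B →+* Fn ((Over.map (bm A B)).obj Y) :=
  algebraMap B (Fn Y)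

lemma sB_comp (Y : Over (Spec (CommRingCat.of B))) :
    (sB (A := A) Y).comp (algebraMap A B) = algebraMap A (Fn ((Over.map (bm A B)).obj Y)) := by
  have h1 : CommRingCat.ofHom (algebraMap A B) ≫ (Scheme.ΓSpecIso (CommRingCat.of B)).inv ≫ Y.hom.appTop =
      (Scheme.ΓSpecIso (CommRingCat.of A)).inv ≫ (Y.hom ≫ bm A B).appTop := by
    rw [Scheme.Hom.comp_appTop, Scheme.ΓSpecIso_inv_naturality_assoc]
  exact congrArg CommRingCat.Hom.hom h1

variable [Fintype G] (hG : IsGal A B G)

/-- characters over `Spec B` -/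
noncomputable def crY (Y : Over (Spec (CommRingCat.of B))) :
    cs A B G N (Fn ((Over.map (bm A B)).obj Y)) ≃+ (N →+ Additive (Fn ((Over.map (bm A B)).obj Y))ˣ) :=
  crEquiv hG (sB (A := A) Y) (sB_comp Y)

/-- the last step -/
noncomputable def dY (Y : Over (Spec (CommRingCat.of B))) (χ : N →+ Additive (Fn ((Over.map (bm A B)).obj Y))ˣ) :
    Y ⟶ Red.DS (Spec (CommRingCat.of B)) N :=
  dsEquiv Y N (tm χ)

lemma dY_add (Y : Over (Spec (CommRingCat.of B))) (χ χ' : N →+ Additive (Fn ((Over.map (bm A B)).obj Y))ˣ) :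
    dY Y (χ + χ') = dY Y χ * dY Y χ' := by
  exact map_mul (dsEquiv Y N) (tm (R := Fn ((Over.map (bm A B)).obj Y)) χ) (tm (R := Fn ((Over.map (bm A B)).obj Y)) χ')

lemma dY_bijective (Y : Over (Spec (CommRingCat.of B))) : Function.Bijective (dY (A := A) (N := N) Y) :=
  (dsEquiv Y N).bijective.comp (tm_bijective (R := Fn ((Over.map (bm A B)).obj Y)))

lemma dY_comp {Y Y' : Over (Spec (CommRingCat.of B))} (h : Y' ⟶ Y)
    (χ : N →+ Additive (Fn ((Over.map (bm A B)).obj Y))ˣ) :
    h ≫ dY Y χ = dY Y' ((um (fnMap ((Over.map (bm A B)).map h) :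
      Fn ((Over.map (bm A B)).obj Y) →+* Fn ((Over.map (bm A B)).obj Y'))).comp χ) := by
  rw [dY, dsEquiv_naturality]
  rfl

lemma crY_nat {Y Y' : Over (Spec (CommRingCat.of B))} (h : Y' ⟶ Y) (χ : cs A B G N (Fn ((Over.map (bm A B)).obj Y))) :
    crY hG Y' (csMap (fnMap ((Over.map (bm A B)).map h)) χ) =
      (um (fnMap ((Over.map (bm A B)).map h) :
        Fn ((Over.map (bm A B)).obj Y) →+* Fn ((Over.map (bm A B)).obj Y'))).comp (crY hG Y χ) :=
  crEquiv_nat hG (sB (A := A) Y) (sB_comp Y) (fnMap ((Over.map (bm A B)).map h)) (sB (A := A) Y') (sB_comp Y')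
    (fnMap h).comp_algebraMap χ

/-- points of the base change -/
noncomputable def bpt (Y : Over (Spec (CommRingCat.of B))) (x : (Over.map (bm A B)).obj Y ⟶ SpecOver A H) :
    Y ⟶ Red.DS (Spec (CommRingCat.of B)) N :=
  dY Y (crY hG Y (ptE hu _ x))

lemma bpt_bijective (Y : Over (Spec (CommRingCat.of B))) : Function.Bijective (bpt hu hG Y) :=
  (dY_bijective Y).comp ((crY hG Y).bijective.comp (ptE hu _).bijective)

lemma bpt_mul (Y : Over (Spec (CommRingCat.of B))) (x y : (Over.map (bm A B)).obj Y ⟶ SpecOver A H) :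
    letI := grpObj hu
    bpt hu hG Y (x * y) = bpt hu hG Y x * bpt hu hG Y y := by
  let := grpObj hu
  rw [bpt, ptE_mul, map_add, dY_add]
  rfl

lemma bpt_comp {Y Y' : Over (Spec (CommRingCat.of B))} (h : Y' ⟶ Y) (x : (Over.map (bm A B)).obj Y ⟶ SpecOver A H) :
    bpt hu hG Y' ((Over.map (bm A B)).map h ≫ x) = h ≫ bpt hu hG Y x := by
  rw [bpt, ptE_comp, crY_nat, ← dY_comp]
  rfl

/-- points of the base change -/
noncomputable def bE (Y : Over (Spec (CommRingCat.of B))) :
    letI := grpObj hu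
    (Y ⟶ Red.bc (bm A B) (SpecOver A H)) ≃* (Y ⟶ Red.DS (Spec (CommRingCat.of B)) N) :=
  letI := grpObj hu
  { toEquiv := (bcEquiv (bm A B) Y (SpecOver A H)).symm.toEquiv.trans (Equiv.ofBijective _ (bpt_bijective hu hG Y))
    map_mul' := by
      intro x y
      change bpt hu hG Y ((bcEquiv (bm A B) Y (SpecOver A H)).symm (x * y)) = _
      rw [map_mul, bpt_mul]
      rfl }

lemma bE_comp {Y Y' : Over (Spec (CommRingCat.of B))} (h : Y' ⟶ Y) (x : Y ⟶ Red.bc (bm A B) (SpecOver A H)) :
    letI := grpObj hu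
    bE hu hG Y' (h ≫ x) = h ≫ bE hu hG Y x := by
  let := grpObj hu
  change bpt hu hG Y' ((bcEquiv (bm A B) Y' (SpecOver A H)).symm (h ≫ x)) = _
  rw [← bcEquiv_symm_naturality, bpt_comp]
  rfl

/-- The base change is diagonalizable. -/
noncomputable def splitIso :
    letI := grpObj hu
    Grp.mk (Red.bc (bm A B) (SpecOver A H)) ≅ Grp.mk (Red.DS (Spec (CommRingCat.of B)) N) :=
  letI := grpObj hu
  yonedaGrpFullyFaithful.preimageIso (X := Grp.mk (Red.bc (bm A B) (SpecOver A H)))
    (Y := Grp.mk (Red.DS (Spec (CommRingCat.of B)) N))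
    (NatIso.ofComponents (fun Y => MulEquiv.toGrpIso (bE hu hG Y.unop)) (fun {Y Y'} h => by
      ext x
      exact bE_comp hu hG h.unop x))

end split

/-- **Groups of multiplicative type from Galois modules.** -/
theorem exists_group [Fintype G] (hG : IsGal A B G) (N : Type) [AddCommGroup N] [DistribMulAction G N] :
    ∃ (T : Over (Spec (CommRingCat.of A))) (_ : GrpObj T), IsAffine T.left ∧ Nonempty (K965.Dict A B G T N) ∧
      Nonempty (Grp.mk (Red.bc (bm A B) T) ≅ Grp.mk (Red.DS (Spec (CommRingCat.of B)) N)) := by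
  obtain ⟨H, _, _, u, hu⟩ := exists_rep hG N
  exact ⟨SpecOver A H, grpObj hu, inferInstanceAs (IsAffine (Spec (CommRingCat.of H))), exists_dict hu,
    ⟨splitIso hu hG⟩⟩

end K965.LatTor
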