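import Mathlib.RingTheory.DedekindDomain.AdicValuation
import Mathlib.RingTheory.Flat.TorsionFree
import Mathlib.RingTheory.Flat.FaithfullyFlat.Algebra

/-!
# The completion of a discrete valuation ring
-/

set_option autoImplicit false
universe u

namespace K965.Adic

open IsDedekindDomain WithZero

variable {A : Type u} [CommRing A] [IsDomain A] [IsDiscreteValuationRing A] (v : HeightOneSpectrum A)
  {K : Type u} [Field K] [Algebra A K] [IsFractionRing A K]

lemma asIdeal_eq : v.asIdeal = IsLocalRing.maximalIdeal A := by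
  have h := v.isPrime.isMaximal v.ne_bot
  exact IsLocalRing.eq_maximalIdeal h

lemma val_lt_one {π : A} (hπ : IsLocalRing.maximalIdeal A = Ideal.span {π}) : v.valuation K (algebraMap A K π) < 1 := by
  rw [HeightOneSpectrum.valuation_lt_one_iff_mem, asIdeal_eq, hπ]
  exact Ideal.mem_span_singleton_self π

variable (K)

lemma isLocalHom : IsLocalHom (algebraMap A (v.adicCompletionIntegers K)) := by
  constructor
  intro a ha
  by_contra h
  have h1 : a ∈ v.asIdeal := by
    rw [asIdeal_eq]
    exact h
  rw [HeightOneSpectrum.adicCompletionIntegers.isUnit_iff_valued_eq_one] at ha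
  have h2 := HeightOneSpectrum.valuedAdicCompletion_eq_valuation (K := K) (v := v) a
  have h3 := (HeightOneSpectrum.valuation_lt_one_iff_mem (K := K) (v := v) a).2 h1
  rw [← h2] at h3
  exact h3.ne ha

lemma faithfullyFlat : Module.FaithfullyFlat A (v.adicCompletionIntegers K) := by
  have := isLocalHom v K
  exact Module.FaithfullyFlat.of_flat_of_isLocalHom

lemma exists_near (x p : v.adicCompletion K) (hp : p ≠ 0) :
    ∃ k : K, Valued.v (algebraMap K (v.adicCompletion K) k - x) < Valued.v p := by
  have h1 : {y : v.adicCompletion K | Valued.v (y - x) < Valued.v p} ∈ nhds x := by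
    rw [Valued.mem_nhds]
    refine ⟨Units.mk0 ((Valued.v : Valuation (v.adicCompletion K) ℤᵐ⁰).restrict p) (by simp [hp]), ?_⟩
    intro y hy
    exact (Valued.v : Valuation (v.adicCompletion K) ℤᵐ⁰).restrict_lt_iff.1 hy
  have h2 := HeightOneSpectrum.denseRange_algebraMap K v x
  rw [mem_closure_iff_nhds] at h2
  obtain ⟨_, hz, ⟨k, rfl⟩⟩ := h2 _ h1
  exact ⟨k, hz⟩

lemma exists_approx {π : A} (hπ0 : π ≠ 0)
    (x : v.adicCompletionIntegers K) (n : ℕ) :
    ∃ (a : A) (y : v.adicCompletionIntegers K), x = algebraMap A _ a + algebraMap A _ π ^ n * y := by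
  set p : v.adicCompletion K := algebraMap A (v.adicCompletion K) (π ^ n) with hp
  have hp0 : p ≠ 0 := by
    rw [hp, IsScalarTower.algebraMap_apply A K (v.adicCompletion K)]
    have h1 : algebraMap A K (π ^ n) ≠ 0 := by
      rw [Ne, IsFractionRing.to_map_eq_zero_iff]
      exact pow_ne_zero n hπ0
    exact (map_ne_zero _).2 h1
  have hpv : Valued.v p = v.valuation K (algebraMap A K (π ^ n)) := by
    exact HeightOneSpectrum.valuedAdicCompletion_eq_valuation (K := K) (v := v) (π ^ n)
  have hp1 : Valued.v p ≤ 1 := by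
    rw [hpv]
    exact HeightOneSpectrum.valuation_le_one v _
  obtain ⟨k, hk⟩ := exists_near v K (x : v.adicCompletion K) p hp0
  have hx1 : Valued.v (x : v.adicCompletion K) ≤ 1 := x.2
  have hk1 : v.valuation K k ≤ 1 := by
    rw [← HeightOneSpectrum.valuedAdicCompletion_eq_valuation' (v := v) k]
    have h1 : (k : v.adicCompletion K) = (algebraMap K (v.adicCompletion K) k - x) + x := by
      rw [sub_add_cancel]
      rfl
    rw [h1]
    exact (Valuation.map_add _ _ _).trans (max_le (hk.le.trans hp1) hx1)
  have hγ : v.valuation K (algebraMap A K (π ^ n)) ≠ 0 := by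
    rw [← hpv]
    exact (Valuation.ne_zero_iff _).2 hp0
  obtain ⟨a, ha⟩ := HeightOneSpectrum.exists_valuation_sub_lt_of_integer v hk1 (Units.mk0 _ hγ)
  rw [Units.val_mk0, ← hpv, ← HeightOneSpectrum.valuedAdicCompletion_eq_valuation' (v := v)] at ha
  have h2 : Valued.v ((x : v.adicCompletion K) - algebraMap A (v.adicCompletion K) a) < Valued.v p := by
    have h3 : (x : v.adicCompletion K) - algebraMap A (v.adicCompletion K) a =
        - ((algebraMap K (v.adicCompletion K) k - x) + algebraMap K (v.adicCompletion K) (algebraMap A K a - k)) := by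
      rw [IsScalarTower.algebraMap_apply A K (v.adicCompletion K), map_sub]
      ring
    rw [h3, Valuation.map_neg]
    exact (Valuation.map_add _ _ _).trans_lt (max_lt hk ha)
  refine ⟨a, ⟨((x : v.adicCompletion K) - algebraMap A (v.adicCompletion K) a) / p, ?_⟩, ?_⟩
  · rw [HeightOneSpectrum.mem_adicCompletionIntegers, map_div₀]
    exact div_le_one_of_le₀ h2.le zero_le
  · apply Subtype.ext
    change (x : v.adicCompletion K) = algebraMap A (v.adicCompletion K) a +
      algebraMap A (v.adicCompletion K) π ^ n * (((x : v.adicCompletion K) - algebraMap A (v.adicCompletion K) a) / p)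
    rw [← map_pow, ← hp, mul_div_cancel₀ _ hp0]
    ring

lemma exists_denom {π : A} (hπ : IsLocalRing.maximalIdeal A = Ideal.span {π})
    (x : v.adicCompletion K) :
    ∃ (n : ℕ) (y : v.adicCompletionIntegers K), algebraMap A (v.adicCompletion K) π ^ n * x = y := by
  obtain ⟨b, hb, hx⟩ := HeightOneSpectrum.adicCompletion.mul_nonZeroDivisor_mem_adicCompletionIntegers v x
  have hirr : Irreducible π := by
    rw [IsDiscreteValuationRing.irreducible_iff_uniformizer]
    exact hπ
  obtain ⟨n, u, hu⟩ := IsDiscreteValuationRing.eq_unit_mul_pow_irreducible (nonZeroDivisors.ne_zero hb) hirr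
  refine ⟨n, ⟨_, hx⟩ * algebraMap A (v.adicCompletionIntegers K) ((u⁻¹ : Aˣ) : A), ?_⟩
  change _ = (x * algebraMap A (v.adicCompletion K) b) * algebraMap A (v.adicCompletion K) ((u⁻¹ : Aˣ) : A)
  have h1 : algebraMap A (v.adicCompletion K) (u : A) * algebraMap A (v.adicCompletion K) ((u⁻¹ : Aˣ) : A) = 1 := by
    rw [← map_mul, Units.mul_inv, map_one]
  rw [hu, map_mul, map_pow]
  linear_combination (- (algebraMap A (v.adicCompletion K) π ^ n * x)) * h1

end K965.Adic
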