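import Groth.Agent.MultTori.K965.DictRep
import Groth.Agent.Flat2B.SmoothGeom
import Mathlib.RingTheory.Smooth.Basic

/-!
# Characters of smooth groups of multiplicative type have no torsion of order the characteristic
-/

set_option autoImplicit false
universe u
open CategoryTheory MonoidalCategory CartesianMonoidalCategory MonObj GrpObj AlgebraicGeometry Opposite
open scoped TensorProduct

namespace K965.SmoothTors

open K965.Pts K965.Alpha K965.Gal K965.Dict K965.EqRep K965.TorDom K965.LatTor K965.Dic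
open K964.UC (mB mB_comp)

variable {K : Type u} [Field K] {B : Type u} [CommRing B] [Algebra K B] {G : Type} [Group G] [Fintype G]
    [MulSemiringAction G B] [SMulCommClass G K B] (hG : IsGal K B G) {M : Over (Spec (CommRingCat.of K))} [GrpObj M]
    {Λ : Type} [AddCommGroup Λ] [DistribMulAction G Λ] [IsAffine M.left] (D : K965.Dict K B G M Λ)

include hG D in
theorem eq_zero_of_smooth [Smooth M.hom] (p : ℕ) [hp : Fact p.Prime] [CharP K p] (l : Λ) (hl : p • l = 0) : l = 0 := by
  have := hG.ff
  have := hG.et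
  let _ : Algebra K Γ(M.left, ⊤) := (strMap M).toAlgebra
  let H := Γ(M.left, ⊤)
  have hsm : Algebra.Smooth K H := by
    have h1 : Smooth (Spec.map (CommRingCat.ofHom (strMap M))) := by
      rw [spec_strMap]
      infer_instance
    have h2 : (strMap M).Smooth := (HasRingHomProperty.Spec_iff (P := @Smooth)).1 h1
    exact h2
  have hsm' : Algebra.Smooth K (H ⊗[K] B) := by
    have h1 : Algebra.Smooth H (H ⊗[K] B) := inferInstance
    exact Algebra.Smooth.comp K H (H ⊗[K] B)
  have hred : IsReduced (H ⊗[K] B) := Groth.Agent.Flat2B.SmoothGeom.isReduced_of_smooth_field K (H ⊗[K] B)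
  let w := D.ch H (upt M) l
  have hw : w = 0 := by
    apply addUnits_ext
    rcases subsingleton_or_nontrivial (H ⊗[K] B) with hs | hnt
    · exact Subsingleton.elim _ _
    have hch : CharP (H ⊗[K] B) p := charP_of_injective_algebraMap (algebraMap K (H ⊗[K] B)).injective p
    change ((w.toMul : (H ⊗[K] B)ˣ) : H ⊗[K] B) = 1
    have h1 : ((w.toMul : (H ⊗[K] B)ˣ) : H ⊗[K] B) ^ p = 1 := by
      have h2 : p • w = 0 := by
        rw [← map_nsmul, hl, map_zero]
      have h3 := congrArg (fun z : Additive (H ⊗[K] B)ˣ => ((z.toMul : (H ⊗[K] B)ˣ) : H ⊗[K] B)) h2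
      exact h3
    rw [← sub_eq_zero]
    apply eq_zero_of_pow_eq_zero (n := p)
    rw [sub_pow_char, h1, one_pow, sub_self]
  let R₂ := MonoidAlgebra B (Multiplicative Λ)
  let s₂ : B →+* R₂ := MonoidAlgebra.singleOneRingHom
  obtain ⟨χ₂, hχ₂⟩ := (crHom_bijective (N := Λ) hG s₂ rfl).2 (uc B Λ)
  obtain ⟨x₂, hx₂⟩ := D.exists_pt χ₂.1 χ₂.2
  obtain ⟨ψ, hψ, hψ'⟩ := exists_mp_upt M x₂
  let ψ' : H →ₐ[K] R₂ := { ψ with commutes' := fun a => congrArg (fun z : K →+* R₂ => z a) hψ }
  have h1 : x₂ = mp (ψ' : H →+* R₂) ψ'.comp_algebraMap ≫ upt M := hψ'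
  have h2 : χ₂.1 l = 0 := by
    rw [← hx₂, h1, D.nat, AddMonoidHom.comp_apply]
    change um _ w = 0
    rw [hw, map_zero]
  have h3 : uc B Λ l = uc B Λ 0 := by
    rw [← hχ₂, map_zero]
    apply addUnits_ext
    rw [val_crHom, h2]
    exact map_one _
  have : Nontrivial B := (FaithfulSMul.algebraMap_injective K B).nontrivial
  exact uc_injective (B := B) h3

end K965.SmoothTors
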