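import Mathlib.Algebra.Module.Torsion.Basic
import Mathlib.Algebra.Module.PID
import Mathlib.LinearAlgebra.FreeModule.PID
import Mathlib.GroupTheory.Perm.Cycle.Type
import Mathlib.Algebra.Module.Projective
import Mathlib.GroupTheory.FiniteAbelian.Basic

/-!
# Quasi-retractions of embeddings of lattices
-/

set_option autoImplicit false

namespace K965.TorsRet

theorem exists_retr {P F Λ : Type} [AddCommGroup P] [AddCommGroup F] [AddCommGroup Λ] [Module.Finite ℤ Λ]
    (i : P →ₗ[ℤ] F) (π : F →ₗ[ℤ] Λ) (hinj : Function.Injective i) (hsurj : Function.Surjective π)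
    (hex : LinearMap.range i = LinearMap.ker π) :
    ∃ (m : ℕ) (r : F →ₗ[ℤ] P), (∀ y, r (i y) = m • y) ∧ m ≠ 0 ∧
      ∀ p : ℕ, p.Prime → p ∣ m → ∃ l : Λ, l ≠ 0 ∧ p • l = 0 := by
  classical
  let T := Submodule.torsion ℤ Λ
  have hTf : Module.Finite ℤ T := inferInstance
  have hTt : Module.IsTorsion ℤ T := Submodule.torsion_isTorsion
  have hfin : _root_.Finite T := Module.finite_of_fg_torsion T hTt
  have htf : Module.IsTorsionFree ℤ (Λ ⧸ T) := inferInstance
  have hfree : Module.Free ℤ (Λ ⧸ T) := inferInstance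
  let πb : F →ₗ[ℤ] Λ ⧸ T := T.mkQ.comp π
  have hπb : Function.Surjective πb := (Submodule.mkQ_surjective T).comp hsurj
  obtain ⟨s, hs⟩ := Module.projective_lifting_property πb LinearMap.id hπb
  have hs' : ∀ x, πb (s x) = x := fun x => congr($hs x)
  let m := Nat.card T
  have h1 : ∀ x : F, (m : ℤ) • (x - s (πb x)) ∈ LinearMap.range i := by
    intro x
    rw [hex, LinearMap.mem_ker, map_smul]
    have h2 : π (x - s (πb x)) ∈ T := by
      rw [← Submodule.Quotient.mk_eq_zero]
      change πb (x - s (πb x)) = 0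
      rw [map_sub, hs', sub_self]
    have h3 : m • (⟨_, h2⟩ : T) = 0 := card_nsmul_eq_zero'
    have h4 := congrArg Subtype.val h3
    rw [natCast_zsmul]
    exact h4
  let e := LinearEquiv.ofInjective i hinj
  let r₀ : F →ₗ[ℤ] LinearMap.range i := LinearMap.codRestrict (LinearMap.range i)
    ((m : ℤ) • (LinearMap.id - s.comp πb)) h1
  refine ⟨m, (e.symm : LinearMap.range i →ₗ[ℤ] P).comp r₀, fun y => ?_, Nat.card_pos.ne', fun p hp hpm => ?_⟩
  · change e.symm (r₀ (i y)) = m • y
    apply e.injective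
    rw [LinearEquiv.apply_symm_apply, map_nsmul]
    apply Subtype.ext
    have h2 : πb (i y) = 0 := by
      have h3 : π (i y) = 0 := by
        rw [← LinearMap.mem_ker, ← hex]
        exact ⟨y, rfl⟩
      change T.mkQ (π (i y)) = 0
      rw [h3, map_zero]
    change (m : ℤ) • (i y - s (πb (i y))) = ((m • e y : LinearMap.range i) : F)
    rw [h2, map_zero, sub_zero, natCast_zsmul]
    rfl
  · have : Fact p.Prime := ⟨hp⟩
    have := Fintype.ofFinite T
    obtain ⟨x, hx⟩ := exists_prime_addOrderOf_dvd_card' (G := T) p hpm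
    refine ⟨x, ?_, ?_⟩
    · intro h0
      have h2 : x = 0 := Subtype.ext h0
      rw [h2, addOrderOf_zero] at hx
      exact hp.one_lt.ne hx
    · have h2 : p • x = 0 := by
        rw [← hx]
        exact addOrderOf_nsmul_eq_zero x
      exact congrArg Subtype.val h2

end K965.TorsRet
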