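import Groth.Agent.Sga3B.DSPts
import Groth.Prelude.Def_TwC

/-!
# Points of split groups of multiplicative type with values in rings

* `sp φ`: `Spec R` over `Spec A` through `φ : A →+* R`; `mp ψ h`: the morphism given by a ring map.
* `ch a e s h x : M →+ Additive Rˣ`: the character of a point `x : sp φ ⟶ T`, where `T` is a group scheme over `Spec A`
  with `e : T_{A'} ≅ D(M)`, `a : A →+* A'`, `s : A' →+* R`, `h : s.comp a = φ`.
-/

set_option autoImplicit false
universe u
open CategoryTheory MonoidalCategory CartesianMonoidalCategory MonObj GrpObj AlgebraicGeometry Limits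

namespace K965.Pts

open Groth.Agent.Sga3B.DSPts

variable {A : Type u} [CommRing A]

/-- `Spec R` over `Spec A`. -/
noncomputable abbrev sp {R : Type u} [CommRing R] (φ : A →+* R) : Over (Spec (CommRingCat.of A)) :=
  Over.mk (Spec.map (CommRingCat.ofHom φ))

/-- the morphism over `Spec A` given by a ring map -/
noncomputable def mp {R R' : Type u} [CommRing R] [CommRing R'] {φ : A →+* R} {φ' : A →+* R'} (ψ : R →+* R')
    (h : ψ.comp φ = φ') : sp φ' ⟶ sp φ :=
  Over.homMk (Spec.map (CommRingCat.ofHom ψ)) (by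
    subst h
    exact (Spec.map_comp (CommRingCat.ofHom φ) (CommRingCat.ofHom ψ)).symm)

@[simp] lemma mp_left {R R' : Type u} [CommRing R] [CommRing R'] {φ : A →+* R} {φ' : A →+* R'} (ψ : R →+* R')
    (h : ψ.comp φ = φ') : (mp ψ h).left = Spec.map (CommRingCat.ofHom ψ) := rfl

lemma mp_comp {R R' R'' : Type u} [CommRing R] [CommRing R'] [CommRing R''] {φ : A →+* R} {φ' : A →+* R'}
    {φ'' : A →+* R''} (ψ : R →+* R') (h : ψ.comp φ = φ') (ψ' : R' →+* R'') (h' : ψ'.comp φ' = φ'')
    (h'' : (ψ'.comp ψ).comp φ = φ'') :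
    mp ψ' h' ≫ mp ψ h = mp (ψ'.comp ψ) h'' := by
  ext1
  exact (Spec.map_comp (CommRingCat.ofHom ψ) (CommRingCat.ofHom ψ')).symm

lemma mp_id {R : Type u} [CommRing R] {φ : A →+* R} (h : (RingHom.id R).comp φ = φ) :
    mp (RingHom.id R) h = 𝟙 (sp φ) := by
  ext1
  exact Spec.map_id _

/-- Every morphism over `Spec A` comes from a unique ring map. -/
lemma exists_mp {R R' : Type u} [CommRing R] [CommRing R'] {φ : A →+* R} {φ' : A →+* R'} (f : sp φ' ⟶ sp φ) :
    ∃ (ψ : R →+* R') (h : ψ.comp φ = φ'), f = mp ψ h := by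
  refine ⟨(Spec.preimage f.left).hom, ?_, ?_⟩
  · have h1 := Over.w f
    change f.left ≫ Spec.map _ = Spec.map _ at h1
    rw [← Spec.map_preimage f.left, ← Spec.map_comp] at h1
    exact congrArg CommRingCat.Hom.hom (Spec.map_injective h1)
  · ext1
    exact (Spec.map_preimage f.left).symm

section split

variable {A' : Type u} [CommRing A'] (a : A →+* A') {M : Type} [AddCommGroup M]
  {T : Over (Spec (CommRingCat.of A))} [GrpObj T]
  (e : Grp.mk (Red.bc (Spec.map (CommRingCat.ofHom a)) T) ≅ Grp.mk (Red.DS (Spec (CommRingCat.of A')) M))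

variable {R : Type u} [CommRing R] (s : A' →+* R) {φ : A →+* R} (h : s.comp a = φ)

/-- Comparison of the two ways to view `Spec R` over `Spec A`. -/
noncomputable def cmp : (Over.map (Spec.map (CommRingCat.ofHom a))).obj (sp s) ≅ sp φ :=
  Over.isoMk (Iso.refl _) (by
    subst h
    change 𝟙 _ ≫ _ = _
    rw [Category.id_comp]
    exact Spec.map_comp (CommRingCat.ofHom a) (CommRingCat.ofHom s))

@[simp] lemma cmp_hom_left : (cmp a s h).hom.left = 𝟙 _ := rfl

/-- the underlying morphism -/
noncomputable abbrev eh : Red.bc (Spec.map (CommRingCat.ofHom a)) T ⟶ Red.DS (Spec (CommRingCat.of A')) M :=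
  e.hom.hom.hom

/-- the underlying inverse morphism -/
noncomputable abbrev ei : Red.DS (Spec (CommRingCat.of A')) M ⟶ Red.bc (Spec.map (CommRingCat.ofHom a)) T :=
  e.inv.hom.hom

lemma eh_ei : eh a e ≫ ei a e = 𝟙 _ := congrArg (fun z => z.hom.hom) e.hom_inv_id

lemma ei_eh : ei a e ≫ eh a e = 𝟙 _ := congrArg (fun z => z.hom.hom) e.inv_hom_id

instance : IsMonHom (eh a e) := e.hom.hom.isMonHom_hom

instance : IsMonHom (ei a e) := e.inv.hom.isMonHom_hom

/-- The isomorphism on points. -/
noncomputable def chE : (sp φ ⟶ T) ≃* (Multiplicative M →* Γ((sp s).left, ⊤)) where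
  toFun x := dsChar (bcEquiv (Spec.map (CommRingCat.ofHom a)) (sp s) T ((cmp a s h).hom ≫ x) ≫ eh a e)
  invFun χ := (cmp a s h).inv ≫ (bcEquiv (Spec.map (CommRingCat.ofHom a)) (sp s) T).symm
    (dsEquiv (sp s) M χ ≫ ei a e)
  left_inv x := by
    beta_reduce
    rw [dsEquiv_dsChar, Category.assoc, eh_ei, Category.comp_id, MulEquiv.symm_apply_apply,
      Iso.inv_hom_id_assoc]
  right_inv χ := by
    beta_reduce
    rw [Iso.hom_inv_id_assoc, MulEquiv.apply_symm_apply, Category.assoc, ei_eh, Category.comp_id,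
      dsChar_dsEquiv]
  map_mul' x y := by
    have h1 : ∀ u v : sp s ⟶ Red.bc (Spec.map (CommRingCat.ofHom a)) T,
        (u * v) ≫ eh a e = (u ≫ eh a e) * (v ≫ eh a e) := fun u v => MonObj.mul_comp _ _ _
    rw [← dsChar_mul, MonObj.comp_mul, map_mul, h1]

/-- global functions of a spectrum -/
noncomputable def gam (s : A' →+* R) : Γ((sp s).left, ⊤) ≃+* R :=
  (Scheme.ΓSpecIso (CommRingCat.of R)).commRingCatIsoToRingEquiv

lemma gam_naturality {R' : Type u} [CommRing R'] {s' : A' →+* R'} (ψ : R →+* R') (hs : ψ.comp s = s')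
    (r : Γ((sp s).left, ⊤)) :
    gam s' ((mp ψ hs).left.appTop.hom r) = ψ (gam s r) :=
  congr($(Scheme.ΓSpecIso_naturality (CommRingCat.ofHom ψ)).hom r)

/-- The character of a point of `T`, as a homomorphism to the units. -/
noncomputable def ch (x : sp φ ⟶ T) : M →+ Additive Rˣ :=
  MonoidHom.toAdditiveRight (MonoidHom.toHomUnits
    (((gam s : Γ((sp s).left, ⊤) →* R)).comp (chE a e s h x)))

lemma val_ch (x : sp φ ⟶ T) (m : M) :
    ((ch a e s h x m).toMul : R) = gam s (chE a e s h x (Multiplicative.ofAdd m)) := rfl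

lemma ch_mul (x y : sp φ ⟶ T) : ch a e s h (x * y) = ch a e s h x + ch a e s h y := by
  ext m
  change gam s _ = gam s _ * gam s _
  rw [map_mul, ← map_mul (gam s)]
  rfl

lemma ch_injective : Function.Injective (ch a e s h) := by
  intro x y hxy
  apply (chE a e s h).injective
  ext m
  apply (gam s).injective
  exact congrArg (fun z : Additive Rˣ => (z.toMul : R)) (DFunLike.congr_fun hxy (Multiplicative.toAdd m))

lemma ch_surjective : Function.Surjective (ch a e s h) := by
  intro χ
  let χ' : Multiplicative M →* Γ((sp s).left, ⊤) :=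
    ((gam s).symm : R →* Γ((sp s).left, ⊤)).comp ((Units.coeHom R).comp (AddMonoidHom.toMultiplicativeLeft χ))
  refine ⟨(chE a e s h).symm χ', ?_⟩
  ext m
  rw [val_ch, MulEquiv.apply_symm_apply]
  exact (gam s).apply_symm_apply _

/-- the map on units, additively -/
noncomputable def um {R R' : Type u} [CommRing R] [CommRing R'] (ψ : R →+* R') : Additive Rˣ →+ Additive R'ˣ :=
  MonoidHom.toAdditive (Units.map (ψ : R →* R'))

@[simp] lemma val_um {R R' : Type u} [CommRing R] [CommRing R'] (ψ : R →+* R') (x : Additive Rˣ) :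
    ((um ψ x).toMul : R') = ψ (x.toMul : R) := rfl

lemma um_id {R : Type u} [CommRing R] (x : Additive Rˣ) : um (RingHom.id R) x = x := rfl

lemma um_um {R R' R'' : Type u} [CommRing R] [CommRing R'] [CommRing R''] (ψ : R →+* R') (ψ' : R' →+* R'')
    (x : Additive Rˣ) : um ψ' (um ψ x) = um (ψ'.comp ψ) x := rfl

lemma addUnits_ext {R : Type u} [CommRing R] {x y : Additive Rˣ} (h : (x.toMul : R) = y.toMul) : x = y :=
  Additive.toMul.injective (Units.ext h)

/-- Naturality of the character. -/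
lemma ch_mp {R' : Type u} [CommRing R'] {s' : A' →+* R'} {φ' : A →+* R'} (ψ : R →+* R') (hs : ψ.comp s = s')
    (h' : s'.comp a = φ') (hφ : ψ.comp φ = φ') (x : sp φ ⟶ T) :
    ch a e s' h' (mp ψ hφ ≫ x) = (um ψ).comp (ch a e s h x) := by
  ext1 m
  apply addUnits_ext
  rw [AddMonoidHom.comp_apply, val_um, val_ch, val_ch, ← gam_naturality (s := s) (s' := s') ψ hs]
  congr 1
  have h1 : (cmp a s' h').hom ≫ mp ψ hφ ≫ x = (Over.map (Spec.map (CommRingCat.ofHom a))).map (mp ψ hs) ≫
      (cmp a s h).hom ≫ x := by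
    rw [← Category.assoc, ← Category.assoc]
    congr 1
  change dsChar (bcEquiv (Spec.map (CommRingCat.ofHom a)) (sp s') T ((cmp a s' h').hom ≫ mp ψ hφ ≫ x) ≫ eh a e) _ = _
  rw [h1, ← bcEquiv_naturality, Category.assoc, dsChar_comp]
  rfl

end split

end K965.Pts
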