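import Groth.Agent.MultTori.K965.Pts

/-!
# Natural transformations between character functors over a connected ring

`exists_of_natural`: a natural additive map `Hom(M, Rˣ) → Hom(N, Rˣ)`, for `R` over a connected ring `A'`, is the
composition with a homomorphism `N →+ M`.
`exists_alpha`: an automorphism of `A'` over `A` acts on the characters of a group over `A` split by `A'`.
-/

set_option autoImplicit false
universe u
open CategoryTheory MonoidalCategory CartesianMonoidalCategory MonObj GrpObj AlgebraicGeometry Limits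

namespace K965.Alpha

open K965.Pts

section grouplike

variable {B : Type u} [CommRing B] {Γ : Type} [CommGroup Γ]

/-- ring map of monoid algebras -/
noncomputable abbrev mdr (B : Type u) [CommRing B] {Γ Γ' : Type} [CommGroup Γ] [CommGroup Γ'] (f : Γ →* Γ') :
    MonoidAlgebra B Γ →+* MonoidAlgebra B Γ' :=
  MonoidAlgebra.mapDomainRingHom B f

lemma mdr_single {Γ' : Type} [CommGroup Γ'] (f : Γ →* Γ') (γ : Γ) (b : B) :
    mdr B f (MonoidAlgebra.single γ b) = MonoidAlgebra.single (f γ) b := by
  simp [mdr]

lemma coeff_diag [DecidableEq Γ] (x : MonoidAlgebra B Γ) (γ γ' : Γ) :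
    (mdr B ((MonoidHom.id Γ).prod (MonoidHom.id Γ)) x).coeff (γ, γ') = if γ = γ' then x.coeff γ else 0 := by
  classical
  induction x using MonoidAlgebra.induction_linear with
  | zero => simp
  | add f g hf hg =>
    rw [map_add, MonoidAlgebra.coeff_add, Finsupp.add_apply, hf, hg]
    split_ifs <;> simp
  | single δ r =>
    rw [mdr_single, MonoidAlgebra.coeff_single, MonoidAlgebra.coeff_single, Finsupp.single_apply,
      Finsupp.single_apply]
    simp only [MonoidHom.prod_apply, MonoidHom.id_apply, Prod.mk.injEq]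
    by_cases h : γ = γ'
    · subst h; simp
    · rw [if_neg h, if_neg]
      rintro ⟨h1, h2⟩
      exact h (h1.symm.trans h2)

lemma coeff_inl_mul_inr (x y : MonoidAlgebra B Γ) (γ γ' : Γ) :
    (mdr B (MonoidHom.inl Γ Γ) x * mdr B (MonoidHom.inr Γ Γ) y).coeff (γ, γ') = x.coeff γ * y.coeff γ' := by
  classical
  induction x using MonoidAlgebra.induction_linear with
  | zero => simp
  | add f g hf hg =>
    rw [map_add, add_mul, MonoidAlgebra.coeff_add, Finsupp.add_apply, hf, hg, MonoidAlgebra.coeff_add,
      Finsupp.add_apply, add_mul]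
  | single δ r =>
    induction y using MonoidAlgebra.induction_linear with
    | zero => simp
    | add f g hf hg =>
      rw [map_add, mul_add, MonoidAlgebra.coeff_add, Finsupp.add_apply, hf, hg, MonoidAlgebra.coeff_add,
        Finsupp.add_apply, mul_add]
    | single δ' r' =>
      rw [mdr_single, mdr_single, MonoidAlgebra.single_mul_single]
      simp only [MonoidHom.inl_apply, MonoidHom.inr_apply, Prod.mk_mul_mk, _root_.mul_one, _root_.one_mul,
        MonoidAlgebra.coeff_single, Finsupp.single_apply, Prod.mk.injEq]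
      split_ifs <;> simp_all

/-- A nonzero group-like element of the group algebra over a connected ring is a group element. -/
lemma exists_eq_single [Nontrivial B] (hB : ∀ x : B, x * x = x → x = 0 ∨ x = 1) (x : MonoidAlgebra B Γ) (hx : x ≠ 0)
    (h : mdr B ((MonoidHom.id Γ).prod (MonoidHom.id Γ)) x =
      mdr B (MonoidHom.inl Γ Γ) x * mdr B (MonoidHom.inr Γ Γ) x) :
    ∃ γ, x = MonoidAlgebra.single γ 1 := by
  classical
  have key : ∀ γ γ', x.coeff γ * x.coeff γ' = if γ = γ' then x.coeff γ else 0 := by
    intro γ γ'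
    rw [← coeff_inl_mul_inr, ← coeff_diag, h]
  obtain ⟨γ, hγ⟩ : ∃ γ, x.coeff γ ≠ 0 := by
    by_contra hne
    push Not at hne
    apply hx
    ext γ
    simpa using hne γ
  have h1 : x.coeff γ = 1 := by
    rcases hB (x.coeff γ) (by rw [key, if_pos rfl]) with h0 | h0
    · exact absurd h0 hγ
    · exact h0
  refine ⟨γ, ?_⟩
  ext γ'
  rw [MonoidAlgebra.coeff_single, Finsupp.single_apply]
  have := key γ γ'
  rw [h1, _root_.one_mul] at this
  rw [this]

end grouplike

section natural

variable {B : Type u} [CommRing B] {M N : Type} [AddCommGroup M] [AddCommGroup N]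

/-- the universal character -/
noncomputable def uc (B : Type u) [CommRing B] (M : Type) [AddCommGroup M] :
    M →+ Additive (MonoidAlgebra B (Multiplicative M))ˣ :=
  MonoidHom.toAdditiveRight (MonoidHom.toHomUnits (MonoidAlgebra.of B (Multiplicative M)))

@[simp] lemma val_uc (m : M) :
    ((uc B M m).toMul : MonoidAlgebra B (Multiplicative M)) = MonoidAlgebra.single (Multiplicative.ofAdd m) 1 := rfl

/-- the ring map attached to a character -/
noncomputable def ev {R : Type u} [CommRing R] (s : B →+* R) (χ : M →+ Additive Rˣ) :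
    MonoidAlgebra B (Multiplicative M) →+* R :=
  MonoidAlgebra.liftNCRingHom s ((Units.coeHom R).comp (AddMonoidHom.toMultiplicativeLeft χ))
    (fun _ _ => Commute.all _ _)

lemma ev_single {R : Type u} [CommRing R] (s : B →+* R) (χ : M →+ Additive Rˣ) (m : M) (b : B) :
    ev s χ (MonoidAlgebra.single (Multiplicative.ofAdd m) b) = s b * ((χ m).toMul : R) := by
  simp [ev]

lemma ev_comp {R : Type u} [CommRing R] (s : B →+* R) (χ : M →+ Additive Rˣ) :
    (ev s χ).comp MonoidAlgebra.singleOneRingHom = s := by
  ext b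
  have := ev_single s χ 0 b
  rw [map_zero χ] at this
  exact this.trans (_root_.mul_one _)

lemma um_ev_uc {R : Type u} [CommRing R] (s : B →+* R) (χ : M →+ Additive Rˣ) :
    (um (ev s χ)).comp (uc B M) = χ := by
  ext1 m
  apply addUnits_ext
  rw [AddMonoidHom.comp_apply, val_um, val_uc, ev_single, map_one, _root_.one_mul]

theorem exists_of_natural [Nontrivial B] (hB : ∀ x : B, x * x = x → x = 0 ∨ x = 1)
    (F : ∀ {R : Type u} [CommRing R] (_ : B →+* R), (M →+ Additive Rˣ) → (N →+ Additive Rˣ))
    (hadd : ∀ {R : Type u} [CommRing R] (s : B →+* R) (χ χ' : M →+ Additive Rˣ), F s (χ + χ') = F s χ + F s χ')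
    (hnat : ∀ {R R' : Type u} [CommRing R] [CommRing R'] (s : B →+* R) (ψ : R →+* R') (χ : M →+ Additive Rˣ),
      F (ψ.comp s) ((um ψ).comp χ) = (um ψ).comp (F s χ)) :
    ∃ α : N →+ M, ∀ {R : Type u} [CommRing R] (s : B →+* R) (χ : M →+ Additive Rˣ), F s χ = χ.comp α := by
  classical
  let s₀ : B →+* MonoidAlgebra B (Multiplicative M) := MonoidAlgebra.singleOneRingHom
  let χ' : N →+ Additive (MonoidAlgebra B (Multiplicative M))ˣ := F s₀ (uc B M)
  have h2 : (mdr B ((MonoidHom.id (Multiplicative M)).prod (MonoidHom.id (Multiplicative M)))).comp s₀ =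
      (mdr B (MonoidHom.inl (Multiplicative M) (Multiplicative M))).comp s₀ := by
    ext b
    simp [s₀]
  have h3 : (mdr B (MonoidHom.inr (Multiplicative M) (Multiplicative M))).comp s₀ =
      (mdr B (MonoidHom.inl (Multiplicative M) (Multiplicative M))).comp s₀ := by
    ext b
    simp [s₀]
  have key : (um (mdr B ((MonoidHom.id (Multiplicative M)).prod (MonoidHom.id (Multiplicative M))))).comp χ' =
      (um (mdr B (MonoidHom.inl (Multiplicative M) (Multiplicative M)))).comp χ' +
      (um (mdr B (MonoidHom.inr (Multiplicative M) (Multiplicative M)))).comp χ' := by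
    rw [← hnat, ← hnat, ← hnat, h2, h3, ← hadd]
    congr 1
    ext1 m
    apply addUnits_ext
    change mdr B _ (MonoidAlgebra.single _ _) = mdr B _ (MonoidAlgebra.single _ _) * mdr B _ (MonoidAlgebra.single _ _)
    rw [mdr_single, mdr_single, mdr_single, MonoidAlgebra.single_mul_single]
    simp
  have hex : ∀ n : N, ∃ m : M, χ' n = uc B M m := by
    intro n
    obtain ⟨γ, hγ⟩ := exists_eq_single hB ((χ' n).toMul : MonoidAlgebra B (Multiplicative M)) (Units.ne_zero _)
      (congrArg (fun z : Additive (MonoidAlgebra B (Multiplicative M × Multiplicative M))ˣ =>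
        (z.toMul : MonoidAlgebra B (Multiplicative M × Multiplicative M))) (DFunLike.congr_fun key n))
    exact ⟨Multiplicative.toAdd γ, addUnits_ext hγ⟩
  have hinj : Function.Injective (uc B M) := by
    intro m m' h
    have h1 := congrArg (fun z : Additive (MonoidAlgebra B (Multiplicative M))ˣ =>
        (z.toMul : MonoidAlgebra B (Multiplicative M))) h
    exact Multiplicative.ofAdd.injective (MonoidAlgebra.of_injective h1)
  choose α hα using hex
  let α' : N →+ M :=
    { toFun := α
      map_zero' := hinj (by rw [← hα, map_zero, map_zero])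
      map_add' := fun x y => hinj (by rw [← hα, map_add, map_add, ← hα, ← hα]) }
  have hα' : χ' = (uc B M).comp α' := by
    ext1 n
    exact hα n
  refine ⟨α', fun {R} _ s χ => ?_⟩
  have h1 : F s χ = (um (ev s χ)).comp χ' := by
    rw [← hnat, um_ev_uc]
    congr 1
    exact (ev_comp s χ).symm
  rw [h1, hα', ← AddMonoidHom.comp_assoc, um_ev_uc]

end natural

section alpha

variable {A A' : Type u} [CommRing A] [CommRing A'] (a : A →+* A') {M : Type} [AddCommGroup M]
  {T : Over (Spec (CommRingCat.of A))} [GrpObj T]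
  (e : Grp.mk (Red.bc (Spec.map (CommRingCat.ofHom a)) T) ≅ Grp.mk (Red.DS (Spec (CommRingCat.of A')) M))

/-- An endomorphism of `A'` over `A` acts on the characters. -/
theorem exists_alpha [Nontrivial A'] (hA' : ∀ x : A', x * x = x → x = 0 ∨ x = 1) (σ : A' →+* A')
    (hσ : σ.comp a = a) :
    ∃ α : M →+ M, ∀ {R : Type u} [CommRing R] (s : A' →+* R) {φ : A →+* R} (h : s.comp a = φ)
      (h' : (s.comp σ).comp a = φ) (x : sp φ ⟶ T),
      ch a e (s.comp σ) h' x = (ch a e s h x).comp α := by
  have hh : ∀ {R : Type u} [CommRing R] (s : A' →+* R), (s.comp σ).comp a = s.comp a := by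
    intro R _ s
    rw [RingHom.comp_assoc, hσ]
  obtain ⟨α, hα⟩ := exists_of_natural (M := M) (N := M) hA'
    (fun {R} _ s χ => ch a e (s.comp σ) (hh s) (Function.surjInv (ch_surjective a e s rfl) χ))
    (by
      intro R _ s χ χ'
      rw [← ch_mul]
      congr 1
      apply ch_injective a e s rfl
      rw [ch_mul]
      simp only [Function.surjInv_eq])
    (by
      intro R R' _ _ s ψ χ
      rw [← ch_mp a e (s.comp σ) (hh s) (s' := (ψ.comp s).comp σ) ψ rfl (hh (ψ.comp s)) rfl]
      congr 1
      apply ch_injective a e (ψ.comp s) rfl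
      rw [ch_mp a e s rfl ψ rfl rfl]
      simp only [Function.surjInv_eq])
  refine ⟨α, ?_⟩
  intro R _ s φ h h' x
  subst h
  rw [← hα s]
  congr 1
  apply ch_injective a e s rfl
  simp only [Function.surjInv_eq]

end alpha

end K965.Alpha
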