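import Groth.Agent.MultTori.K965.Thick
import Groth.Agent.MultTori.K964.BcPt

/-!
# Translating points into thick sets, over semilocal algebras
-/

set_option autoImplicit false
universe u
open CategoryTheory MonoidalCategory CartesianMonoidalCategory MonObj GrpObj AlgebraicGeometry Opposite
open scoped TensorProduct

namespace K965.Translate

open K965.Pts K965.Alpha K965.Gal K965.Dict K965.EqRep K965.TorDom K965.BcGal K965.LatX K965.FreeX K965.Thick
open K964.UC (mB mB_comp)
open K964.Pt K964.AffPt K964.BcPt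

/-- Translation over an algebra over a connected ring. -/
theorem exists_conn {A₀ : Type u} [CommRing A₀] [ConnectedSpace (Spec (CommRingCat.of A₀))]
    (T : Over (Spec (CommRingCat.of A₀))) [GrpObj T] {r : ℕ}
    (hT : TwC.Locally (Spec (CommRingCat.of A₀)) .finiteEtale
        (fun _ g => Red.IsSplitTorusWith (Fin r → ℤ) (Red.bc g T)))
    {A : Type u} [CommRing A] [Algebra A₀ A] {I : Type*} [Finite I] {κ : I → Type u} [∀ i, Field (κ i)]
    [∀ i, Algebra A₀ (κ i)] (q : ∀ i, A →ₐ[A₀] κ i) (hq : ∀ i, Function.Surjective (q i))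
    (hinj : ∀ i j, RingHom.ker (q i) = RingHom.ker (q j) → i = j)
    (hex : ∀ m : Ideal A, m.IsMaximal → ∃ i, RingHom.ker (q i) = m)
    (W : ∀ i, Set (sp (algebraMap A₀ (κ i)) ⟶ T)) (hW : ∀ i, Thick T (W i))
    (u : ∀ i, sp (algebraMap A₀ (κ i)) ⟶ T) :
    ∃ t : sp (algebraMap A₀ A) ⟶ T, ∀ i, ∃ x ∈ W i, x * (ap (q i) ≫ t) = u i := by
  have haff : IsAffineHom T.hom :=
    Groth.Agent.Sga3B.TorusAlgClosed.isAffineHom_of_isTorus (Dic.isTorus_of_isotrivial hT)
  have haff' : IsAffine T.left := isAffine_of_isAffineHom T.hom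
  obtain ⟨B, _, _, G, _, _, _, _, _, hG, -, ⟨D⟩⟩ := Dic.exists_dict T hT
  have := hG.fin
  choose p hp x hx hxp using fun i => exists_mem hG D (W i) (hW i) (u i)
  obtain ⟨P, hP, hPp⟩ := FreeX.exists_lift q hq hinj hex p hp
  obtain ⟨t, ht⟩ := D.exists_pt (P.comp (jF G r)) (eqv_comp hP _ jF_smul)
  refine ⟨t, fun i => ⟨x i, hx i, ?_⟩⟩
  apply D.ch_inj
  rw [D.ch_mul]
  refine DFunLike.ext _ _ fun n => ?_
  rw [← hxp i n, ← hPp i]
  have h1 : D.ch (κ i) (ap (q i) ≫ t) = push (q i) (D.ch A t) := D.nat (q i) t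
  rw [AddMonoidHom.add_apply, h1, ht]
  rfl

/-- Isotriviality is stable under base change. -/
theorem locally_bc {S S₁ : Scheme.{u}} (g : S₁ ⟶ S) (T : Over S) [GrpObj T] {r : ℕ}
    (hT : TwC.Locally S .finiteEtale (fun _ f => Red.IsSplitTorusWith (Fin r → ℤ) (Red.bc f T))) :
    TwC.Locally S₁ .finiteEtale (fun _ f => Red.IsSplitTorusWith (Fin r → ℤ) (Red.bc f (Red.bc g T))) := by
  obtain ⟨S', f, hf1, hf2, hf3, h⟩ := hT
  refine ⟨Limits.pullback f g, Limits.pullback.snd f g, inferInstance, inferInstance, inferInstance, fun s' => ?_⟩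
  obtain ⟨U, hU, hcl, hs⟩ := h ((Limits.pullback.fst f g).base s')
  refine ⟨(Limits.pullback.fst f g) ⁻¹ᵁ U, hU, hcl.preimage (Limits.pullback.fst f g).continuous, ?_⟩
  obtain ⟨e⟩ := Groth.Agent.Sga3B.TorusAlgClosed.isSplitTorusWith_bc ((Limits.pullback.fst f g) ∣_ U) hs
  have h1 : (((Limits.pullback.fst f g) ⁻¹ᵁ U).ι ≫ Limits.pullback.snd f g) ≫ g =
      ((Limits.pullback.fst f g) ∣_ U) ≫ (U.ι ≫ f) := by
    rw [Category.assoc, ← Limits.pullback.condition, ← Category.assoc, ← Category.assoc, morphismRestrict_ι]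
  exact ⟨(Groth.Agent.Sga3B.BcIso.bcCompIso _ g T).symm ≪≫ Groth.Agent.Sga3B.BcIso.bcCongrIso h1 T ≪≫
    Groth.Agent.Sga3B.BcIso.bcCompIso _ (U.ι ≫ f) T ≪≫ e⟩

lemma ubp_left {A R : Type u} [CommRing A] [CommRing R] [Algebra A R]
    {T : Type u} [CommRing T] [Algebra A T] [Algebra R T] [IsScalarTower A R T] {X : Over (Spec (CommRingCat.of A))}
    (y : sp (algebraMap R T) ⟶ Red.bc (tb A R) X) :
    (ubp y).left = y.left ≫ Limits.pullback.fst X.hom (tb A R) := by
  have h1 : (ubp y).left = 𝟙 _ ≫ (((Over.mapPullbackAdj (tb A R)).homEquiv (sp (algebraMap R T)) X).symm y).left := rfl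
  rw [h1, Category.id_comp, Adjunction.homEquiv_counit, Over.comp_left]
  congr 1

/-- Thick sets of points of the base change. -/
lemma thick_bc {A R : Type u} [CommRing A] [CommRing R] [Algebra A R] {κ : Type u} [Field κ] [Algebra A κ] [Algebra R κ]
    [IsScalarTower A R κ] {T : Over (Spec (CommRingCat.of A))} (W : Set (sp (algebraMap A κ) ⟶ T)) (hW : Thick T W) :
    Thick (Red.bc (tb A R) T) {y : sp (algebraMap R κ) ⟶ Red.bc (tb A R) T | ubp y ∈ W} := by
  rcases hW with ⟨hfin, v, hv⟩ | ⟨hinf, U, ⟨t, htU, y, hty⟩, hU⟩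
  · refine Or.inl ⟨hfin, bp v, ?_⟩
    change ubp (bp v) ∈ W
    rw [ubp_bp]
    exact hv
  · refine Or.inr ⟨hinf, (Limits.pullback.fst T.hom (tb A R)) ⁻¹ᵁ U, ?_, ?_⟩
    · have h1 : T.hom.base t = (tb A R).base ((Spec.map (CommRingCat.ofHom (algebraMap R κ))).base y) := by
        rw [hty]
        have h2 : Spec.map (CommRingCat.ofHom (algebraMap A κ)) =
            Spec.map (CommRingCat.ofHom (algebraMap R κ)) ≫ tb A R := by
          rw [← Spec.map_comp, ← CommRingCat.ofHom_comp, ← IsScalarTower.algebraMap_eq]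
        rw [h2]
        rfl
      obtain ⟨z, hz1, hz2⟩ := Scheme.Pullback.exists_preimage_pullback t _ h1
      refine ⟨z, ?_, y, hz2⟩
      change (Limits.pullback.fst T.hom (tb A R)).base z ∈ U
      rw [hz1]
      exact htU
    · intro x hx
      apply hU
      intro y
      rw [ubp_left]
      exact hx y

/-- Gluing points along an idempotent. -/
lemma exists_glue {A : Type u} [CommRing A] {T : Over (Spec (CommRingCat.of A))} [IsAffine T.left] (e : A)
    (he : e * e = e) (x : sp (algebraMap A (A ⧸ Ideal.span {e})) ⟶ T)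
    (y : sp (algebraMap A (A ⧸ Ideal.span {1 - e})) ⟶ T) :
    ∃ t : sp (algebraMap A A) ⟶ T, ap (Algebra.ofId A (A ⧸ Ideal.span {e})) ≫ t = x ∧
      ap (Algebra.ofId A (A ⧸ Ideal.span {1 - e})) ≫ t = y := by
  obtain ⟨ψ₁, h₁, rfl⟩ := exists_mp_upt T x
  obtain ⟨ψ₂, h₂, rfl⟩ := exists_mp_upt T y
  let m₁ := Ideal.Quotient.mk (Ideal.span {e})
  let m₂ := Ideal.Quotient.mk (Ideal.span {1 - e})
  have hinj : ∀ a b : A, m₁ a = m₁ b → m₂ a = m₂ b → a = b := by
    intro a b h1 h2
    rw [Ideal.Quotient.eq, Ideal.mem_span_singleton] at h1 h2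
    obtain ⟨c, hc⟩ := h1
    obtain ⟨d, hd⟩ := h2
    have h3 : (1 - e) * (a - b) = 0 := by
      rw [hc]
      linear_combination (-c) * he
    have h4 : e * (a - b) = 0 := by
      rw [hd]
      linear_combination (-d) * he
    have h5 : a - b = 0 := by
      linear_combination h3 + h4
    exact sub_eq_zero.1 h5
  have hsurj : ∀ (a : A ⧸ Ideal.span {e}) (b : A ⧸ Ideal.span {1 - e}), ∃ c : A, m₁ c = a ∧ m₂ c = b := by
    intro a b
    obtain ⟨a, rfl⟩ := Ideal.Quotient.mk_surjective a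
    obtain ⟨b, rfl⟩ := Ideal.Quotient.mk_surjective b
    refine ⟨(1 - e) * a + e * b, ?_, ?_⟩
    · rw [Ideal.Quotient.eq, Ideal.mem_span_singleton]
      exact ⟨b - a, by ring⟩
    · rw [Ideal.Quotient.eq, Ideal.mem_span_singleton]
      exact ⟨a - b, by ring⟩
  choose θ hθ₁ hθ₂ using fun z : Γ(T.left, ⊤) => hsurj (ψ₁ z) (ψ₂ z)
  let ψ : Γ(T.left, ⊤) →+* A :=
    { toFun := θ
      map_one' := hinj _ _ (by rw [hθ₁, map_one, map_one]) (by rw [hθ₂, map_one, map_one])
      map_mul' := fun a b => hinj _ _ (by rw [hθ₁, map_mul, map_mul, hθ₁, hθ₁])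
        (by rw [hθ₂, map_mul, map_mul, hθ₂, hθ₂])
      map_zero' := hinj _ _ (by rw [hθ₁, map_zero, map_zero]) (by rw [hθ₂, map_zero, map_zero])
      map_add' := fun a b => hinj _ _ (by rw [hθ₁, map_add, map_add, hθ₁, hθ₁])
        (by rw [hθ₂, map_add, map_add, hθ₂, hθ₂]) }
  have hψ : ψ.comp (strMap T) = algebraMap A A := by
    ext a
    apply hinj
    · exact (hθ₁ _).trans (congrArg (fun z : A →+* A ⧸ Ideal.span {e} => z a) h₁)
    · exact (hθ₂ _).trans (congrArg (fun z : A →+* A ⧸ Ideal.span {1 - e} => z a) h₂)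
  refine ⟨mp ψ hψ ≫ upt T, ?_, ?_⟩
  · rw [← Category.assoc]
    congr 1
    ext1
    change Spec.map _ ≫ Spec.map _ = Spec.map _
    rw [← Spec.map_comp]
    congr 1
    ext z
    exact hθ₁ z
  · rw [← Category.assoc]
    congr 1
    ext1
    change Spec.map _ ≫ Spec.map _ = Spec.map _
    rw [← Spec.map_comp]
    congr 1
    ext z
    exact hθ₂ z

/-- The statement over a semilocal ring. -/
def Good (n : ℕ) : Prop :=
  ∀ (A : Type u) [CommRing A] (T : Over (Spec (CommRingCat.of A))) [GrpObj T] (r : ℕ)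
    (_ : TwC.Locally (Spec (CommRingCat.of A)) .finiteEtale
        (fun _ g => Red.IsSplitTorusWith (Fin r → ℤ) (Red.bc g T)))
    (I : Type u) [Finite I] (_ : Nat.card I ≤ n) (κ : I → Type u) [∀ i, Field (κ i)] [∀ i, Algebra A (κ i)]
    (_ : ∀ i, Function.Surjective (algebraMap A (κ i)))
    (_ : ∀ i j, RingHom.ker (algebraMap A (κ i)) = RingHom.ker (algebraMap A (κ j)) → i = j)
    (_ : ∀ m : Ideal A, m.IsMaximal → ∃ i, RingHom.ker (algebraMap A (κ i)) = m)
    (W : ∀ i, Set (sp (algebraMap A (κ i)) ⟶ T)) (_ : ∀ i, Thick T (W i))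
    (u : ∀ i, sp (algebraMap A (κ i)) ⟶ T),
    ∃ t : sp (algebraMap A A) ⟶ T, ∀ i, ∃ x ∈ W i, x * (ap (Algebra.ofId A (κ i)) ≫ t) = u i

lemma step {n : ℕ} (hn : Good.{u} n) (A : Type u) [CommRing A] (T : Over (Spec (CommRingCat.of A))) [GrpObj T] (r : ℕ)
    (hT : TwC.Locally (Spec (CommRingCat.of A)) .finiteEtale
        (fun _ g => Red.IsSplitTorusWith (Fin r → ℤ) (Red.bc g T)))
    (I : Type u) [Finite I] (hI : Nat.card I ≤ n + 1) (κ : I → Type u) [∀ i, Field (κ i)] [∀ i, Algebra A (κ i)]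
    (hq : ∀ i, Function.Surjective (algebraMap A (κ i)))
    (hinj : ∀ i j, RingHom.ker (algebraMap A (κ i)) = RingHom.ker (algebraMap A (κ j)) → i = j)
    (hex : ∀ m : Ideal A, m.IsMaximal → ∃ i, RingHom.ker (algebraMap A (κ i)) = m)
    (W : ∀ i, Set (sp (algebraMap A (κ i)) ⟶ T)) (hW : ∀ i, Thick T (W i))
    (u : ∀ i, sp (algebraMap A (κ i)) ⟶ T) (e : A) (he : e * e = e) (he0 : e ≠ 0) :
    ∃ t : sp (algebraMap A (A ⧸ Ideal.span {e})) ⟶ T, ∀ (i : I) (ψ : A ⧸ Ideal.span {e} →ₐ[A] κ i),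
      ∃ x ∈ W i, x * (ap ψ ≫ t) = u i := by
  let R := A ⧸ Ideal.span {e}
  let J : Type u := {i : I // algebraMap A (κ i) e = 0}
  have hJ : Nat.card J ≤ n := by
    have h1 : Nat.card J < Nat.card I := by
      have h2 : ¬ IsUnit (1 - e) := by
        intro h3
        apply he0
        apply h3.mul_left_cancel
        rw [mul_zero, sub_mul, _root_.one_mul, he, sub_self]
      obtain ⟨m, hm, hem⟩ := exists_max_ideal_of_mem_nonunits h2
      obtain ⟨i, hi⟩ := hex m hm
      have h3 : algebraMap A (κ i) e ≠ 0 := by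
        intro h4
        apply hm.ne_top
        rw [Ideal.eq_top_iff_one]
        have h5 : e ∈ m := by
          rw [← hi]
          exact h4
        have h6 := m.add_mem hem h5
        rwa [sub_add_cancel] at h6
      exact Finite.card_subtype_lt (x := i) h3
    omega
  let al : ∀ j : J, Algebra R (κ j.1) := fun j => (Ideal.Quotient.lift (Ideal.span {e}) (algebraMap A (κ j.1)) (by
    intro a ha
    rw [Ideal.mem_span_singleton] at ha
    obtain ⟨c, rfl⟩ := ha
    rw [map_mul, j.2, zero_mul])).toAlgebra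
  have ist : ∀ j : J, IsScalarTower A R (κ j.1) := fun j => IsScalarTower.of_algebraMap_eq' rfl
  have hkc : ∀ j : J, (RingHom.ker (algebraMap R (κ j.1))).comap (Ideal.Quotient.mk (Ideal.span {e})) =
      RingHom.ker (algebraMap A (κ j.1)) := fun j => rfl
  obtain ⟨t, ht⟩ := hn R (Red.bc (tb A R) T) r (locally_bc (tb A R) T hT) J hJ (fun j => κ j.1)
    (by
      intro j z
      obtain ⟨a, rfl⟩ := hq j.1 z
      exact ⟨Ideal.Quotient.mk _ a, rfl⟩)
    (by
      intro i j hij
      apply Subtype.ext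
      apply hinj
      rw [← hkc, ← hkc, hij])
    (by
      intro m hm
      have h1 : (m.comap (Ideal.Quotient.mk (Ideal.span {e}))).IsMaximal :=
        Ideal.comap_isMaximal_of_surjective _ Ideal.Quotient.mk_surjective
      obtain ⟨i, hi⟩ := hex _ h1
      have h2 : algebraMap A (κ i) e = 0 := by
        have h3 : e ∈ RingHom.ker (algebraMap A (κ i)) := by
          rw [hi, Ideal.mem_comap, Ideal.Quotient.eq_zero_iff_mem.2 (Ideal.mem_span_singleton_self e)]
          exact m.zero_mem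
        exact h3
      refine ⟨⟨i, h2⟩, ?_⟩
      apply Ideal.comap_injective_of_surjective _ (Ideal.Quotient.mk_surjective (I := Ideal.span {e}))
      rw [hkc, hi])
    (fun j => {y : sp (algebraMap R (κ j.1)) ⟶ Red.bc (tb A R) T | ubp y ∈ W j.1})
    (fun j => thick_bc (W j.1) (hW j.1)) (fun j => bp (u j.1))
  refine ⟨ubp t, fun i ψ => ?_⟩
  have hi : algebraMap A (κ i) e = 0 := by
    rw [← ψ.commutes]
    have h1 : algebraMap A R e = 0 := Ideal.Quotient.eq_zero_iff_mem.2 (Ideal.mem_span_singleton_self e)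
    rw [h1, map_zero]
  obtain ⟨x, hx, hx'⟩ := ht ⟨i, hi⟩
  have := ist ⟨i, hi⟩
  let _ := al ⟨i, hi⟩
  refine ⟨ubp x, hx, ?_⟩
  have h1 : ψ = (Algebra.ofId R (κ i)).restrictScalars A := by
    refine AlgHom.ext fun a => ?_
    obtain ⟨a, rfl⟩ := Ideal.Quotient.mk_surjective a
    exact ψ.commutes a
  rw [h1, ap_ubp, ← ubp_mul, hx', ubp_bp]

theorem good (n : ℕ) : Good.{u} n := by
  induction n with
  | zero =>
    intro A _ T _ r hT I _ hI κ _ _ hq hinj hex W hW u
    have : IsEmpty I := Finite.card_eq_zero_iff.1 (Nat.le_zero.1 hI)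
    exact ⟨1, fun i => isEmptyElim i⟩
  | succ n ih =>
    intro A _ T _ r hT I _ hI κ _ _ hq hinj hex W hW u
    by_cases hconn : ConnectedSpace (Spec (CommRingCat.of A))
    · exact exists_conn T hT (fun i => Algebra.ofId A (κ i)) hq hinj hex W hW u
    rcases isEmpty_or_nonempty I with hemp | ⟨⟨i₀⟩⟩
    · exact ⟨1, fun i => isEmptyElim i⟩
    have hA : Nontrivial A := (algebraMap A (κ i₀)).domain_nontrivial
    have haff : IsAffineHom T.hom :=
      Groth.Agent.Sga3B.TorusAlgClosed.isAffineHom_of_isTorus (Dic.isTorus_of_isotrivial hT)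
    have haff' : IsAffine T.left := isAffine_of_isAffineHom T.hom
    obtain ⟨e, he, he0, he1⟩ : ∃ e : A, e * e = e ∧ e ≠ 0 ∧ 1 - e ≠ 0 := by
      by_contra hne
      push Not at hne
      apply hconn
      have h1 : Nonempty (PrimeSpectrum A) := inferInstance
      have h2 : PreconnectedSpace (PrimeSpectrum A) := by
        rw [preconnectedSpace_iff_clopen]
        intro s hs
        obtain ⟨e, he, rfl⟩ := PrimeSpectrum.exists_idempotent_basicOpen_eq_of_isClopen hs
        by_cases he0 : e = 0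
        · left
          rw [he0, PrimeSpectrum.basicOpen_zero]
          rfl
        · right
          have h3 := hne e he he0
          rw [sub_eq_zero] at h3
          rw [← h3, PrimeSpectrum.basicOpen_one]
          rfl
      have h3 : ConnectedSpace (PrimeSpectrum A) := ⟨h1⟩
      exact h3
    obtain ⟨t₁, ht₁⟩ := step ih A T r hT I hI κ hq hinj hex W hW u e he he0
    obtain ⟨t₂, ht₂⟩ := step ih A T r hT I hI κ hq hinj hex W hW u (1 - e)
      (by linear_combination he) he1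
    obtain ⟨t, h1, h2⟩ := exists_glue e he t₁ t₂
    refine ⟨t, fun i => ?_⟩
    have h3 : algebraMap A (κ i) e = 0 ∨ algebraMap A (κ i) (1 - e) = 0 := by
      have h4 : algebraMap A (κ i) e * algebraMap A (κ i) (1 - e) = 0 := by
        rw [← map_mul, mul_sub, _root_.mul_one, he, sub_self, map_zero]
      exact mul_eq_zero.1 h4
    have key : ∀ (f : A) (t' : sp (algebraMap A (A ⧸ Ideal.span {f})) ⟶ T)
        (_ : ∀ (i : I) (ψ : A ⧸ Ideal.span {f} →ₐ[A] κ i), ∃ x ∈ W i, x * (ap ψ ≫ t') = u i)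
        (_ : ap (Algebra.ofId A (A ⧸ Ideal.span {f})) ≫ t = t') (_ : algebraMap A (κ i) f = 0),
        ∃ x ∈ W i, x * (ap (Algebra.ofId A (κ i)) ≫ t) = u i := by
      intro f t' h5 h6 h7
      let ψ : A ⧸ Ideal.span {f} →ₐ[A] κ i := Ideal.Quotient.liftₐ (Ideal.span {f}) (Algebra.ofId A (κ i)) (by
        intro a ha
        rw [Ideal.mem_span_singleton] at ha
        obtain ⟨c, rfl⟩ := ha
        rw [map_mul]
        have h8 : Algebra.ofId A (κ i) f = 0 := h7
        rw [h8, zero_mul])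
      obtain ⟨x, hx, hx'⟩ := h5 i ψ
      refine ⟨x, hx, ?_⟩
      rw [← hx', ← h6, ← Category.assoc, ← ap_comp]
      congr 3
    rcases h3 with h3 | h3
    · exact key e t₁ ht₁ h1 h3
    · exact key (1 - e) t₂ ht₂ h2 h3

end K965.Translate
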