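import Groth.Agent.Etbc.H222.AdicLF
import Groth.Agent.MultTori.K965.Adic

/-!
# The completion of a discretely valued field: elementary facts
-/

set_option autoImplicit false
universe u

namespace K965.AdicFld

open IsDedekindDomain WithZero

variable {A : Type u} [CommRing A] [IsDomain A] [IsDiscreteValuationRing A] (v : HeightOneSpectrum A)
  (K : Type u) [Field K] [Algebra A K] [IsFractionRing A K]

/-- a uniformizer in `K` -/
theorem exists_pi : ∃ π : K, Valued.v (algebraMap K (v.adicCompletion K) π) = WithZero.exp (-1 : ℤ) := by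
  obtain ⟨x, hx⟩ := v.valuation_exists_uniformizer K
  refine ⟨x, ?_⟩
  have h := HeightOneSpectrum.valuedAdicCompletion_eq_valuation' (v := v) x
  rw [hx] at h
  exact h

variable {v K}

lemma val_pow {p : v.adicCompletion K} (hp : Valued.v p = WithZero.exp (-1 : ℤ)) (n : ℕ) :
    Valued.v (p ^ n) = WithZero.exp (-(n : ℤ)) := by
  rw [map_pow, hp, ← WithZero.exp_nsmul]
  simp

lemma ne_zero {p : v.adicCompletion K} (hp : Valued.v p = WithZero.exp (-1 : ℤ)) : p ≠ 0 := by
  intro h
  rw [h, map_zero] at hp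
  exact WithZero.exp_ne_zero hp.symm

lemma mem_pow_iff {p : v.adicCompletion K} (hp : Valued.v p = WithZero.exp (-1 : ℤ)) (n : ℕ) (x : v.adicCompletion K) :
    (∃ s ∈ v.adicCompletionIntegers K, x = p ^ n * s) ↔ Valued.v x ≤ WithZero.exp (-(n : ℤ)) := by
  have hp0 := ne_zero hp
  constructor
  · rintro ⟨s, hs, rfl⟩
    rw [map_mul, val_pow hp]
    exact mul_le_of_le_one_right' hs
  · intro h
    refine ⟨x / p ^ n, ?_, (mul_div_cancel₀ x (pow_ne_zero n hp0)).symm⟩
    rw [HeightOneSpectrum.mem_adicCompletionIntegers, map_div₀, val_pow hp]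
    exact div_le_one_of_le₀ h zero_le

lemma eq_zero_of_le (x : v.adicCompletion K) (h : ∀ n : ℕ, Valued.v x ≤ WithZero.exp (-(n : ℤ))) : x = 0 := by
  by_contra hx
  have h1 : (Valued.v x : WithZero (Multiplicative ℤ)) ≠ 0 := (Valuation.ne_zero_iff _).2 hx
  obtain ⟨n, hn⟩ := WithZero.exists_exp_neg_natCast_lt h1
  exact absurd hn (not_lt.2 (h n))

lemma exists_denom {p : v.adicCompletion K} (hp : Valued.v p = WithZero.exp (-1 : ℤ)) (x : v.adicCompletion K) :
    ∃ n : ℕ, ∀ k, n ≤ k → Valued.v (p ^ k * x) ≤ (1 : WithZero (Multiplicative ℤ)) := by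
  by_cases hx : x = 0
  · exact ⟨0, fun k _ => by rw [hx, mul_zero, map_zero]; exact zero_le⟩
  have h1 : (Valued.v x : WithZero (Multiplicative ℤ)) ≠ 0 := (Valuation.ne_zero_iff _).2 hx
  refine ⟨(WithZero.log (Valued.v x : WithZero (Multiplicative ℤ))).toNat, fun k hk => ?_⟩
  rw [map_mul, val_pow hp]
  conv_lhs => rw [← WithZero.exp_log h1]
  rw [← WithZero.exp_add, ← WithZero.exp_zero, WithZero.exp_le_exp]
  omega

lemma exists_near (x : v.adicCompletion K) (n : ℕ) :
    ∃ k : K, Valued.v (x - algebraMap K (v.adicCompletion K) k) ≤ WithZero.exp (-(n : ℤ)) := by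
  obtain ⟨π, hπ⟩ := exists_pi v K
  obtain ⟨k, hk⟩ := K965.Adic.exists_near v K x ((algebraMap K (v.adicCompletion K) π) ^ n) (pow_ne_zero n (ne_zero hπ))
  refine ⟨k, ?_⟩
  rw [Valuation.map_sub_swap, ← val_pow hπ]
  exact hk.le

lemma sub_le {f : ℕ → v.adicCompletion K} (hf : ∀ n, Valued.v (f (n + 1) - f n) ≤ WithZero.exp (-(n : ℤ))) {m n : ℕ}
    (h : m ≤ n) : Valued.v (f n - f m) ≤ WithZero.exp (-(m : ℤ)) := by
  induction n, h using Nat.le_induction with
  | base => rw [sub_self, map_zero]; exact zero_le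
  | succ n hmn ih =>
    have h1 : f (n + 1) - f m = (f (n + 1) - f n) + (f n - f m) := by ring
    rw [h1]
    refine (Valuation.map_add _ _ _).trans (max_le ((hf n).trans ?_) ih)
    rw [WithZero.exp_le_exp]
    omega

/-- limits -/
lemma exists_lim (f : ℕ → v.adicCompletion K) (hf : ∀ n, Valued.v (f (n + 1) - f n) ≤ WithZero.exp (-(n : ℤ))) :
    ∃ x, ∀ n, Valued.v (x - f n) ≤ WithZero.exp (-(n : ℤ)) := by
  obtain ⟨π, hπ⟩ := Groth.Agent.Etbc.H222.AdicLF.exists_unif (K := K) v
  have hpre := Groth.Agent.Etbc.H222.AdicLF.isPrecomplete (K := K) v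
  let g : ℕ → v.adicCompletionIntegers K := fun n => ⟨f n - f 0, by
    rw [HeightOneSpectrum.mem_adicCompletionIntegers]
    have h1 := sub_le hf (Nat.zero_le n)
    rwa [Nat.cast_zero, neg_zero, WithZero.exp_zero] at h1⟩
  have hg : ∀ m n, (g m : v.adicCompletion K) - g n = f m - f n := fun m n => by
    change (f m - f 0) - (f n - f 0) = _
    ring
  obtain ⟨L, hL⟩ := hpre.prec' g (by
    intro m n hmn
    rw [SModEq.sub_mem, smul_eq_mul, Ideal.mul_top, Groth.Agent.Etbc.H222.AdicLF.mem_pow_iff v hπ, val_pow hπ]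
    change Valued.v ((g m : v.adicCompletion K) - g n) ≤ _
    rw [hg, Valuation.map_sub_swap]
    exact sub_le hf hmn)
  refine ⟨(L : v.adicCompletion K) + f 0, fun n => ?_⟩
  have h1 := hL n
  rw [SModEq.sub_mem, smul_eq_mul, Ideal.mul_top, Groth.Agent.Etbc.H222.AdicLF.mem_pow_iff v hπ, val_pow hπ] at h1
  have h2 : (L : v.adicCompletion K) + f 0 - f n = - ((g n : v.adicCompletion K) - L) := by
    change _ = - ((f n - f 0) - (L : v.adicCompletion K))
    ring
  rw [h2, Valuation.map_neg]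
  exact h1

end K965.AdicFld
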