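import Groth.Agent.MultTori.K965.EqRep

/-!
# Base change of Galois extensions and of universal equivariant characters
-/

set_option autoImplicit false
universe u
open scoped TensorProduct

set_option linter.unusedSectionVars false

namespace K965.BcGal

open K965.Pts K965.Gal K965.Dict K965.EqRep
open K964.UC (mB mB_comp)

variable {A B : Type u} [CommRing A] [CommRing B] [Algebra A B] {G : Type} [Group G]
  [MulSemiringAction G B] [SMulCommClass G A B] (C : Type u) [CommRing C] [Algebra A C]

/-- the action on the base change -/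
@[reducible] noncomputable def gact (A B : Type u) [CommRing A] [CommRing B] [Algebra A B] (G : Type) [Group G]
    [MulSemiringAction G B] [SMulCommClass G A B] (C : Type u) [CommRing C] [Algebra A C] :
    MulSemiringAction G (C ⊗[A] B) where
  smul g z := act A B C g z
  one_smul z := act_one z
  mul_smul g h z := (act_act g h z).symm
  smul_zero g := map_zero (act A B C g)
  smul_add g := map_add (act A B C g)
  smul_one g := map_one (act A B C g)
  smul_mul g := map_mul (act A B C g)

lemma gact_smul (g : G) (z : C ⊗[A] B) : letI := gact A B G C; g • z = act A B C g z := rfl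

lemma gact_comm : letI := gact A B G C; SMulCommClass G C (C ⊗[A] B) := by
  let := gact A B G C
  refine ⟨fun g c z => ?_⟩
  exact map_smul (act A B C g) c z

theorem isGal [Fintype G] (hG : IsGal A B G) :
    letI := gact A B G C
    letI := gact_comm (A := A) (B := B) (G := G) C
    IsGal C (C ⊗[A] B) G := by
  let := gact A B G C
  have := gact_comm (A := A) (B := B) (G := G) C
  have := hG.ff
  have := hG.fin
  have := hG.et
  refine ⟨inferInstance, inferInstance, inferInstance, ?_, ?_, ?_⟩
  · intro z hz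
    obtain ⟨r, rfl⟩ := exists_of_act_eq hG z hz
    exact ⟨r, rfl⟩
  · obtain ⟨t, ht⟩ := hG.tr
    refine ⟨1 ⊗ₜ t, ?_⟩
    have h1 : ∀ g : G, g • ((1 : C) ⊗ₜ[A] t) = 1 ⊗ₜ[A] (g • t) := fun g => act_tmul g 1 t
    simp only [h1]
    rw [← TensorProduct.tmul_sum, ht]
    rfl
  · obtain ⟨n, x, y, h1, h2⟩ := hG.dual
    have h3 : ∀ (g : G) (i : Fin n), g • ((1 : C) ⊗ₜ[A] y i) = 1 ⊗ₜ[A] (g • y i) := fun g i => act_tmul g 1 (y i)
    refine ⟨n, fun i => 1 ⊗ₜ x i, fun i => 1 ⊗ₜ y i, ?_, ?_⟩
    · simp only [Algebra.TensorProduct.tmul_mul_tmul, one_mul]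
      rw [← TensorProduct.tmul_sum, h1]
      rfl
    · intro g hg
      simp only [h3, Algebra.TensorProduct.tmul_mul_tmul, one_mul]
      rw [← TensorProduct.tmul_sum, h2 g hg, TensorProduct.tmul_zero]

section tc

variable {C}
variable {R R' : Type u} [CommRing R] [Algebra A R] [Algebra C R] [IsScalarTower A C R]
  [CommRing R'] [Algebra A R'] [Algebra C R'] [IsScalarTower A C R']

/-- the comparison of tensor products -/
noncomputable abbrev cb (A B C R : Type u) [CommRing A] [CommRing B] [Algebra A B] [CommRing C] [Algebra A C] [CommRing R]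
    [Algebra A R] [Algebra C R] [IsScalarTower A C R] : R ⊗[C] (C ⊗[A] B) ≃ₐ[C] R ⊗[A] B :=
  Algebra.TensorProduct.cancelBaseChange A C C R B

lemma cb_act (g : G) (z : R ⊗[C] (C ⊗[A] B)) :
    letI := gact A B G C
    letI := gact_comm (A := A) (B := B) (G := G) C
    cb A B C R (act C (C ⊗[A] B) R g z) = act A B R g (cb A B C R z) := by
  let := gact A B G C
  have := gact_comm (A := A) (B := B) (G := G) C
  induction z using TensorProduct.induction_on with
  | zero => simp
  | tmul r w =>
    rw [act_tmul]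
    change cb A B C R (r ⊗ₜ[C] (act A B C g w)) = _
    induction w using TensorProduct.induction_on with
    | zero => simp
    | tmul c b =>
      rw [act_tmul, Algebra.TensorProduct.cancelBaseChange_tmul, Algebra.TensorProduct.cancelBaseChange_tmul, act_tmul]
    | add x y hx hy =>
      rw [map_add, TensorProduct.tmul_add, TensorProduct.tmul_add, map_add, map_add, map_add, hx, hy]
  | add x y hx hy => simp only [map_add, hx, hy]

lemma cb_mB (f : R →ₐ[C] R') (z : R ⊗[C] (C ⊗[A] B)) :
    cb A B C R' (mB (C ⊗[A] B) f z) = mB B (f.restrictScalars A) (cb A B C R z) := by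
  induction z using TensorProduct.induction_on with
  | zero => simp
  | tmul r w =>
    induction w using TensorProduct.induction_on with
    | zero => simp
    | tmul c b =>
      rw [Algebra.TensorProduct.map_tmul, Algebra.TensorProduct.cancelBaseChange_tmul]
      change cb A B C R' (f r ⊗ₜ[C] (c ⊗ₜ[A] b)) = _
      rw [Algebra.TensorProduct.cancelBaseChange_tmul, Algebra.TensorProduct.map_tmul]
      change (c • f r) ⊗ₜ[A] b = f (c • r) ⊗ₜ[A] b
      rw [map_smul]
    | add x y hx hy => rw [TensorProduct.tmul_add, map_add, map_add, map_add, map_add, hx, hy]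
  | add x y hx hy => rw [map_add, map_add, map_add, map_add, hx, hy]

variable {N : Type} [AddCommGroup N]

/-- the comparison of characters -/
noncomputable def tc (χ : N →+ Additive (R ⊗[C] (C ⊗[A] B))ˣ) : N →+ Additive (R ⊗[A] B)ˣ :=
  (um ((cb A B C R : R ⊗[C] (C ⊗[A] B) →ₐ[C] R ⊗[A] B) : R ⊗[C] (C ⊗[A] B) →+* R ⊗[A] B)).comp χ

lemma val_tc (χ : N →+ Additive (R ⊗[C] (C ⊗[A] B))ˣ) (n : N) :
    ((tc χ n).toMul : R ⊗[A] B) = cb A B C R ((χ n).toMul : R ⊗[C] (C ⊗[A] B)) := rfl

lemma tc_injective : Function.Injective (tc (A := A) (B := B) (C := C) (R := R) (N := N)) := by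
  intro χ χ' h
  ext1 n
  apply addUnits_ext
  apply (cb A B C R).injective
  rw [← val_tc, ← val_tc, h]

lemma tc_surjective : Function.Surjective (tc (A := A) (B := B) (C := C) (R := R) (N := N)) := by
  intro χ
  refine ⟨(um (((cb A B C R).symm : R ⊗[A] B →ₐ[C] R ⊗[C] (C ⊗[A] B)) : R ⊗[A] B →+* R ⊗[C] (C ⊗[A] B))).comp χ, ?_⟩
  ext1 n
  apply addUnits_ext
  rw [val_tc]
  exact (cb A B C R).apply_symm_apply _

lemma tc_comp {N' : Type} [AddCommGroup N'] (χ : N →+ Additive (R ⊗[C] (C ⊗[A] B))ˣ) (j : N' →+ N) :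
    tc (χ.comp j) = (tc χ).comp j := rfl

lemma tc_push (f : R →ₐ[C] R') (χ : N →+ Additive (R ⊗[C] (C ⊗[A] B))ˣ) :
    tc (push f χ) = push (f.restrictScalars A) (tc χ) := by
  ext1 n
  apply addUnits_ext
  rw [val_tc, val_push, val_push, val_tc]
  exact cb_mB f _

variable [DistribMulAction G N]

lemma eqv_tc_iff (χ : N →+ Additive (R ⊗[C] (C ⊗[A] B))ˣ) :
    letI := gact A B G C
    letI := gact_comm (A := A) (B := B) (G := G) C
    Eqv (A := A) G (tc χ) ↔ Eqv (A := C) G χ := by
  let := gact A B G C
  have := gact_comm (A := A) (B := B) (G := G) C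
  constructor
  · intro h g n
    apply addUnits_ext
    apply (cb A B C R).injective
    rw [← val_tc, h g n, val_um, val_um]
    exact (cb_act g _).symm
  · intro h g n
    apply addUnits_ext
    rw [val_um, val_tc, val_tc, h g n, val_um]
    exact cb_act g _

end tc

/-- Base change of a universal equivariant character. -/
theorem exists_rep_bc {N : Type} [AddCommGroup N] [DistribMulAction G N] {H : Type u} [CommRing H] [Algebra A H]
    {u : N →+ Additive (H ⊗[A] B)ˣ} (hu : Rep G H u) :
    letI := gact A B G C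
    letI := gact_comm (A := A) (B := B) (G := G) C
    ∃ u' : N →+ Additive ((C ⊗[A] H) ⊗[C] (C ⊗[A] B))ˣ,
      tc u' = push (Algebra.TensorProduct.includeRight : H →ₐ[A] C ⊗[A] H) u ∧ Rep G (C ⊗[A] H) u' := by
  let := gact A B G C
  have := gact_comm (A := A) (B := B) (G := G) C
  obtain ⟨u', hu'⟩ := tc_surjective (A := A) (B := B) (C := C) (R := C ⊗[A] H)
    (push (Algebra.TensorProduct.includeRight : H →ₐ[A] C ⊗[A] H) u)
  refine ⟨u', hu', ?_, ?_, ?_⟩
  · rw [← eqv_tc_iff, hu']
    exact eqv_push _ hu.eqv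
  · intro R _ _ f f' h
    let _ : Algebra A R := ((algebraMap C R).comp (algebraMap A C)).toAlgebra
    have : IsScalarTower A C R := IsScalarTower.of_algebraMap_eq' rfl
    have h1 := congrArg tc h
    rw [tc_push, tc_push, hu', push_push, push_push] at h1
    have h2 := hu.inj _ _ h1
    apply Algebra.TensorProduct.ext
    · ext
    · exact h2
  · intro R _ _ χ hχ
    let _ : Algebra A R := ((algebraMap C R).comp (algebraMap A C)).toAlgebra
    have : IsScalarTower A C R := IsScalarTower.of_algebraMap_eq' rfl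
    obtain ⟨g, hg⟩ := hu.surj (tc χ) ((eqv_tc_iff χ).2 hχ)
    let f : C ⊗[A] H →ₐ[C] R := Algebra.TensorProduct.lift (Algebra.ofId C R) g (fun _ _ => Commute.all _ _)
    refine ⟨f, ?_⟩
    apply tc_injective
    rw [tc_push, hu', push_push, ← hg]
    congr 1
    refine AlgHom.ext fun a => ?_
    change f (1 ⊗ₜ a) = g a
    simp [f]

end K965.BcGal
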