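import Mathlib.Algebra.Module.Lattice
import Mathlib.RingTheory.Algebraic.Integral
import Mathlib.RingTheory.Localization.Integral
import Mathlib.RingTheory.IntegralClosure.IsIntegral.Basic
import Mathlib.Algebra.Ring.Action.Basic
import Mathlib.LinearAlgebra.FiniteDimensional.Defs
import Mathlib.LinearAlgebra.FreeModule.PID

/-!
# Integral bases of finite algebras with action of a finite group
-/

set_option autoImplicit false
universe u

namespace K965.IntBasis

variable {A K B : Type u} [CommRing A] [IsDomain A] [IsPrincipalIdealRing A] [Field K] [Algebra A K] [IsFractionRing A K]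
  [CommRing B] [Algebra K B] [Module.Finite K B] {G : Type} [Group G] [Finite G] [MulSemiringAction G B]
  [SMulCommClass G K B]

variable (A K B G) in
theorem exists_int_basis : ∃ (ι : Type u) (_ : Fintype ι) (b : Module.Basis ι K B),
    (∀ i j k, ∃ a : A, b.repr (b i * b j) k = algebraMap A K a) ∧
    (∀ k, ∃ a : A, b.repr 1 k = algebraMap A K a) ∧
    ∀ (g : G) i k, ∃ a : A, b.repr (g • b i) k = algebraMap A K a := by
  classical
  let _ : Algebra A B := ((algebraMap K B).comp (algebraMap A K)).toAlgebra
  have : IsScalarTower A K B := IsScalarTower.of_algebraMap_eq' rfl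
  have hsc : ∀ (g : G) (a : A) (x : B), g • (a • x) = a • (g • x) := by
    intro g a x
    rw [← algebraMap_smul K a x, smul_comm, algebraMap_smul]
  have hgalg : ∀ (g : G) (a : A), g • algebraMap A B a = algebraMap A B a := by
    intro g a
    rw [Algebra.algebraMap_eq_smul_one, hsc, smul_one]
  let ag : G → B →ₐ[A] B := fun g => { MulSemiringAction.toRingHom G B g with commutes' := hgalg g }
  have hag : ∀ g x, ag g x = g • x := fun g x => rfl
  let β := Module.finBasis K B
  have h1 : ∀ j, ∃ a : A, a ≠ 0 ∧ IsIntegral A (a • β j) := by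
    intro j
    have halg : IsAlgebraic A (β j) := (IsFractionRing.isAlgebraic_iff A K B).2 (Algebra.IsAlgebraic.isAlgebraic _)
    obtain ⟨y, hy, hy'⟩ := halg.exists_integral_multiple
    exact ⟨y, hy, hy'⟩
  choose a ha ha' using h1
  let T : Set B := Set.range fun x : G × Fin (Module.finrank K B) => x.1 • (a x.2 • β x.2)
  have hT : T.Finite := Set.finite_range _
  have hTi : ∀ x ∈ T, IsIntegral A x := by
    rintro _ ⟨⟨g, j⟩, rfl⟩
    exact (ha' j).map (ag g)
  have hTg : ∀ (g : G) (x : B), x ∈ T → g • x ∈ T := by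
    rintro g _ ⟨⟨g', j⟩, rfl⟩
    exact ⟨⟨g * g', j⟩, mul_smul g g' _⟩
  let C : Subalgebra A B := Algebra.adjoin A T
  have hCg : ∀ (g : G) x, x ∈ C → g • x ∈ C := by
    intro g x hx
    have h2 : C ≤ C.comap (ag g) := by
      rw [Algebra.adjoin_le_iff]
      intro x hx
      exact Algebra.subset_adjoin (hTg g x hx)
    exact h2 hx
  let M : Submodule A B := Subalgebra.toSubmodule C
  have hM : Submodule.IsLattice K M := by
    refine ⟨fg_adjoin_of_finite hT hTi, ?_⟩
    rw [eq_top_iff, ← β.span_eq, Submodule.span_le]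
    rintro _ ⟨j, rfl⟩
    have h2 : a j • β j ∈ Submodule.span K (M : Set B) := by
      apply Submodule.subset_span
      change a j • β j ∈ C
      apply Algebra.subset_adjoin
      exact ⟨(1, j), one_smul G _⟩
    have h3 : algebraMap A K (a j) ≠ 0 := by
      rw [Ne, IsFractionRing.to_map_eq_zero_iff]
      exact ha j
    have h4 := (Submodule.span K (M : Set B)).smul_mem (algebraMap A K (a j))⁻¹ h2
    rw [← algebraMap_smul K (a j), smul_smul, inv_mul_cancel₀ h3, one_smul] at h4
    exact h4
  have htf : Module.IsTorsionFree A K := inferInstance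
  have hfree : Module.Free A M := inferInstance
  have hfin : Module.Finite A M := inferInstance
  let b₀ := Module.Free.chooseBasis A M
  let b := b₀.extendOfIsLattice K
  have hb : ∀ i, b i = (b₀ i).val := fun i => b₀.extendOfIsLattice_apply K i
  have hrepr : ∀ x ∈ C, ∀ k, ∃ a : A, b.repr x k = algebraMap A K a := by
    intro x hx k
    refine ⟨b₀.repr ⟨x, hx⟩ k, ?_⟩
    have h2 : x = ∑ i, algebraMap A K (b₀.repr ⟨x, hx⟩ i) • b i := by
      have h3 := congrArg Subtype.val (b₀.sum_repr ⟨x, hx⟩)
      rw [Submodule.coe_sum] at h3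
      refine h3.symm.trans (Finset.sum_congr rfl fun i _ => ?_)
      rw [hb, algebraMap_smul]
      rfl
    conv_lhs => rw [h2]
    rw [b.repr_sum_self]
  have hbC : ∀ i, b i ∈ C := fun i => by
    rw [hb]
    exact (b₀ i).2
  exact ⟨_, inferInstance, b, fun i j k => hrepr _ (C.mul_mem (hbC i) (hbC j)) k, hrepr _ C.one_mem,
    fun g i k => hrepr _ (hCg g _ (hbC i)) k⟩

end K965.IntBasis
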