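import Groth.Agent.MultTori.K965.Newton

/-!
# Characters with values near one extend: the iteration
-/

set_option autoImplicit false
universe u

set_option linter.unusedSectionVars false

namespace K965.Newton

variable {R : Type u} [CommRing R] {S : Subring R} {π : R} {G : Type} [Group G] [Fintype G] [MulSemiringAction G R]
  (hS : CompOrd G S π)

lemma prod_sub (n : ℕ) (hπ : π ∈ S) {X : Type*} (s : Finset X) (e : X → R) (he : ∀ x ∈ s, e x ∈ I S π n) :
    ∏ x ∈ s, (1 + e x) - 1 - ∑ x ∈ s, e x ∈ I S π (n + n) := by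
  classical
  induction s using Finset.induction_on with
  | empty => simp [(I S π (n + n)).zero_mem]
  | insert a s ha ih =>
    have h1 := ih fun x hx => he x (Finset.mem_insert_of_mem hx)
    have h2 : ∑ x ∈ s, e x ∈ I S π n := (I S π n).sum_mem fun x hx => he x (Finset.mem_insert_of_mem hx)
    have h3 : e a ∈ I S π n := he a (Finset.mem_insert_self a s)
    have h4 : ∏ x ∈ s, (1 + e x) - 1 ∈ I S π n := by
      have h5 : ∏ x ∈ s, (1 + e x) - 1 = (∏ x ∈ s, (1 + e x) - 1 - ∑ x ∈ s, e x) + ∑ x ∈ s, e x := by ring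
      rw [h5]
      exact (I S π n).add_mem (I_mono hπ (by omega) h1) h2
    rw [Finset.prod_insert ha, Finset.sum_insert ha]
    have h6 : (1 + e a) * ∏ x ∈ s, (1 + e x) - 1 - (e a + ∑ x ∈ s, e x) =
        (∏ x ∈ s, (1 + e x) - 1 - ∑ x ∈ s, e x) + e a * (∏ x ∈ s, (1 + e x) - 1) := by ring
    rw [h6]
    exact (I S π (n + n)).add_mem h1 (I_mul h3 h4)

lemma pow_sub (n : ℕ) (hπ : π ∈ S) {t : R} (ht : t ∈ I S π n) (m : ℕ) :
    (1 + t) ^ m - 1 - m * t ∈ I S π (n + n) := by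
  have h1 := prod_sub n hπ (Finset.range m) (fun _ => t) (fun _ _ => ht)
  simpa using h1

variable {F P : Type} [AddCommGroup F] [AddCommGroup P]

/-- the data -/
structure Dat (hS : CompOrd G S π) (αF : G → F →+ F) (αP : G → P →+ P) (j : P →+ F) (ρ : F →+ P) (m : ℕ) (θ : R) (c : ℕ) :
    Prop where
  one : ∀ x, αF 1 x = x
  mul : ∀ g h x, αF (g * h) x = αF g (αF h x)
  oneP : ∀ x, αP 1 x = x
  mulP : ∀ g h x, αP (g * h) x = αP g (αP h x)
  hj : ∀ g y, j (αP g y) = αF g (j y)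
  hρ : ∀ y, ρ (j y) = m • y
  hθ : π ^ c * θ ∈ S
  tr : (m : R) * ∑ g : G, g • θ = 1

variable {αF : G → F →+ F} {αP : G → P →+ P} {j : P →+ F} {ρ : F →+ P} {m : ℕ} {θ : R} {c : ℕ}

/-- the norm -/
noncomputable def nm (αF : G → F →+ F) (h : F →+ Additive Rˣ) : F →+ Additive Rˣ :=
  ∑ g : G, (ug R g).comp (h.comp (αF g⁻¹))

lemma nm_apply (h : F →+ Additive Rˣ) (x : F) : nm αF h x = ∑ g : G, ug R g (h (αF g⁻¹ x)) := by
  simp [nm]

lemma nm_add (h h' : F →+ Additive Rˣ) (x : F) : nm αF (h + h') x = nm αF h x + nm αF h' x := by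
  rw [nm_apply, nm_apply, nm_apply, ← Finset.sum_add_distrib]
  refine Finset.sum_congr rfl fun g _ => ?_
  rw [AddMonoidHom.add_apply, map_add]

lemma nm_mem (H : AddSubgroup (Additive Rˣ)) (hH : ∀ (g : G) u, u ∈ H → ug R g u ∈ H) {h : F →+ Additive Rˣ}
    (hh : ∀ x, h x ∈ H) (x : F) : nm αF h x ∈ H := by
  rw [nm_apply]
  exact H.sum_mem fun g _ => hH g _ (hh _)

lemma nm_eqv (hmul : ∀ g h x, αF (g * h) x = αF g (αF h x)) (h : F →+ Additive Rˣ) (g : G) (x : F) :
    nm αF h (αF g x) = ug R g (nm αF h x) := by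
  rw [nm_apply, nm_apply, map_sum]
  refine Fintype.sum_equiv (Equiv.mulLeft g⁻¹) _ _ (fun g' => ?_)
  change _ = ug R g (ug R (g⁻¹ * g') (h (αF (g⁻¹ * g')⁻¹ x)))
  rw [← ug_mul, mul_inv_cancel_left, mul_inv_rev, inv_inv, hmul]

lemma val_sum {X : Type*} (s : Finset X) (u : X → Additive Rˣ) :
    ((((∑ x ∈ s, u x : Additive Rˣ)).toMul : Rˣ) : R) = ∏ x ∈ s, (((u x).toMul : Rˣ) : R) := by
  classical
  induction s using Finset.induction_on with
  | empty => rfl
  | insert a s ha ih =>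
    rw [Finset.sum_insert ha, Finset.prod_insert ha, ← ih]
    rfl

lemma mem_of_basis {ι : Type*} (b : Module.Basis ι ℤ F) {W : Type*} [AddCommGroup W] (H : AddSubgroup W) (f : F →+ W)
    (h : ∀ i, f (b i) ∈ H) (x : F) : f x ∈ H := by
  have h1 : x ∈ Submodule.span ℤ (Set.range b) := by
    rw [b.span_eq]
    trivial
  induction h1 using Submodule.span_induction with
  | mem x hx =>
    obtain ⟨i, rfl⟩ := hx
    exact h i
  | zero => rw [map_zero]; exact H.zero_mem
  | add x y _ _ hx hy => rw [map_add]; exact H.add_mem hx hy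
  | smul n x _ hx => rw [map_zsmul]; exact H.zsmul_mem hx n

include hS in
/-- one step -/
theorem step (hD : Dat hS αF αP j ρ m θ c) {ι : Type*} (b : Module.Basis ι ℤ F) {n : ℕ} (hn : 2 * c ≤ n)
    (p : P →+ Additive Rˣ) (hp : ∀ g y, p (αP g y) = ug R g (p y)) (hpV : ∀ y, p y ∈ V hS n) :
    ∃ h : F →+ Additive Rˣ, (∀ x, h x ∈ V hS (n - c)) ∧ ∀ y, p y - nm αF h (j y) ∈ V hS (n + 1) := by
  classical
  have hπ := hS.pi_mem
  set d := n - c + 1 with hd
  have hdn : n + 1 = d + c := by omega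
  let v : Additive Rˣ → R := fun u => ((u.toMul : Rˣ) : R)
  have hv0 : v 0 = 1 := rfl
  have hvadd : ∀ a b, v (a + b) = v a * v b := fun _ _ => rfl
  have hp1 : ∀ y, v (p y) - 1 ∈ I S π (d + c) := fun y => by
    rw [← hdn]
    exact hpV y
  have hx : ∀ i, θ * (v (p (ρ (b i))) - 1) ∈ I S π (n - c + 1) := fun i => theta_mul hD.hθ (hp1 _)
  choose u hu hu' using fun i => exists_unit hS (hx i)
  let h : F →+ Additive Rˣ := (b.constr ℤ u).toAddMonoidHom
  have hb : ∀ i, h (b i) = u i := fun i => b.constr_basis ℤ u i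
  have hhV : ∀ x, h x ∈ V hS (n - c) := mem_of_basis b _ h fun i => by
    rw [hb]
    exact hu i
  have hh1 : ∀ x, v (h x) - 1 ∈ I S π d := hhV
  -- the linear approximation
  have hkey : ∀ x, v (h x) - 1 - θ * (v (p (ρ x)) - 1) ∈ I S π (d + d) := by
    have hadd : ∀ x y, v (h (x + y)) - 1 - θ * (v (p (ρ (x + y))) - 1) -
        (v (h x) - 1 - θ * (v (p (ρ x)) - 1)) - (v (h y) - 1 - θ * (v (p (ρ y)) - 1)) ∈ I S π (d + d) := by
      intro x y
      have h1 : v (h (x + y)) - 1 - θ * (v (p (ρ (x + y))) - 1) -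
        (v (h x) - 1 - θ * (v (p (ρ x)) - 1)) - (v (h y) - 1 - θ * (v (p (ρ y)) - 1)) =
          (v (h x) - 1) * (v (h y) - 1) - θ * ((v (p (ρ x)) - 1) * (v (p (ρ y)) - 1)) := by
        rw [map_add, map_add, map_add, hvadd, hvadd]
        ring
      rw [h1]
      refine (I S π (d + d)).sub_mem (I_mul (hh1 x) (hh1 y)) (theta_mul hD.hθ ?_)
      exact I_mono hπ (by omega) (I_mul (hp1 (ρ x)) (hp1 (ρ y)))
    let T : AddSubgroup F :=
      { carrier := {x | v (h x) - 1 - θ * (v (p (ρ x)) - 1) ∈ I S π (d + d)}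
        zero_mem' := by
          change v (h 0) - 1 - θ * (v (p (ρ 0)) - 1) ∈ I S π (d + d)
          rw [map_zero, map_zero, map_zero, hv0, sub_self, mul_zero, sub_zero]
          exact (I S π (d + d)).zero_mem
        add_mem' := by
          intro x y hx hy
          change v (h (x + y)) - 1 - θ * (v (p (ρ (x + y))) - 1) ∈ I S π (d + d)
          have h1 := (I S π (d + d)).add_mem ((I S π (d + d)).add_mem (hadd x y) hx) hy
          have h2 : v (h (x + y)) - 1 - θ * (v (p (ρ (x + y))) - 1) -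
            (v (h x) - 1 - θ * (v (p (ρ x)) - 1)) - (v (h y) - 1 - θ * (v (p (ρ y)) - 1)) +
            (v (h x) - 1 - θ * (v (p (ρ x)) - 1)) + (v (h y) - 1 - θ * (v (p (ρ y)) - 1)) =
            v (h (x + y)) - 1 - θ * (v (p (ρ (x + y))) - 1) := by ring
          rwa [h2] at h1
        neg_mem' := by
          intro x hx
          change v (h (-x)) - 1 - θ * (v (p (ρ (-x))) - 1) ∈ I S π (d + d)
          have h1 := (I S π (d + d)).add_mem (hadd (-x) x) hx
          have h0 : v (h (-x + x)) - 1 - θ * (v (p (ρ (-x + x))) - 1) = 0 := by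
            rw [neg_add_cancel, map_zero, map_zero, map_zero, hv0, sub_self, mul_zero, sub_zero]
          rw [h0] at h1
          have h2 := (I S π (d + d)).neg_mem h1
          have h3 : -(0 - (v (h (-x)) - 1 - θ * (v (p (ρ (-x))) - 1)) - (v (h x) - 1 - θ * (v (p (ρ x)) - 1)) +
              (v (h x) - 1 - θ * (v (p (ρ x)) - 1))) = v (h (-x)) - 1 - θ * (v (p (ρ (-x))) - 1) := by ring
          rwa [h3] at h2 }
    intro x
    have h1 := mem_of_basis b T (AddMonoidHom.id F) (fun i => by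
      change v (h (b i)) - 1 - θ * (v (p (ρ (b i))) - 1) ∈ I S π (d + d)
      rw [hb]
      have h2 : v (u i) = 1 + θ * (v (p (ρ (b i))) - 1) := hu' i
      rw [h2]
      have h3 : 1 + θ * (v (p (ρ (b i))) - 1) - 1 - θ * (v (p (ρ (b i))) - 1) = 0 := by ring
      rw [h3]
      exact (I S π (d + d)).zero_mem) x
    exact h1
  refine ⟨h, hhV, fun y => ?_⟩
  have hnV : nm αF h (j y) ∈ V hS (n - c) := nm_mem _ (fun g u hu => ug_mem_V hS g hu) hhV _
  refine sub_mem_V hS hnV ?_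
  change v (p y) - v (nm αF h (j y)) ∈ I S π (n + 1 + 1)
  set t := v (p y) - 1 with ht
  have htI : t ∈ I S π (d + c) := hp1 y
  let e : G → R := fun g => g • (v (h (αF g⁻¹ (j y))) - 1)
  have heI : ∀ g, e g ∈ I S π d := fun g => hS.smul_I g (hh1 _)
  have h1 : v (nm αF h (j y)) = ∏ g : G, (1 + e g) := by
    rw [nm_apply]
    refine (val_sum _ _).trans (Finset.prod_congr rfl fun g _ => ?_)
    change g • v (h (αF g⁻¹ (j y))) = 1 + g • (v (h (αF g⁻¹ (j y))) - 1)
    rw [smul_sub, smul_one]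
    ring
  have h2 := prod_sub d hπ Finset.univ e (fun g _ => heI g)
  have hpe : ∀ g, g • v (p (αP g⁻¹ y)) = v (p y) := by
    intro g
    have h3 := hp g (αP g⁻¹ y)
    rw [← hD.mulP, mul_inv_cancel, hD.oneP] at h3
    rw [h3]
    rfl
  have hpow : ∀ y, v (p (m • y)) = (v (p y)) ^ m := by
    intro y
    rw [map_nsmul]
    exact Units.val_pow_eq_pow_val _ _
  have h3 : ∀ g, e g - (g • θ) * ((1 + t) ^ m - 1) ∈ I S π (d + d) := by
    intro g
    have h4 := hS.smul_I g (hkey (αF g⁻¹ (j y)))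
    have h5 : g • (v (h (αF g⁻¹ (j y))) - 1 - θ * (v (p (ρ (αF g⁻¹ (j y)))) - 1)) =
        e g - (g • θ) * ((1 + t) ^ m - 1) := by
      have he : e g = g • (v (h (j (αP g⁻¹ y))) - 1) := by rw [hD.hj]
      have h6 : v (p y) = 1 + t := by rw [ht]; ring
      rw [he, smul_sub, smul_mul', smul_sub g (v (p _)), smul_one, ← hD.hj, hD.hρ, hpow, smul_pow', hpe, h6]
    rwa [h5] at h4
  have h4 : ∑ g, e g - (∑ g : G, g • θ) * ((1 + t) ^ m - 1) ∈ I S π (d + d) := by
    rw [Finset.sum_mul, ← Finset.sum_sub_distrib]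
    exact (I S π (d + d)).sum_mem fun g _ => h3 g
  have h5 : (∑ g : G, g • θ) * ((1 + t) ^ m - 1 - m * t) ∈ I S π (d + d) := by
    rw [Finset.sum_mul]
    refine (I S π (d + d)).sum_mem fun g _ => ?_
    have hgθ : π ^ c * (g • θ) ∈ S := by
      have h6 := hS.smul g _ hD.hθ
      rwa [smul_mul', smul_pow', hS.smul_pi] at h6
    refine theta_mul hgθ (I_mono hπ (by omega) (pow_sub (d + c) hπ htI m))
  have h6 : v (p y) - v (nm αF h (j y)) = - ((∏ g : G, (1 + e g) - 1 - ∑ g, e g) +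
      (∑ g, e g - (∑ g : G, g • θ) * ((1 + t) ^ m - 1)) +
      (∑ g : G, g • θ) * ((1 + t) ^ m - 1 - m * t)) := by
    rw [h1]
    have h7 : v (p y) = 1 + t := by rw [ht]; ring
    rw [h7]
    linear_combination (-t) * hD.tr
  rw [h6]
  refine I_mono hπ (n := n + 1 + 1) (k := d + d) (by omega) ?_
  exact (I S π (d + d)).neg_mem ((I S π (d + d)).add_mem ((I S π (d + d)).add_mem h2 h4) h5)

include hS in
/-- Characters with values close to one extend. -/
theorem extend (hD : Dat hS αF αP j ρ m θ c) {ι : Type*} (b : Module.Basis ι ℤ F)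
    (p : P →+ Additive Rˣ) (hp : ∀ g y, p (αP g y) = ug R g (p y)) (hpV : ∀ y, p y ∈ V hS (2 * c)) :
    ∃ f : F →+ Additive Rˣ, (∀ g x, f (αF g x) = ug R g (f x)) ∧ ∀ y, f (j y) = p y := by
  classical
  have key : ∀ (n : ℕ) (p : {p : P →+ Additive Rˣ // (∀ g y, p (αP g y) = ug R g (p y)) ∧ ∀ y, p y ∈ V hS (2 * c + n)}),
      ∃ h : F →+ Additive Rˣ, (∀ x, h x ∈ V hS (2 * c + n - c)) ∧
        ∀ y, p.1 y - nm αF h (j y) ∈ V hS (2 * c + n + 1) := fun n p =>
    step hS hD b (by omega) p.1 p.2.1 p.2.2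
  choose h hh hh' using key
  let Q : ∀ n, {p : P →+ Additive Rˣ // (∀ g y, p (αP g y) = ug R g (p y)) ∧ ∀ y, p y ∈ V hS (2 * c + n)} :=
    fun n => Nat.rec ⟨p, hp, hpV⟩ (fun n q => ⟨q.1 - (nm αF (h n q)).comp j, by
      intro g y
      rw [AddMonoidHom.sub_apply, AddMonoidHom.sub_apply, AddMonoidHom.comp_apply, AddMonoidHom.comp_apply, hD.hj,
        nm_eqv hD.mul, q.2.1, map_sub], fun y => hh' n q y⟩) n
  have hQ0 : (Q 0).1 = p := rfl
  have hQs : ∀ n y, (Q (n + 1)).1 y = (Q n).1 y - nm αF (h n (Q n)) (j y) := fun n y => rfl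
  -- the limit on the basis
  choose w hw using fun i : ι => V_comp hS (fun n => h n (Q n) (b i)) (fun n =>
    V_mono hS (show n ≤ 2 * c + n - c by omega) (hh n (Q n) (b i)))
  let H : F →+ Additive Rˣ := (b.constr ℤ w).toAddMonoidHom
  have hb : ∀ i, H (b i) = w i := fun i => b.constr_basis ℤ w i
  have hH : ∀ n x, H x - ∑ i ∈ Finset.range n, h i (Q i) x ∈ V hS n := by
    intro n x
    have h1 := mem_of_basis b (V hS n) (H - ∑ i ∈ Finset.range n, h i (Q i)) (fun i => by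
      rw [AddMonoidHom.sub_apply, AddMonoidHom.finsetSum_apply, hb]
      exact hw i n) x
    rwa [AddMonoidHom.sub_apply, AddMonoidHom.finsetSum_apply] at h1
  have hQsum : ∀ n y, p y - nm αF (∑ i ∈ Finset.range n, h i (Q i)) (j y) = (Q n).1 y := by
    intro n y
    induction n with
    | zero =>
      rw [Finset.sum_range_zero, hQ0]
      have h1 : nm αF (0 : F →+ Additive Rˣ) (j y) = 0 := by
        rw [nm_apply]
        simp
      rw [h1, sub_zero]
    | succ n ih =>
      rw [Finset.sum_range_succ, nm_add, hQs, ← ih]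
      abel
  refine ⟨nm αF H, nm_eqv hD.mul H, fun y => ?_⟩
  rw [← sub_eq_zero]
  apply V_sep hS
  intro n
  have h1 : nm αF H (j y) - p y = nm αF (H - ∑ i ∈ Finset.range n, h i (Q i)) (j y) - (Q n).1 y := by
    have h2 : H = (H - ∑ i ∈ Finset.range n, h i (Q i)) + ∑ i ∈ Finset.range n, h i (Q i) :=
      AddMonoidHom.ext fun x => (sub_add_cancel (H x) ((∑ i ∈ Finset.range n, h i (Q i)) x)).symm
    conv_lhs => rw [h2, nm_add]
    rw [← hQsum]
    abel
  rw [h1]
  refine (V hS n).sub_mem (nm_mem _ (fun g u hu => ug_mem_V hS g hu) (fun x => ?_) _) (V_mono hS (by omega) ((Q n).2.2 y))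
  rw [AddMonoidHom.sub_apply, AddMonoidHom.finsetSum_apply]
  exact hH n x

end K965.Newton
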