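import Groth.Agent.MultTori.K965.AdicFld
import Groth.Agent.MultTori.K965.IntBasis
import Groth.Agent.MultTori.K965.NewtonExt
import Groth.Agent.MultTori.K965.BcGal
import Mathlib.RingTheory.TensorProduct.Free

/-!
# A complete order in `K̂ ⊗ B`
-/

set_option autoImplicit false
universe u
open scoped TensorProduct

namespace K965.AdicOrd

open IsDedekindDomain WithZero K965.Newton K965.AdicFld K965.Gal K965.BcGal

variable {A : Type u} [CommRing A] [IsDomain A] [IsDiscreteValuationRing A] (v : HeightOneSpectrum A)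
  (K : Type u) [Field K] [Algebra A K] [IsFractionRing A K]
  (B : Type u) [CommRing B] [Algebra K B] [Module.Finite K B] (G : Type) [Group G] [Finite G] [MulSemiringAction G B]
  [SMulCommClass G K B]

theorem exists_order :
    letI := gact K B G (v.adicCompletion K)
    ∃ (S : Subring (v.adicCompletion K ⊗[K] B)) (π : v.adicCompletion K ⊗[K] B), CompOrd G S π ∧
      ∀ (x : v.adicCompletion K ⊗[K] B) (n : ℕ), ∃ b : B, x - 1 ⊗ₜ b ∈ I S π n := by
  classical
  let := gact K B G (v.adicCompletion K)
  have := gact_comm (A := K) (B := B) (G := G) (v.adicCompletion K)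
  obtain ⟨ι, _, b, hmul, hone, hsm⟩ := IntBasis.exists_int_basis A K B G
  obtain ⟨π₀, hπ₀⟩ := exists_pi v K
  let Kh := v.adicCompletion K
  let O := v.adicCompletionIntegers K
  set p : Kh := algebraMap K Kh π₀ with hp
  let β : Module.Basis ι Kh (Kh ⊗[K] B) := Algebra.TensorProduct.basis Kh b
  have hβ : ∀ i, β i = 1 ⊗ₜ b i := fun i => Algebra.TensorProduct.basis_apply b i
  have hrt : ∀ (c : Kh) (x : B) i, β.repr (c ⊗ₜ x) i = c * algebraMap K Kh (b.repr x i) := by
    intro c x i
    have h1 := Algebra.TensorProduct.basis_repr_tmul (A := Kh) b c x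
    have h2 := congrArg (fun z => z i) h1
    refine h2.trans ?_
    rw [Finsupp.smul_apply, Finsupp.mapRange_apply, smul_eq_mul]
  have hAO : ∀ a : A, algebraMap K Kh (algebraMap A K a) ∈ O := by
    intro a
    rw [HeightOneSpectrum.mem_adicCompletionIntegers]
    have h1 := HeightOneSpectrum.valuedAdicCompletion_eq_valuation' (v := v) (algebraMap A K a)
    have h2 := HeightOneSpectrum.valuation_le_one (K := K) v a
    rw [← h1] at h2
    exact h2
  -- coordinates of products and translates
  have hprod : ∀ x y k, β.repr (x * y) k = ∑ i, ∑ j, β.repr x i * β.repr y j * algebraMap K Kh (b.repr (b i * b j) k) := by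
    intro x y k
    have h1 : x * y = ∑ i, ∑ j, (β.repr x i * β.repr y j) • (β i * β j) := by
      conv_lhs => rw [← β.sum_repr x, ← β.sum_repr y]
      rw [Finset.sum_mul]
      refine Finset.sum_congr rfl fun i _ => ?_
      rw [Finset.mul_sum]
      refine Finset.sum_congr rfl fun j _ => ?_
      rw [smul_mul_smul_comm]
    rw [h1, map_sum, Finsupp.finsetSum_apply]
    refine Finset.sum_congr rfl fun i _ => ?_
    rw [map_sum, Finsupp.finsetSum_apply]
    refine Finset.sum_congr rfl fun j _ => ?_
    rw [map_smul, Finsupp.smul_apply, smul_eq_mul, hβ, hβ, Algebra.TensorProduct.tmul_mul_tmul, hrt, one_mul, one_mul]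
  have hsmul : ∀ (g : G) x k, β.repr (g • x) k = ∑ i, β.repr x i * algebraMap K Kh (b.repr (g • b i) k) := by
    intro g x k
    have h1 : g • x = ∑ i, β.repr x i • (g • β i) := by
      conv_lhs => rw [← β.sum_repr x]
      rw [Finset.smul_sum]
      refine Finset.sum_congr rfl fun i _ => ?_
      rw [smul_comm]
    rw [h1, map_sum, Finsupp.finsetSum_apply]
    refine Finset.sum_congr rfl fun i _ => ?_
    have h2 : g • β i = 1 ⊗ₜ (g • b i) := by
      rw [hβ]
      exact act_tmul g 1 (b i)
    rw [map_smul, Finsupp.smul_apply, smul_eq_mul, h2, hrt, one_mul]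
  let S : Subring (Kh ⊗[K] B) :=
    { carrier := {x | ∀ i, β.repr x i ∈ O}
      zero_mem' := fun i => by
        rw [map_zero]
        exact O.zero_mem
      add_mem' := fun {x y} hx hy i => by
        rw [map_add]
        exact O.add_mem _ _ (hx i) (hy i)
      neg_mem' := fun {x} hx i => by
        rw [map_neg]
        exact O.neg_mem _ (hx i)
      one_mem' := fun i => by
        obtain ⟨a, ha⟩ := hone i
        rw [Algebra.TensorProduct.one_def, hrt, one_mul, ha]
        exact hAO a
      mul_mem' := fun {x y} hx hy k => by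
        rw [hprod]
        refine sum_mem fun i _ => sum_mem fun j _ => ?_
        obtain ⟨a, ha⟩ := hmul i j k
        rw [ha]
        exact O.mul_mem _ _ (O.mul_mem _ _ (hx i) (hy j)) (hAO a) }
  have hS : ∀ x, x ∈ S ↔ ∀ i, β.repr x i ∈ O := fun x => Iff.rfl
  let π : Kh ⊗[K] B := algebraMap Kh (Kh ⊗[K] B) p
  have hpow : ∀ (n : ℕ) x i, β.repr (π ^ n * x) i = p ^ n * β.repr x i := by
    intro n x i
    have h1 : π ^ n * x = p ^ n • x := by
      rw [Algebra.smul_def, map_pow]
    rw [h1, map_smul, Finsupp.smul_apply, smul_eq_mul]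
  have hI : ∀ n x, x ∈ I S π n ↔ ∀ i, Valued.v (β.repr x i) ≤ WithZero.exp (-(n : ℤ)) := by
    intro n x
    constructor
    · rintro ⟨s, hs, rfl⟩ i
      rw [hpow, ← mem_pow_iff hπ₀]
      exact ⟨_, hs i, rfl⟩
    · intro h
      choose s hs hs' using fun i => (mem_pow_iff hπ₀ n _).2 (h i)
      refine ⟨∑ i, s i • β i, fun i => ?_, ?_⟩
      · rw [β.repr_sum_self]
        exact hs i
      · apply β.repr.injective
        refine Finsupp.ext fun i => ?_
        rw [hpow, β.repr_sum_self]
        exact hs' i
  refine ⟨S, π, ⟨?_, ?_, ?_, ?_, ?_, ?_⟩, ?_⟩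
  · intro i
    have h1 := hpow 1 1 i
    rw [pow_one, mul_one, pow_one] at h1
    rw [h1]
    refine O.mul_mem _ _ ?_ (S.one_mem i)
    rw [HeightOneSpectrum.mem_adicCompletionIntegers]
    have h2 : Valued.v p = WithZero.exp (-1 : ℤ) := hπ₀
    rw [h2, ← WithZero.exp_zero, WithZero.exp_le_exp]
    omega
  · intro x hx
    apply β.repr.injective
    refine Finsupp.ext fun i => ?_
    rw [map_zero, Finsupp.zero_apply]
    exact eq_zero_of_le _ fun n => (hI n x).1 (hx n) i
  · intro f hf
    choose x hx using fun i => exists_lim (v := v) (K := K) (fun n => β.repr (f n) i) (fun n => by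
      have h1 := (hI n _).1 (hf n) i
      rwa [map_sub, Finsupp.sub_apply] at h1)
    refine ⟨∑ i, x i • β i, fun n => (hI n _).2 fun i => ?_⟩
    rw [map_sub, Finsupp.sub_apply, β.repr_sum_self]
    exact hx i n
  · intro x
    choose n hn using fun i => exists_denom hπ₀ (β.repr x i)
    refine ⟨∑ i, n i, fun i => ?_⟩
    rw [hpow]
    exact hn i _ (Finset.single_le_sum (f := n) (fun _ _ => Nat.zero_le _) (Finset.mem_univ i))
  · intro g x hx k
    rw [hsmul]
    refine sum_mem fun i _ => ?_
    obtain ⟨a, ha⟩ := hsm g i k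
    rw [ha]
    exact O.mul_mem _ _ (hx i) (hAO a)
  · intro g
    have h1 : π = p • (1 : Kh ⊗[K] B) := Algebra.algebraMap_eq_smul_one p
    rw [h1, smul_comm, smul_one]
  · intro x n
    choose k hk using fun i => AdicFld.exists_near (v := v) (β.repr x i) n
    refine ⟨∑ i, k i • b i, (hI n _).2 fun i => ?_⟩
    rw [map_sub, Finsupp.sub_apply, hrt, one_mul, b.repr_sum_self]
    exact hk i

end K965.AdicOrd
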