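import Groth.Agent.MultTori.K965.AdicOrd
import Groth.Prelude.Def_W4c5flasquetoriphsGLat
import Groth.Agent.MultTori.K965.IsGal
import Mathlib.RingTheory.Artinian.Module
import Mathlib.RingTheory.Artinian.Ring

/-!
# `P(K̂) = P(K) F(K̂)`
-/

set_option autoImplicit false
set_option linter.unusedSectionVars false
universe u
open scoped TensorProduct

namespace K965.ApproxChar

open IsDedekindDomain WithZero K965.Newton K965.AdicFld K965.Gal K965.BcGal

/-- the value of a unit -/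
abbrev vv {R : Type*} [Monoid R] (u : Additive Rˣ) : R := (u.toMul : Rˣ)

lemma vv_injective {R : Type*} [Monoid R] {u w : Additive Rˣ} (h : vv u = vv w) : u = w :=
  Additive.toMul.injective (Units.ext h)

section density

variable {K Kh B : Type u} [Field K] [Field Kh] [Algebra K Kh] [CommRing B] [Algebra K B] [Module.Finite K B]
  {G : Type} [Group G] [Fintype G] [MulSemiringAction G B] [SMulCommClass G K B]

lemma isUnit_of_tmul (b : B) (hb : IsUnit ((1 : Kh) ⊗ₜ[K] b)) : IsUnit b := by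
  have : IsArtinianRing B := IsArtinianRing.of_finite K B
  apply IsArtinianRing.isUnit_of_mem_nonZeroDivisors
  rw [mem_nonZeroDivisors_iff_right]
  intro x hx
  have h1 : ((1 : Kh) ⊗ₜ[K] x) * ((1 : Kh) ⊗ₜ[K] b) = 0 := by
    rw [Algebra.TensorProduct.tmul_mul_tmul, hx, TensorProduct.tmul_zero]
  have h2 : ((1 : Kh) ⊗ₜ[K] x) = 0 := (hb.mul_left_eq_zero).1 h1
  have h3 : Function.Injective (fun b : B => (1 : Kh) ⊗ₜ[K] b) :=
    Module.FaithfullyFlat.tensorProduct_mk_injective (A := K) (B := Kh) B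
  apply h3
  change (1 : Kh) ⊗ₜ[K] x = (1 : Kh) ⊗ₜ[K] (0 : B)
  rw [h2, TensorProduct.tmul_zero]

/-- the map on units -/
noncomputable def ibu (K Kh B : Type u) [Field K] [Field Kh] [Algebra K Kh] [CommRing B] [Algebra K B] :
    Additive Bˣ →+ Additive (Kh ⊗[K] B)ˣ :=
  (Units.map ((Algebra.TensorProduct.includeRight : B →ₐ[K] Kh ⊗[K] B) : B →* Kh ⊗[K] B)).toAdditive

lemma vv_ibu (u : Additive Bˣ) : vv (ibu K Kh B u) = 1 ⊗ₜ vv u := rfl

variable {P : Type} [AddCommGroup P] [Module.Finite ℤ P] (σ : Representation ℤ G P) (hσ : GLat.IsPermutation σ)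
  (hG : IsGal K B G)

include hσ hG in
theorem dense {S : Subring (Kh ⊗[K] B)} {π : Kh ⊗[K] B}
    (hS : letI := gact K B G Kh; CompOrd G S π) (hd : ∀ (x : Kh ⊗[K] B) (n : ℕ), ∃ b : B, x - 1 ⊗ₜ b ∈ I S π n)
    (pR : P →+ Additive (Kh ⊗[K] B)ˣ) (hpR : ∀ g y, vv (pR (σ g y)) = act K B Kh g (vv (pR y))) (n : ℕ) :
    ∃ p : P →+ Additive Bˣ, (∀ g y, vv (p (σ g y)) = g • vv (p y)) ∧
      ∀ y, (letI := gact K B G Kh; pR y - ibu K Kh B (p y) ∈ V hS n) := by
  classical
  let := gact K B G Kh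
  obtain ⟨ι, b, hb⟩ := hσ
  choose a ha using hb
  have hfinι : Finite ι := Module.Finite.finite_basis b
  cases nonempty_fintype ι
  have ha1 : ∀ i, a 1 i = i := fun i => b.injective (by rw [← ha, map_one]; rfl)
  have ham : ∀ g h i, a (g * h) i = a g (a h i) := fun g h i => b.injective (by
    rw [← ha, ← ha, ← ha, map_mul]; rfl)
  obtain ⟨t, ht⟩ := hG.tr
  obtain ⟨ct, hct⟩ := hS.denom ((1 : Kh) ⊗ₜ[K] t)
  choose cf hcf using fun i : ι => hS.denom (vv (-(pR (b i))))
  have hcf' : ∀ i, π ^ (∑ i, cf i) * vv (-(pR (b i))) ∈ S := by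
    intro i
    have h1 : cf i ≤ ∑ i, cf i := Finset.single_le_sum (f := cf) (fun _ _ => Nat.zero_le _) (Finset.mem_univ i)
    have h2 : π ^ (∑ i, cf i) * vv (-(pR (b i))) = π ^ (∑ i, cf i - cf i) * (π ^ cf i * vv (-(pR (b i)))) := by
      rw [← mul_assoc, ← pow_add, Nat.sub_add_cancel h1]
    rw [h2]
    exact S.mul_mem (S.pow_mem hS.pi_mem _) (hcf i)
  set C := ∑ i, cf i with hC
  choose b₀ hb₀ using fun i : ι => hd (vv (pR (b i))) (n + 1 + C + ct)
  let β : ι → B := fun i => ∑ g : G, g • (t * b₀ (a g⁻¹ i))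
  have hβ : ∀ g i, β (a g i) = g • β i := by
    intro g i
    simp only [β]
    rw [Finset.smul_sum]
    refine Fintype.sum_equiv (Equiv.mulLeft g⁻¹) _ _ (fun g' => ?_)
    simp only [Equiv.coe_mulLeft]
    rw [smul_smul, mul_inv_cancel_left, mul_inv_rev, inv_inv, ham]
  have hsm : ∀ (g : G) (z : Kh ⊗[K] B), g • z = act K B Kh g z := fun g z => rfl
  have hdiff : ∀ i, 1 ⊗ₜ β i - vv (pR (b i)) ∈ I S π (n + 1 + C) := by
    intro i
    have h1 : ∀ g : G, act K B Kh g (vv (pR (b (a g⁻¹ i)))) = vv (pR (b i)) := by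
      intro g
      rw [← ha, hpR, act_act, mul_inv_cancel, act_one]
    have h2 : (1 : Kh) ⊗ₜ[K] β i - vv (pR (b i)) =
        ∑ g : G, g • (((1 : Kh) ⊗ₜ[K] t) * (- (vv (pR (b (a g⁻¹ i))) - (1 : Kh) ⊗ₜ[K] b₀ (a g⁻¹ i)))) := by
      have h3 : vv (pR (b i)) = ∑ g : G, g • (((1 : Kh) ⊗ₜ[K] t) * vv (pR (b (a g⁻¹ i)))) := by
        simp only [hsm, map_mul, h1, act_tmul]
        rw [← Finset.sum_mul, ← TensorProduct.tmul_sum, ht]
        exact (one_mul _).symm
      have h4 : (1 : Kh) ⊗ₜ[K] β i = ∑ g : G, g • (((1 : Kh) ⊗ₜ[K] t) * ((1 : Kh) ⊗ₜ[K] b₀ (a g⁻¹ i))) := by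
        simp only [hsm, Algebra.TensorProduct.tmul_mul_tmul, act_tmul, one_mul]
        rw [← TensorProduct.tmul_sum]
      conv_lhs => rw [h4, h3]
      rw [← Finset.sum_sub_distrib]
      refine Finset.sum_congr rfl fun g _ => ?_
      rw [← smul_sub]
      congr 1
      ring
    rw [h2]
    refine (I S π (n + 1 + C)).sum_mem fun g _ => hS.smul_I g (theta_mul hct ?_)
    exact (I S π _).neg_mem (hb₀ _)
  have hq : ∀ i, ∃ u ∈ V hS n, vv u = vv (-(pR (b i))) * (1 ⊗ₜ β i) := by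
    intro i
    obtain ⟨u, hu, hu'⟩ := exists_unit hS (theta_mul (hcf' i) (hdiff i))
    refine ⟨u, hu, hu'.trans ?_⟩
    have h1 : vv (-(pR (b i))) * vv (pR (b i)) = 1 := Units.inv_mul _
    rw [mul_sub, h1]
    ring
  have hunit : ∀ i, IsUnit (β i) := by
    intro i
    apply isUnit_of_tmul (K := K) (Kh := Kh)
    obtain ⟨u, -, hu⟩ := hq i
    have h1 : (1 : Kh) ⊗ₜ[K] β i = vv (pR (b i)) * vv u := by
      rw [hu, ← mul_assoc]
      have h2 : vv (pR (b i)) * vv (-(pR (b i))) = 1 := Units.mul_inv _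
      rw [h2, one_mul]
    rw [h1]
    exact (Units.isUnit _).mul (Units.isUnit _)
  let p : P →+ Additive Bˣ := (b.constr ℤ (fun i => Additive.ofMul (hunit i).unit)).toAddMonoidHom
  have hpb : ∀ i, p (b i) = Additive.ofMul (hunit i).unit := fun i => b.constr_basis ℤ _ i
  have hpv : ∀ i, vv (p (b i)) = β i := fun i => by rw [hpb]; rfl
  refine ⟨p, ?_, ?_⟩
  · intro g y
    let f₁ : P →+ Additive Bˣ := p.comp (σ g).toAddMonoidHom
    let f₂ : P →+ Additive Bˣ := ((Units.map (MulSemiringAction.toRingHom G B g : B →* B)).toAdditive).comp p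
    have h1 : f₁.toIntLinearMap = f₂.toIntLinearMap := by
      apply b.ext
      intro i
      apply vv_injective
      change vv (p (σ g (b i))) = g • vv (p (b i))
      rw [ha, hpv, hpv, hβ]
    have h2 := congrArg (fun z : P →ₗ[ℤ] Additive Bˣ => vv (z y)) h1
    exact h2
  · intro y
    have h1 := mem_of_basis b (V hS n) (pR - (ibu K Kh B).comp p) (fun i => ?_) y
    · exact h1
    · obtain ⟨u, hu, hu'⟩ := hq i
      have h2 : (pR - (ibu K Kh B).comp p) (b i) = - u := by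
        apply neg_injective
        rw [neg_neg]
        apply vv_injective
        rw [hu']
        change vv (-(pR (b i) - ibu K Kh B (p (b i)))) = _
        rw [neg_sub, sub_eq_add_neg, add_comm]
        change vv (-(pR (b i))) * vv (ibu K Kh B (p (b i))) = _
        rw [vv_ibu, hpv]
      rw [h2]
      exact (V hS n).neg_mem hu

end density

section main

variable {A : Type u} [CommRing A] [IsDomain A] [IsDiscreteValuationRing A] (v : HeightOneSpectrum A)
  {K : Type u} [Field K] [Algebra A K] [IsFractionRing A K]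
  {B : Type u} [CommRing B] [Algebra K B] {G : Type} [Group G] [Fintype G] [MulSemiringAction G B]
  [SMulCommClass G K B] (hG : IsGal K B G)
  {P F : Type} [AddCommGroup P] [Module.Finite ℤ P] [AddCommGroup F] [Module.Finite ℤ F] [Module.Free ℤ F]
  (σ : Representation ℤ G P) (hσ : GLat.IsPermutation σ) (ρ : Representation ℤ G F)
  (i : P →ₗ[ℤ] F) (hi : GLat.IsEquivariant σ ρ i) (m : ℕ) (hm : (m : K) ≠ 0) (r : F →ₗ[ℤ] P)
  (hr : ∀ y, r (i y) = m • y)

include hG hσ hi hm hr in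
/-- `P(K̂) = P(K) F(K̂)`. -/
theorem exists_decomp (pR : P →+ Additive (v.adicCompletion K ⊗[K] B)ˣ)
    (hpR : ∀ g y, vv (pR (σ g y)) = act K B (v.adicCompletion K) g (vv (pR y))) :
    ∃ (p : P →+ Additive Bˣ) (f : F →+ Additive (v.adicCompletion K ⊗[K] B)ˣ),
      (∀ g y, vv (p (σ g y)) = g • vv (p y)) ∧
      (∀ g x, vv (f (ρ g x)) = act K B (v.adicCompletion K) g (vv (f x))) ∧
      ∀ y, vv (pR y) = (1 ⊗ₜ vv (p y)) * vv (f (i y)) := by
  classical
  have := hG.fin
  let Kh := v.adicCompletion K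
  let := gact K B G Kh
  obtain ⟨S, π, hS, hd⟩ := AdicOrd.exists_order v K B G
  obtain ⟨t, ht⟩ := hG.tr
  let θ : Kh ⊗[K] B := 1 ⊗ₜ (algebraMap K B (m : K)⁻¹ * t)
  obtain ⟨c, hc⟩ := hS.denom θ
  have hsm : ∀ (g : G) (z : Kh ⊗[K] B), g • z = act K B Kh g z := fun g z => rfl
  have hgal : ∀ (g : G) (a : K), g • algebraMap K B a = algebraMap K B a := by
    intro g a
    rw [Algebra.algebraMap_eq_smul_one, smul_comm, smul_one]
  have htr : (m : Kh ⊗[K] B) * ∑ g : G, g • θ = 1 := by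
    have h1 : ∀ g : G, g • θ = 1 ⊗ₜ (algebraMap K B (m : K)⁻¹ * (g • t)) := by
      intro g
      rw [hsm, act_tmul, smul_mul', hgal]
    simp only [h1]
    rw [← TensorProduct.tmul_sum, ← Finset.mul_sum, ht, mul_one]
    have h2 : (m : Kh ⊗[K] B) = 1 ⊗ₜ (algebraMap K B (m : K)) := by
      rw [map_natCast]
      exact (map_natCast (Algebra.TensorProduct.includeRight : B →ₐ[K] Kh ⊗[K] B) m).symm
    rw [h2, Algebra.TensorProduct.tmul_mul_tmul, ← map_mul, mul_inv_cancel₀ hm, map_one, one_mul]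
    rfl
  obtain ⟨p, hp, hpV⟩ := dense σ hσ hG hS hd pR hpR (2 * c)
  have hD : Dat hS (fun g => (ρ g).toAddMonoidHom) (fun g => (σ g).toAddMonoidHom) i.toAddMonoidHom r.toAddMonoidHom
      m θ c := by
    refine ⟨?_, ?_, ?_, ?_, ?_, ?_, hc, htr⟩
    · intro x
      change ρ 1 x = x
      rw [map_one]
      rfl
    · intro g h x
      change ρ (g * h) x = ρ g (ρ h x)
      rw [map_mul]
      rfl
    · intro x
      change σ 1 x = x
      rw [map_one]
      rfl
    · intro g h x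
      change σ (g * h) x = σ g (σ h x)
      rw [map_mul]
      rfl
    · exact hi
    · exact hr
  let p₁ : P →+ Additive (Kh ⊗[K] B)ˣ := pR - (ibu K Kh B).comp p
  have hp₁ : ∀ y, p₁ y = pR y - ibu K Kh B (p y) := fun _ => rfl
  obtain ⟨f, hf, hfi⟩ := extend hS hD (Module.Free.chooseBasis ℤ F) p₁ (by
    intro g y
    apply vv_injective
    change vv (p₁ (σ g y)) = g • vv (p₁ y)
    have h1 : ∀ y, vv (p₁ y) = vv (pR y) * vv (ibu K Kh B (-(p y))) := by
      intro y
      rw [hp₁, map_neg, sub_eq_add_neg]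
      rfl
    have h2 : vv (-(p (σ g y))) = g • vv (-(p y)) := by
      have h3 : -(p (σ g y)) = ug B g (-(p y)) := by
        rw [map_neg]
        congr 1
        apply vv_injective
        exact hp g y
      rw [h3]
      rfl
    rw [h1, h1, smul_mul', hpR, vv_ibu, vv_ibu, h2, hsm, hsm, act_tmul]) hpV
  refine ⟨p, f, hp, fun g x => ?_, fun y => ?_⟩
  · have h1 := congrArg vv (hf g x)
    exact h1
  · have h1 : pR y = ibu K Kh B (p y) + f (i y) := by
      have h2 : f (i y) = p₁ y := hfi y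
      rw [h2, hp₁]
      exact (add_sub_cancel _ _).symm
    rw [h1]
    rfl

end main

end K965.ApproxChar
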