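import Groth.Agent.MultTori.K965.Unif
import Groth.Agent.MultTori.K965.Pts

/-!
# The decomposition `(K̂ ⊗ B)ˣ = (Â ⊗ B)ˣ × ℤ^{Max B}` for a finite étale algebra over a discrete valuation ring
-/

set_option autoImplicit false
universe u
open TensorProduct

namespace K965.Decomp

open K965.Gal K965.Unif K965.Pts

variable {A B : Type u} [CommRing A] [CommRing B] [Algebra A B]

/-- base change of an algebra map on the left -/
noncomputable abbrev bm (B : Type u) [CommRing B] [Algebra A B] {R R' : Type u} [CommRing R] [Algebra A R] [CommRing R']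
    [Algebra A R'] (i : R →ₐ[A] R') : R ⊗[A] B →ₐ[A] R' ⊗[A] B := Algebra.TensorProduct.map i (AlgHom.id A B)

lemma bm_injective [Module.Flat A B] {R R' : Type u} [CommRing R] [Algebra A R] [CommRing R']
    [Algebra A R'] (i : R →ₐ[A] R') (hi : Function.Injective i) : Function.Injective (bm B i) := by
  have h := Module.Flat.rTensor_preserves_injective_linearMap (M := B) i.toLinearMap hi
  exact h

lemma isUnit_tmul {π : A} (R : Type u) [CommRing R] [Algebra A R] (hR : IsUnit (algebraMap A R π)) (b : B)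
    (hb : ∃ n, b ∣ algebraMap A B π ^ n) : IsUnit ((1 : R) ⊗ₜ[A] b) := by
  obtain ⟨n, c, hc⟩ := hb
  have h1 : IsUnit ((1 : R) ⊗ₜ[A] (algebraMap A B π ^ n)) := by
    have h2 : (1 : R) ⊗ₜ[A] (algebraMap A B π ^ n) = algebraMap R (R ⊗[A] B) (algebraMap A R π ^ n) := by
      rw [← map_pow, ← map_pow, Algebra.algebraMap_eq_smul_one, ← TensorProduct.smul_tmul,
        Algebra.TensorProduct.algebraMap_apply, Algebra.algebraMap_self_apply, ← Algebra.algebraMap_eq_smul_one]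
    rw [h2]
    exact (hR.pow n).map _
  rw [hc] at h1
  have h3 : (1 : R) ⊗ₜ[A] (b * c) = ((1 : R) ⊗ₜ[A] b) * ((1 : R) ⊗ₜ[A] c) := by simp
  rw [h3] at h1
  exact isUnit_of_mul_isUnit_left h1

/-- A family of units attached to a family of divisors of powers of `π`. -/
lemma exists_wu {π : A} {Q : Type u} (ϖ : Q → B) (hdiv : ∀ q, ∃ n, ϖ q ∣ algebraMap A B π ^ n)
    (R : Type u) [CommRing R] [Algebra A R] (hR : IsUnit (algebraMap A R π)) :
    ∃ w : Q → Additive (R ⊗[A] B)ˣ, ∀ q, (((w q).toMul : (R ⊗[A] B)ˣ) : R ⊗[A] B) = 1 ⊗ₜ ϖ q := by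
  choose w hw using fun q => isUnit_tmul R hR (ϖ q) (hdiv q)
  exact ⟨fun q => Additive.ofMul (w q), hw⟩

/-- the homomorphism of a family -/
noncomputable def sh {Q : Type u} [Fintype Q] {U : Type u} [AddCommGroup U] (w : Q → U) : (Q → ℤ) →+ U where
  toFun D := ∑ q, D q • w q
  map_zero' := by simp
  map_add' D D' := by simp [add_smul, Finset.sum_add_distrib]

lemma sh_apply {Q : Type u} [Fintype Q] {U : Type u} [AddCommGroup U] (w : Q → U) (D : Q → ℤ) :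
    sh w D = ∑ q, D q • w q := rfl

lemma ne_zero_of_span [IsDomain A] [IsDiscreteValuationRing A] {π : A}
    (hπ : IsLocalRing.maximalIdeal A = Ideal.span {π}) : π ≠ 0 := by
  intro h0
  apply IsDiscreteValuationRing.not_a_field A
  rw [hπ, h0]
  exact Ideal.span_singleton_eq_bot.2 rfl

section main

set_option linter.unusedSectionVars false

variable [IsDomain A] [IsDiscreteValuationRing A] {π : A} (hπ : IsLocalRing.maximalIdeal A = Ideal.span {π})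
  [Module.Finite A B] [Algebra.Etale A B] [Fintype (MaximalSpectrum B)]
  (ϖ : MaximalSpectrum B → B) (hϖ : ∀ q, q.asIdeal = Ideal.span {ϖ q})
  {Ah Kh : Type u} [CommRing Ah] [IsLocalRing Ah] [Algebra A Ah] [Module.FaithfullyFlat A Ah] [CommRing Kh] [Algebra A Kh]
  (i : Ah →ₐ[A] Kh) (hi : Function.Injective i) (hπh : algebraMap A Ah π ∈ IsLocalRing.maximalIdeal Ah)
  (hdense : ∀ (x : Ah) (n : ℕ), ∃ (a : A) (y : Ah), x = algebraMap A Ah a + algebraMap A Ah π ^ n * y)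
  (hden : ∀ x : Kh, ∃ (n : ℕ) (y : Ah), algebraMap A Kh π ^ n * x = i y)
  (w : MaximalSpectrum B → Additive (Kh ⊗[A] B)ˣ)
  (hw : ∀ q, (((w q).toMul : (Kh ⊗[A] B)ˣ) : Kh ⊗[A] B) = 1 ⊗ₜ ϖ q)

include hdense in
lemma exists_approx (z : Ah ⊗[A] B) (n : ℕ) : ∃ (b : B) (y : Ah ⊗[A] B), z = 1 ⊗ₜ b + (1 ⊗ₜ (algebraMap A B π ^ n)) * y := by
  induction z using TensorProduct.induction_on with
  | zero => exact ⟨0, 0, by simp⟩
  | tmul x c =>
    obtain ⟨a, y, rfl⟩ := hdense x n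
    refine ⟨a • c, y ⊗ₜ c, ?_⟩
    rw [TensorProduct.add_tmul, Algebra.TensorProduct.tmul_mul_tmul, ← TensorProduct.smul_tmul, one_mul,
      ← Algebra.algebraMap_eq_smul_one]
    congr 1
    rw [← map_pow, ← map_pow, ← Algebra.smul_def, ← Algebra.smul_def, TensorProduct.smul_tmul]
  | add x y hx hy =>
    obtain ⟨b, y', rfl⟩ := hx
    obtain ⟨b', y'', rfl⟩ := hy
    exact ⟨b + b', y' + y'', by rw [TensorProduct.tmul_add]; ring⟩

include hden in
lemma exists_denom (z : Kh ⊗[A] B) : ∃ (n : ℕ) (y : Ah ⊗[A] B), (1 ⊗ₜ (algebraMap A B π ^ n)) * z = bm B i y := by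
  induction z using TensorProduct.induction_on with
  | zero => exact ⟨0, 0, by simp⟩
  | tmul x c =>
    obtain ⟨n, y, hy⟩ := hden x
    refine ⟨n, y ⊗ₜ c, ?_⟩
    rw [Algebra.TensorProduct.map_tmul, ← hy, Algebra.TensorProduct.tmul_mul_tmul, one_mul]
    rw [← map_pow, ← map_pow, ← Algebra.smul_def, ← Algebra.smul_def, TensorProduct.smul_tmul]
    rfl
  | add x x' hx hx' =>
    obtain ⟨n, y, hy⟩ := hx
    obtain ⟨n', y', hy'⟩ := hx'
    have hp : ∀ m : ℕ, bm B i (1 ⊗ₜ (algebraMap A B π ^ m)) = 1 ⊗ₜ (algebraMap A B π ^ m) := by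
      intro m
      simp
    refine ⟨n + n', (1 ⊗ₜ (algebraMap A B π ^ n')) * y + (1 ⊗ₜ (algebraMap A B π ^ n)) * y', ?_⟩
    have h1 : (1 : Kh) ⊗ₜ[A] (algebraMap A B π ^ (n + n')) =
        (1 ⊗ₜ (algebraMap A B π ^ n)) * (1 ⊗ₜ (algebraMap A B π ^ n')) := by
      rw [Algebra.TensorProduct.tmul_mul_tmul, one_mul, pow_add]
    rw [map_add, map_mul, map_mul, ← hy, ← hy', hp, hp, h1]
    ring

lemma bm_one_tmul (b : B) : bm B i (1 ⊗ₜ b) = 1 ⊗ₜ b := by simp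

include hπ hϖ hi hπh hdense hden hw in
/-- Every unit of `Kh ⊗ B` is a unit of `Ah ⊗ B` times a product of uniformizers. -/
theorem exists_decomp (u : Additive (Kh ⊗[A] B)ˣ) :
    ∃ (v : Additive (Ah ⊗[A] B)ˣ) (D : MaximalSpectrum B → ℤ),
      u = um (bm B i : Ah ⊗[A] B →+* Kh ⊗[A] B) v + sh w D := by
  classical
  have hπ0 : π ≠ 0 := ne_zero_of_span hπ
  let H : AddSubgroup (Additive (Kh ⊗[A] B)ˣ) := (um (bm B i : Ah ⊗[A] B →+* Kh ⊗[A] B)).range ⊔ (sh w).range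
  suffices h : u ∈ H by
    obtain ⟨x, ⟨v, rfl⟩, y, ⟨D, rfl⟩, hxy⟩ := AddSubgroup.mem_sup.1 h
    exact ⟨v, D, hxy.symm⟩
  -- the elements of `B` in `H`
  let HB : Submonoid B :=
    { carrier := {b | ∃ x ∈ H, ((x.toMul : (Kh ⊗[A] B)ˣ) : Kh ⊗[A] B) = 1 ⊗ₜ b}
      mul_mem' := by
        rintro b b' ⟨x, hx, hxb⟩ ⟨x', hx', hxb'⟩
        refine ⟨x + x', H.add_mem hx hx', ?_⟩
        rw [toMul_add, Units.val_mul, hxb, hxb']
        simp
      one_mem' := ⟨0, H.zero_mem, rfl⟩ }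
  have hHB : ∀ b : B, (∃ n, b ∣ algebraMap A B π ^ n) → b ∈ HB := by
    intro b hb
    refine exists_factor hπ0 ϖ hϖ HB ?_ ?_ b hb
    · rintro _ ⟨b, rfl⟩
      refine ⟨um (bm B i : Ah ⊗[A] B →+* Kh ⊗[A] B) (um (Algebra.TensorProduct.includeRight : B →ₐ[A] Ah ⊗[A] B) (Additive.ofMul b)),
        AddSubgroup.mem_sup_left ⟨_, rfl⟩, ?_⟩
      rw [val_um]
      exact bm_one_tmul i _
    · intro q
      refine ⟨w q, AddSubgroup.mem_sup_right ⟨Pi.single q 1, ?_⟩, hw q⟩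
      rw [sh_apply, Finset.sum_eq_single q]
      · simp
      · intro q' _ hq'
        rw [Pi.single_eq_of_ne hq', zero_smul]
      · intro h
        exact absurd (Finset.mem_univ q) h
  -- denominators
  obtain ⟨n, x, hx⟩ := exists_denom (π := π) i hden ((u.toMul : (Kh ⊗[A] B)ˣ) : Kh ⊗[A] B)
  obtain ⟨m, y, hy⟩ := exists_denom (π := π) i hden (((-u).toMul : (Kh ⊗[A] B)ˣ) : Kh ⊗[A] B)
  have hpow : ∀ (R : Type u) [CommRing R] [Algebra A R] (a b : ℕ), (1 : R) ⊗ₜ[A] (algebraMap A B π ^ (a + b)) =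
        (1 ⊗ₜ (algebraMap A B π ^ a)) * (1 ⊗ₜ (algebraMap A B π ^ b)) := by
    intro R _ _ a b
    rw [Algebra.TensorProduct.tmul_mul_tmul, one_mul, pow_add]
  have hxy : x * y = 1 ⊗ₜ (algebraMap A B π ^ (n + m)) := by
    apply bm_injective i hi
    rw [map_mul, ← hx, ← hy, bm_one_tmul, hpow]
    have h1 : ((u.toMul : (Kh ⊗[A] B)ˣ) : Kh ⊗[A] B) * (((-u).toMul : (Kh ⊗[A] B)ˣ) : Kh ⊗[A] B) = 1 := by
      rw [← Units.val_mul, ← toMul_add, add_neg_cancel, toMul_zero, Units.val_one]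
    linear_combination (((1 : Kh) ⊗ₜ[A] (algebraMap A B π ^ n)) * ((1 : Kh) ⊗ₜ[A] (algebraMap A B π ^ m))) * h1
  obtain ⟨b, r, hb⟩ := exists_approx (π := π) hdense x (n + m + 1)
  -- `b = x * ε`
  have hε : IsUnit (1 - algebraMap Ah (Ah ⊗[A] B) (algebraMap A Ah π) * (y * r)) :=
    isUnit_one_sub (A := Ah) (B := Ah ⊗[A] B) (algebraMap A Ah π) hπh (y * r)
  have hπ1 : algebraMap Ah (Ah ⊗[A] B) (algebraMap A Ah π) = 1 ⊗ₜ (algebraMap A B π) := by
    rw [Algebra.TensorProduct.algebraMap_apply, Algebra.algebraMap_self_apply, Algebra.algebraMap_eq_smul_one,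
      Algebra.algebraMap_eq_smul_one, TensorProduct.smul_tmul]
  rw [hπ1] at hε
  obtain ⟨ε, hε⟩ := hε
  have hbx : (1 : Ah) ⊗ₜ[A] b = x * ε := by
    rw [hε]
    have h1 := hpow Ah (n + m) 1
    rw [pow_one] at h1
    have h2 : (1 : Ah) ⊗ₜ[A] b = x - (1 ⊗ₜ (algebraMap A B π ^ (n + m + 1))) * r := by
      rw [eq_sub_iff_add_eq]
      exact hb.symm
    rw [h2, h1, ← hxy]
    ring
  have hbdiv : b ∣ algebraMap A B π ^ (n + m) := by
    refine dvd_of_tmul b _ (((ε⁻¹ : (Ah ⊗[A] B)ˣ) : Ah ⊗[A] B) * y) ?_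
    rw [hbx, ← hxy]
    have h1 : ((ε : (Ah ⊗[A] B)ˣ) : Ah ⊗[A] B) * ((ε⁻¹ : (Ah ⊗[A] B)ˣ) : Ah ⊗[A] B) = 1 := Units.mul_inv ε
    linear_combination (-(x * y)) * h1
  obtain ⟨ub, hub, hub'⟩ := hHB b ⟨_, hbdiv⟩
  obtain ⟨un, hun, hun'⟩ := hHB (algebraMap A B π ^ n) ⟨n, dvd_rfl⟩
  have hfin : u = ub - un - um (bm B i : Ah ⊗[A] B →+* Kh ⊗[A] B) (Additive.ofMul ε) := by
    rw [eq_sub_iff_add_eq, eq_sub_iff_add_eq]
    apply addUnits_ext
    rw [toMul_add, toMul_add, Units.val_mul, Units.val_mul, hub', hun', val_um]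
    have h1 := congrArg (bm B i) hbx
    rw [map_mul, bm_one_tmul, ← hx] at h1
    rw [h1]
    change _ * bm B i (ε : Ah ⊗[A] B) * _ = _
    ring
  rw [hfin]
  exact H.sub_mem (H.sub_mem hub hun) (AddSubgroup.mem_sup_left ⟨_, rfl⟩)

include hw in
/-- a product of uniformizers with nonnegative exponents -/
lemma val_sh_nat (n : MaximalSpectrum B → ℕ) :
    (((sh w (fun q => (n q : ℤ))).toMul : (Kh ⊗[A] B)ˣ) : Kh ⊗[A] B) = 1 ⊗ₜ (∏ q, ϖ q ^ n q) := by
  have h1 : (1 : Kh) ⊗ₜ[A] (∏ q, ϖ q ^ n q) = ∏ q, ((1 : Kh) ⊗ₜ[A] ϖ q) ^ n q := by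
    change (Algebra.TensorProduct.includeRight : B →ₐ[A] Kh ⊗[A] B) (∏ q, ϖ q ^ n q) = _
    rw [map_prod]
    simp
  rw [h1, sh_apply, toMul_sum, Units.coe_prod]
  refine Finset.prod_congr rfl fun q _ => ?_
  rw [toMul_zsmul, zpow_natCast, Units.val_pow_eq_pow_val, hw]

include hπ hϖ hi hw in
/-- Uniqueness of the decomposition. -/
theorem eq_zero_of_sh (v : Additive (Ah ⊗[A] B)ˣ) (D : MaximalSpectrum B → ℤ)
    (h : sh w D = um (bm B i : Ah ⊗[A] B →+* Kh ⊗[A] B) v) : D = 0 := by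
  classical
  let n : MaximalSpectrum B → ℕ := fun q => (D q).toNat
  let m : MaximalSpectrum B → ℕ := fun q => (- D q).toNat
  have hD : D = (fun q => (n q : ℤ)) - (fun q => (m q : ℤ)) := by
    ext q
    simp only [n, m, Pi.sub_apply]
    omega
  have h1 : sh w (fun q => (n q : ℤ)) = um (bm B i : Ah ⊗[A] B →+* Kh ⊗[A] B) v + sh w (fun q => (m q : ℤ)) := by
    rw [← h, ← map_add]
    congr 1
    rw [hD]
    ext q
    simp
  have h2 := congrArg (fun z : Additive (Kh ⊗[A] B)ˣ => ((z.toMul : (Kh ⊗[A] B)ˣ) : Kh ⊗[A] B)) h1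
  rw [toMul_add, Units.val_mul, val_sh_nat ϖ w hw, val_sh_nat ϖ w hw, val_um] at h2
  set a : B := ∏ q, ϖ q ^ n q with ha
  set b : B := ∏ q, ϖ q ^ m q with hb
  have h3 : (1 : Ah) ⊗ₜ[A] a = (1 ⊗ₜ b) * ((v.toMul : (Ah ⊗[A] B)ˣ) : Ah ⊗[A] B) := by
    apply bm_injective i hi
    rw [map_mul, bm_one_tmul, bm_one_tmul, h2, mul_comm]
    rfl
  have h4 : (1 : Ah) ⊗ₜ[A] b = (1 ⊗ₜ a) * (((v.toMul⁻¹ : (Ah ⊗[A] B)ˣ)) : Ah ⊗[A] B) := by
    rw [h3, mul_assoc, Units.mul_inv, mul_one]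
  obtain ⟨c, hc⟩ := dvd_of_tmul b a _ h3
  obtain ⟨d, hd⟩ := dvd_of_tmul a b _ h4
  have key : ∀ (n m : MaximalSpectrum B → ℕ), (∀ q, n q = 0 ∨ m q = 0) →
      (∃ d, (∏ q, ϖ q ^ m q) = (∏ q, ϖ q ^ n q) * d) → ∀ q, n q = 0 := by
    intro n m hnm ⟨d, hd⟩ q
    by_contra hne
    have h5 : ϖ q ∈ q.asIdeal := by
      rw [hϖ q]
      exact Ideal.mem_span_singleton_self _
    have h6 : (∏ q, ϖ q ^ n q) ∈ q.asIdeal := by
      refine Ideal.mem_of_dvd _ (Finset.dvd_prod_of_mem _ (Finset.mem_univ q)) ?_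
      exact Ideal.pow_mem_of_mem _ h5 _ (Nat.pos_of_ne_zero hne)
    have h7 : (∏ q, ϖ q ^ m q) ∈ q.asIdeal := by
      rw [hd]
      exact Ideal.mul_mem_right _ _ h6
    have hp := q.isMaximal.isPrime
    obtain ⟨q', -, hq'⟩ := (Ideal.IsPrime.prod_mem_iff).1 h7
    have hm0 : m q' ≠ 0 := by
      intro h0
      rw [h0, pow_zero] at hq'
      exact hp.ne_top ((Ideal.eq_top_iff_one _).2 hq')
    have h8 := hp.mem_of_pow_mem _ hq'
    have h9 : q'.asIdeal ≤ q.asIdeal := by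
      rw [hϖ q', Ideal.span_singleton_le_iff_mem]
      exact h8
    have h10 : q' = q := MaximalSpectrum.ext (q'.isMaximal.eq_of_le hp.ne_top h9)
    subst h10
    rcases hnm q' with h11 | h11
    · exact hne h11
    · exact hm0 h11
  have hnm : ∀ q, n q = 0 ∨ m q = 0 := by
    intro q
    simp only [n, m]
    omega
  have e1 := key n m hnm ⟨d, hd⟩
  have e2 := key m n (fun q => (hnm q).symm) ⟨c, hc⟩
  rw [hD]
  ext q
  simp [e1 q, e2 q]

end main

end K965.Decomp
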