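import Mathlib.Algebra.MvPolynomial.Funext
import Mathlib.RingTheory.Localization.Away.Basic
import Mathlib.RingTheory.Spectrum.Prime.Topology

/-!
# Rational points of open subsets of affine space over an infinite field
-/

set_option autoImplicit false
universe u

namespace K965.DensePt

theorem exists_ev {k : Type u} [Field k] [Infinite k] {n : ℕ} (d : MvPolynomial (Fin n) k) (hd : d ≠ 0)
    (V : Set (PrimeSpectrum (Localization.Away d))) (hV : IsOpen V) (hne : V.Nonempty) :
    ∃ ev : Localization.Away d →ₐ[k] k, ∀ y : PrimeSpectrum k, PrimeSpectrum.comap (ev : Localization.Away d →+* k) y ∈ V := by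
  obtain ⟨P, hP⟩ := hne
  obtain ⟨_, ⟨f, rfl⟩, hPf, hfV⟩ := PrimeSpectrum.isTopologicalBasis_basic_opens.exists_subset_of_mem_open hP hV
  have hf0 : f ≠ 0 := by
    rintro rfl
    exact hPf P.asIdeal.zero_mem
  obtain ⟨⟨a, s⟩, ha⟩ := IsLocalization.surj (Submonoid.powers d) f
  dsimp only at ha
  obtain ⟨m, hm⟩ := s.2
  have hinj : Function.Injective (algebraMap (MvPolynomial (Fin n) k) (Localization.Away d)) :=
    IsLocalization.injective _ (powers_le_nonZeroDivisors_of_noZeroDivisors hd)
  have ha0 : a ≠ 0 := by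
    rintro rfl
    rw [map_zero] at ha
    have hu : IsUnit (algebraMap (MvPolynomial (Fin n) k) (Localization.Away d) s) := IsLocalization.map_units _ s
    exact hf0 (hu.mul_left_eq_zero.1 ha)
  obtain ⟨y, hy⟩ : ∃ y : Fin n → k, MvPolynomial.eval y (a * d) ≠ 0 := by
    by_contra hne
    push Not at hne
    exact mul_ne_zero ha0 hd (MvPolynomial.funext fun y => by rw [hne y, map_zero])
  rw [map_mul] at hy
  have hya := left_ne_zero_of_mul hy
  have hyd := right_ne_zero_of_mul hy
  let ψ : MvPolynomial (Fin n) k →ₐ[k] k := MvPolynomial.aeval y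
  have hψ : ∀ p, ψ p = MvPolynomial.eval y p := fun p => by
    rw [MvPolynomial.aeval_eq_eval]
  let ev : Localization.Away d →ₐ[k] k := IsLocalization.liftAlgHom (M := Submonoid.powers d) (f := ψ) (by
    rintro ⟨_, i, rfl⟩
    rw [isUnit_iff_ne_zero, map_pow, hψ]
    exact pow_ne_zero i hyd)
  have hev : ∀ p, ev (algebraMap _ _ p) = MvPolynomial.eval y p := fun p => by
    rw [← hψ]
    exact IsLocalization.lift_eq _ _
  refine ⟨ev, fun z => hfV ?_⟩
  have h1 : ev f ≠ 0 := by
    intro h0
    have h2 := congrArg ev ha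
    rw [map_mul, h0, zero_mul, hev] at h2
    exact hya h2.symm
  intro h2
  have h3 : ev f ∈ z.asIdeal := h2
  exact z.isPrime.ne_top (Ideal.eq_top_of_isUnit_mem _ h3 (isUnit_iff_ne_zero.2 h1))

end K965.DensePt
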