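import Groth.Agent.MultTori.K965.Alpha
import Groth.Agent.MultTori.K965.GalCov
import Groth.Agent.Sga3B.TorusAlgClosed
import Groth.Prelude.Def_TwC

/-!
# Points of isotrivial tori: the dictionary with equivariant characters

`Dict A B G T M`: for a group scheme `T` over `Spec A` and a Galois extension `B` of `A` with group `G`, the points of
`T` over an `A`-algebra `R` are the `G`-equivariant homomorphisms `M → (R ⊗[A] B)ˣ`, naturally in `R`.
`exists_dict`: it exists for every isotrivial torus over a connected ring.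
-/

set_option autoImplicit false
universe u
open CategoryTheory MonoidalCategory CartesianMonoidalCategory MonObj GrpObj AlgebraicGeometry
open TensorProduct

namespace K965.Dic

open K965.Pts K965.Alpha K965.Gal

/-- descent of morphisms to affine schemes -/
lemma exists_descend {R R' : Type u} [CommRing R] [CommRing R'] (i : R →+* R') (hi : Function.Injective i)
    (X : Scheme.{u}) [IsAffine X] (y : Spec (CommRingCat.of R') ⟶ X) {I : Type} (ρ : I → R' →+* R')
    (hinv : ∀ r', (∀ g, ρ g r' = r') → ∃ r, i r = r')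
    (hy : ∀ g, Spec.map (CommRingCat.ofHom (ρ g)) ≫ y = y) :
    ∃ x : Spec (CommRingCat.of R) ⟶ X, Spec.map (CommRingCat.ofHom i) ≫ x = y := by
  let ψ : Γ(X, ⊤) ⟶ CommRingCat.of R' := Spec.preimage (y ≫ X.isoSpec.hom)
  have hψ : Spec.map ψ = y ≫ X.isoSpec.hom := Spec.map_preimage _
  have h1 : ∀ g, ψ ≫ CommRingCat.ofHom (ρ g) = ψ := by
    intro g
    apply Spec.map_injective
    rw [Spec.map_comp, hψ, ← Category.assoc, hy g]
  have h2 : ∀ a, ∃ r, i r = ψ.hom a := fun a => hinv _ fun g => congr($(h1 g).hom a)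
  choose f hf using h2
  let ψ₀ : Γ(X, ⊤) →+* R :=
    { toFun := f
      map_one' := hi (by rw [hf, map_one, map_one])
      map_mul' := fun a b => hi (by rw [map_mul, hf, hf, hf, map_mul])
      map_zero' := hi (by rw [hf, map_zero, map_zero])
      map_add' := fun a b => hi (by rw [map_add, hf, hf, hf, map_add]) }
  refine ⟨Spec.map (CommRingCat.ofHom ψ₀) ≫ X.isoSpec.inv, ?_⟩
  rw [← cancel_mono X.isoSpec.hom, ← hψ]
  simp only [Category.assoc, Iso.inv_hom_id, Category.comp_id]
  rw [← Spec.map_comp]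
  congr 1
  ext a
  exact hf a

lemma mp_injective {A R R' : Type u} [CommRing A] [CommRing R] [CommRing R'] {φ : A →+* R} {φ' : A →+* R'}
    (i : R →+* R') (hi : Function.Injective i) (h : i.comp φ = φ') {X : Over (Spec (CommRingCat.of A))} [IsAffine X.left]
    (x y : sp φ ⟶ X) (hxy : mp i h ≫ x = mp i h ≫ y) : x = y := by
  ext1
  rw [← cancel_mono X.left.isoSpec.hom]
  obtain ⟨ψ, hψ⟩ : ∃ ψ, Spec.map ψ = x.left ≫ X.left.isoSpec.hom := ⟨_, Spec.map_preimage _⟩
  obtain ⟨ψ', hψ'⟩ : ∃ ψ, Spec.map ψ = y.left ≫ X.left.isoSpec.hom := ⟨_, Spec.map_preimage _⟩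
  rw [← hψ, ← hψ']
  congr 1
  ext a
  apply hi
  have h1 : ψ ≫ CommRingCat.ofHom i = ψ' ≫ CommRingCat.ofHom i := by
    apply Spec.map_injective
    rw [Spec.map_comp, Spec.map_comp, hψ, hψ']
    have h2 := congrArg (fun z => z.left) hxy
    simp only [Over.comp_left, mp_left] at h2
    rw [reassoc_of% h2]
  exact congr($(h1).hom a)

/-- descent of points of affine schemes over `Spec A` -/
lemma exists_descend_over {A R R' : Type u} [CommRing A] [CommRing R] [CommRing R'] {φ : A →+* R} {φ' : A →+* R'}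
    (i : R →+* R') (hi : Function.Injective i) (h : i.comp φ = φ') (X : Over (Spec (CommRingCat.of A)))
    [IsAffine X.left] (y : sp φ' ⟶ X) {I : Type} (ρ : I → R' →+* R')
    (hinv : ∀ r', (∀ g, ρ g r' = r') → ∃ r, i r = r') (hρ : ∀ g, (ρ g).comp φ' = φ')
    (hy : ∀ g, mp (ρ g) (hρ g) ≫ y = y) :
    ∃ x : sp φ ⟶ X, mp i h ≫ x = y := by
  obtain ⟨x, hx⟩ := exists_descend i hi X.left y.left ρ hinv (fun g => congrArg (fun z => z.left) (hy g))
  refine ⟨Over.homMk x ?_, ?_⟩
  · change x ≫ X.hom = Spec.map (CommRingCat.ofHom φ)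
    obtain ⟨ψ, hψ⟩ : ∃ ψ, Spec.map ψ = x ≫ X.hom := ⟨_, Spec.map_preimage _⟩
    rw [← hψ]
    congr 1
    ext a
    apply hi
    have h1 : ψ ≫ CommRingCat.ofHom i = CommRingCat.ofHom φ' := by
      apply Spec.map_injective
      rw [Spec.map_comp, hψ, ← Category.assoc, hx]
      exact Over.w y
    have h2 := congr($(h1).hom a)
    rw [← h] at h2
    exact h2
  · ext1
    exact hx

section

variable (A B : Type u) [CommRing A] [CommRing B] [Algebra A B] (G : Type) [Group G] [MulSemiringAction G B]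
  [SMulCommClass G A B] (T : Over (Spec (CommRingCat.of A))) [GrpObj T] (M : Type) [AddCommGroup M]
  [DistribMulAction G M]

/-- The dictionary between points of `T` and equivariant characters. -/
structure _root_.K965.Dict where
  /-- the character of a point -/
  ch : ∀ (R : Type u) [CommRing R] [Algebra A R], (sp (algebraMap A R) ⟶ T) → (M →+ Additive (R ⊗[A] B)ˣ)
  ch_mul : ∀ (R : Type u) [CommRing R] [Algebra A R] (x y : sp (algebraMap A R) ⟶ T),
    ch R (x * y) = ch R x + ch R y
  ch_inj : ∀ (R : Type u) [CommRing R] [Algebra A R], Function.Injective (ch R)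
  ch_smul : ∀ (R : Type u) [CommRing R] [Algebra A R] (x : sp (algebraMap A R) ⟶ T) (g : G) (m : M),
    (((ch R x (g • m)).toMul : (R ⊗[A] B)ˣ) : R ⊗[A] B) = act A B R g ((ch R x m).toMul : (R ⊗[A] B)ˣ)
  ch_surj : ∀ (R : Type u) [CommRing R] [Algebra A R] (χ : M →+ Additive (R ⊗[A] B)ˣ),
    (∀ (g : G) (m : M), (((χ (g • m)).toMul : (R ⊗[A] B)ˣ) : R ⊗[A] B) = act A B R g ((χ m).toMul : (R ⊗[A] B)ˣ)) →
    ∃ x, ch R x = χ
  ch_nat : ∀ (R R' : Type u) [CommRing R] [Algebra A R] [CommRing R'] [Algebra A R'] (ψ : R →ₐ[A] R')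
    (x : sp (algebraMap A R) ⟶ T) (m : M),
    ((ch R' (mp (ψ : R →+* R') ψ.comp_algebraMap ≫ x) m).toMul : (R' ⊗[A] B)ˣ) =
      Units.map (Algebra.TensorProduct.map ψ (AlgHom.id A B) : R ⊗[A] B →* R' ⊗[A] B) (ch R x m).toMul

end

section build

variable {A B : Type u} [CommRing A] [CommRing B] [Algebra A B] {G : Type} [Group G]
  [MulSemiringAction G B] [SMulCommClass G A B] {T : Over (Spec (CommRingCat.of A))} [GrpObj T] {M : Type}
  [AddCommGroup M]
  (e : Grp.mk (Red.bc (Spec.map (CommRingCat.ofHom (algebraMap A B))) T) ≅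
    Grp.mk (Red.DS (Spec (CommRingCat.of B)) M))

/-- the right inclusion as a ring map -/
noncomputable def inr (A B R : Type u) [CommRing A] [CommRing B] [Algebra A B] [CommRing R] [Algebra A R] :
    B →+* R ⊗[A] B := (Algebra.TensorProduct.includeRight : B →ₐ[A] R ⊗[A] B)

/-- the left inclusion as a ring map -/
noncomputable def inl (A B R : Type u) [CommRing A] [CommRing B] [Algebra A B] [CommRing R] [Algebra A R] :
    R →+* R ⊗[A] B := (Algebra.TensorProduct.includeLeft : R →ₐ[A] R ⊗[A] B)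

lemma inr_comp (R : Type u) [CommRing R] [Algebra A R] :
    (inr A B R).comp (algebraMap A B) = algebraMap A (R ⊗[A] B) := by
  ext a
  exact (Algebra.TensorProduct.includeRight : B →ₐ[A] R ⊗[A] B).commutes a

lemma inl_comp (R : Type u) [CommRing R] [Algebra A R] :
    (inl A B R).comp (algebraMap A R) = algebraMap A (R ⊗[A] B) := by
  ext a
  exact (Algebra.TensorProduct.includeLeft : R →ₐ[A] R ⊗[A] B).commutes a

/-- the character of a point -/
noncomputable def dch (R : Type u) [CommRing R] [Algebra A R] (x : sp (algebraMap A R) ⟶ T) :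
    M →+ Additive (R ⊗[A] B)ˣ :=
  Pts.ch (algebraMap A B) e (inr A B R) (inr_comp R) (mp (inl A B R) (inl_comp R) ≫ x)

/-- the ring map of `g` -/
def gr (A : Type u) {B : Type u} [CommRing A] [CommRing B] [Algebra A B] {G : Type} [Group G] [MulSemiringAction G B]
    [SMulCommClass G A B] (g : G) : B →+* B := (MulSemiringAction.toAlgHom A B g : B →ₐ[A] B)

lemma gr_comp (g : G) : (gr A g).comp (algebraMap A B) = algebraMap A B :=
  (MulSemiringAction.toAlgHom A B g : B →ₐ[A] B).comp_algebraMap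

lemma gr_mul (g h : G) : gr A (g * h) = (gr A g : B →+* B).comp (gr A h) := by
  ext b
  exact mul_smul g h b

lemma gr_one : gr A (1 : G) = RingHom.id B := by
  ext b
  exact one_smul G b

lemma uc_injective [Nontrivial B] : Function.Injective (uc B M) := by
  intro m m' h
  have h1 := congrArg (fun z : Additive (MonoidAlgebra B (Multiplicative M))ˣ =>
      (z.toMul : MonoidAlgebra B (Multiplicative M))) h
  exact Multiplicative.ofAdd.injective (MonoidAlgebra.of_injective h1)

/-- The action of the Galois group on the characters. -/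
theorem exists_action [Nontrivial B] (hB : ∀ x : B, x * x = x → x = 0 ∨ x = 1) :
    ∃ (_ : DistribMulAction G M), ∀ (g : G) {R : Type u} [CommRing R] (s : B →+* R) {φ : A →+* R}
      (h : s.comp (algebraMap A B) = φ) (h' : (s.comp (gr A g)).comp (algebraMap A B) = φ) (x : sp φ ⟶ T) (m : M),
      Pts.ch (algebraMap A B) e (s.comp (gr A g)) h' x m = Pts.ch (algebraMap A B) e s h x (g • m) := by
  have key := fun g : G => exists_alpha (algebraMap A B) e hB (gr A g) (gr_comp g)
  choose α hα using key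
  let s₀ : B →+* MonoidAlgebra B (Multiplicative M) := MonoidAlgebra.singleOneRingHom
  obtain ⟨x₀, hx₀⟩ := ch_surjective (algebraMap A B) e s₀ rfl (uc B M)
  have hh : ∀ g : G, (s₀.comp (gr A g)).comp (algebraMap A B) = s₀.comp (algebraMap A B) := by
    intro g
    rw [RingHom.comp_assoc, gr_comp]
  have h1 : ∀ m, α 1 m = m := by
    intro m
    apply uc_injective (B := B)
    have h2 := hα 1 s₀ rfl (hh 1) x₀
    rw [hx₀] at h2
    have h3 := DFunLike.congr_fun h2 m
    rw [AddMonoidHom.comp_apply] at h3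
    rw [← h3, ← hx₀]
    have h6 : s₀.comp (gr A (1 : G)) = s₀ := by
      rw [gr_one, RingHom.comp_id]
    congr 1
    simp only [h6]
  have h2 : ∀ g h m, α (g * h) m = α g (α h m) := by
    intro g h m
    apply uc_injective (B := B)
    have h3 := DFunLike.congr_fun (hα (g * h) s₀ rfl (hh (g * h)) x₀) m
    have h4 := DFunLike.congr_fun (hα h (s₀.comp (gr A g)) (hh g)
      (by rw [RingHom.comp_assoc, gr_comp, hh]) x₀) m
    have h5 := DFunLike.congr_fun (hα g s₀ rfl (hh g) x₀) (α h m)
    rw [hx₀] at h3 h5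
    rw [AddMonoidHom.comp_apply] at h3 h4 h5
    rw [← h3, ← h5, ← h4]
    have h6 : s₀.comp (gr A (g * h)) = (s₀.comp (gr A g)).comp (gr A h) := by
      rw [gr_mul, RingHom.comp_assoc]
    congr 1
    simp only [h6]
  refine ⟨{ smul := fun g m => α g m
            one_smul := h1
            mul_smul := h2
            smul_zero := fun g => map_zero (α g)
            smul_add := fun g x y => map_add (α g) x y }, ?_⟩
  intro g R _ s φ h h' x m
  exact DFunLike.congr_fun (hα g s h h' x) m

lemma act_inr (R : Type u) [CommRing R] [Algebra A R] (g : G) :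
    (act A B R g : R ⊗[A] B →+* R ⊗[A] B).comp (inr A B R) = (inr A B R).comp (gr A g) := by
  ext b
  change act A B R g (1 ⊗ₜ b) = 1 ⊗ₜ (g • b)
  exact act_tmul g 1 b

lemma act_inl (R : Type u) [CommRing R] [Algebra A R] (g : G) :
    (act A B R g : R ⊗[A] B →+* R ⊗[A] B).comp (inl A B R) = inl A B R := by
  ext r
  change act A B R g (r ⊗ₜ 1) = r ⊗ₜ 1
  rw [act_tmul, smul_one]

lemma act_comp (R : Type u) [CommRing R] [Algebra A R] (g : G) :
    (act A B R g : R ⊗[A] B →+* R ⊗[A] B).comp (algebraMap A (R ⊗[A] B)) = algebraMap A (R ⊗[A] B) := by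
  rw [← inl_comp, ← RingHom.comp_assoc, act_inl]

include e in
/-- The dictionary for a group split by `B`. -/
theorem exists_dict_of_split [Fintype G] [Nontrivial B] (hG : IsGal A B G)
    (hB : ∀ x : B, x * x = x → x = 0 ∨ x = 1) [IsAffine T.left] :
    ∃ (_ : DistribMulAction G M), Nonempty (K965.Dict A B G T M) := by
  obtain ⟨hD, hact⟩ := exists_action (G := G) e hB
  refine ⟨hD, ⟨?_⟩⟩
  have := hG.ff
  have hinj : ∀ (R : Type u) [CommRing R] [Algebra A R], Function.Injective (inl A B R) :=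
    fun R _ _ => includeLeft_injective
  have hr : ∀ (R : Type u) [CommRing R] [Algebra A R] (g : G),
      ((inr A B R).comp (gr A g)).comp (algebraMap A B) = algebraMap A (R ⊗[A] B) := by
    intro R _ _ g
    rw [RingHom.comp_assoc, gr_comp, inr_comp]
  refine
    { ch := fun R _ _ x => dch e R x
      ch_mul := ?_
      ch_inj := ?_
      ch_smul := ?_
      ch_surj := ?_
      ch_nat := ?_ }
  · intro R _ _ x y
    rw [dch, MonObj.comp_mul, ch_mul]
    rfl
  · intro R _ _ x y hxy
    exact mp_injective _ (hinj R) _ x y (ch_injective _ e _ _ hxy)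
  · intro R _ _ x g m
    rw [dch, ← hact g (inr A B R) (inr_comp R) (hr R g)]
    have h1 := ch_mp (algebraMap A B) e (inr A B R) (inr_comp R) (act A B R g : R ⊗[A] B →+* R ⊗[A] B)
      (act_inr R g) (hr R g) (act_comp R g) (mp (inl A B R) (inl_comp R) ≫ x)
    have h2 : mp (act A B R g : R ⊗[A] B →+* R ⊗[A] B) (act_comp R g) ≫ mp (inl A B R) (inl_comp R) ≫ x =
        mp (inl A B R) (inl_comp R) ≫ x := by
      rw [← Category.assoc]
      congr 1
      ext1
      change Spec.map _ ≫ Spec.map _ = Spec.map _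
      rw [← Spec.map_comp]
      congr 1
      exact congrArg CommRingCat.ofHom (act_inl R g)
    rw [h2] at h1
    rw [h1]
    rfl
  · intro R _ _ χ hχ
    obtain ⟨y, hy⟩ := ch_surjective (algebraMap A B) e (inr A B R) (inr_comp R) χ
    obtain ⟨x, hx⟩ := exists_descend_over (inl A B R) (hinj R) (inl_comp R) T y
      (fun g : G => (act A B R g : R ⊗[A] B →+* R ⊗[A] B))
      (fun r hr => by
        obtain ⟨r', hr'⟩ := exists_of_act_eq hG r hr
        exact ⟨r', hr'.symm⟩) (act_comp R)
      (by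
        intro g
        apply ch_injective (algebraMap A B) e ((inr A B R).comp (gr A g)) (hr R g)
        ext1 m
        have h1 := ch_mp (algebraMap A B) e (inr A B R) (inr_comp R) (act A B R g : R ⊗[A] B →+* R ⊗[A] B)
          (act_inr R g) (hr R g) (act_comp R g) y
        rw [h1, hact g (inr A B R) (inr_comp R) (hr R g) y, hy]
        apply addUnits_ext
        exact (hχ g m).symm)
    exact ⟨x, by rw [dch, hx, hy]⟩
  · intro R R' _ _ _ _ ψ x m
    have h0 : ((Algebra.TensorProduct.map ψ (AlgHom.id A B) : R ⊗[A] B →ₐ[A] R' ⊗[A] B) :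
        R ⊗[A] B →+* R' ⊗[A] B).comp (inr A B R) = inr A B R' := by
      ext b
      change Algebra.TensorProduct.map ψ (AlgHom.id A B) (1 ⊗ₜ b) = 1 ⊗ₜ b
      simp
    have h1 := ch_mp (algebraMap A B) e (inr A B R) (inr_comp R)
      ((Algebra.TensorProduct.map ψ (AlgHom.id A B) : R ⊗[A] B →ₐ[A] R' ⊗[A] B) : R ⊗[A] B →+* R' ⊗[A] B)
      h0 (inr_comp R') (AlgHom.comp_algebraMap _) (mp (inl A B R) (inl_comp R) ≫ x)
    have h2 : mp ((Algebra.TensorProduct.map ψ (AlgHom.id A B) : R ⊗[A] B →ₐ[A] R' ⊗[A] B) :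
        R ⊗[A] B →+* R' ⊗[A] B) (AlgHom.comp_algebraMap _) ≫ mp (inl A B R) (inl_comp R) ≫ x =
        mp (inl A B R') (inl_comp R') ≫ mp (ψ : R →+* R') ψ.comp_algebraMap ≫ x := by
      rw [← Category.assoc, ← Category.assoc]
      congr 1
      ext1
      change Spec.map _ ≫ Spec.map _ = Spec.map _ ≫ Spec.map _
      rw [← Spec.map_comp, ← Spec.map_comp]
      congr 1
    rw [h2] at h1
    change (Pts.ch (algebraMap A B) e (inr A B R') (inr_comp R')
      (mp (inl A B R') (inl_comp R') ≫ mp (ψ : R →+* R') ψ.comp_algebraMap ≫ x) m).toMul = _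
    rw [h1]
    rfl

/-- An isotrivial torus is a torus. -/
theorem isTorus_of_isotrivial {S : Scheme.{u}} {T : Over S} [GrpObj T] {r : ℕ}
    (hT : TwC.Locally S .finiteEtale (fun _ g => Red.IsSplitTorusWith (Fin r → ℤ) (Red.bc g T))) :
    Red.IsTorus T := by
  obtain ⟨S', f, hf1, hf2, hf3, h⟩ := hT
  refine ⟨S', f, inferInstance, hf3, ?_, ?_⟩
  · intro V hV
    refine ⟨f ⁻¹ᵁ V, (hV.preimage f).isCompact, ?_⟩
    exact Set.image_preimage_eq _ f.surjective
  · intro s'
    obtain ⟨U, hU, -, hU'⟩ := h s'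
    exact ⟨U, hU, r, hU'⟩

end build

/-- The dictionary for an isotrivial torus over a connected ring. -/
theorem exists_dict {A : Type u} [CommRing A] [ConnectedSpace (Spec (CommRingCat.of A))]
    (T : Over (Spec (CommRingCat.of A))) [GrpObj T] {r : ℕ}
    (hT : TwC.Locally (Spec (CommRingCat.of A)) .finiteEtale
        (fun S' g => Red.IsSplitTorusWith (Fin r → ℤ) (Red.bc g T))) :
    ∃ (B : Type u) (_ : CommRing B) (_ : Algebra A B) (G : Type) (_ : Group G) (_ : Fintype G)
      (_ : MulSemiringAction G B) (_ : SMulCommClass G A B) (_ : DistribMulAction G (Fin r → ℤ)),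
      IsGal A B G ∧ ConnectedSpace (Spec (CommRingCat.of B)) ∧ Nonempty (K965.Dict A B G T (Fin r → ℤ)) := by
  have haff : IsAffineHom T.hom := Groth.Agent.Sga3B.TorusAlgClosed.isAffineHom_of_isTorus (isTorus_of_isotrivial hT)
  have haff' : IsAffine T.left := isAffine_of_isAffineHom T.hom
  obtain ⟨S', f, hf1, hf2, hf3, h⟩ := hT
  obtain ⟨s⟩ := (inferInstance : Nonempty (Spec (CommRingCat.of A)))
  obtain ⟨s', -⟩ := f.surjective s
  obtain ⟨U, hU, hcl, hs⟩ := h s'
  have hfin : IsFinite U.ι := by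
    have : IsClosedImmersion U.ι := IsClosedImmersion.of_isPreimmersion _ (by simpa using hcl)
    infer_instance
  obtain ⟨B, _, _, G, _, _, _, _, p, hp, hG, hconn⟩ := exists_isGal (U : Scheme.{u}) (U.ι ≫ f) ⟨s', hU⟩
  obtain ⟨x₀⟩ := (inferInstance : Nonempty (Spec (CommRingCat.of B)))
  have hnt : Nontrivial B := PrimeSpectrum.nontrivial (show PrimeSpectrum B from x₀)
  obtain ⟨e⟩ := Groth.Agent.Sga3B.TorusAlgClosed.isSplitTorusWith_bc p hs
  have e' := Groth.Agent.Sga3B.BcIso.bcCongrIso hp.symm T ≪≫ Groth.Agent.Sga3B.BcIso.bcCompIso p (U.ι ≫ f) T ≪≫ e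
  obtain ⟨hD, hd⟩ := exists_dict_of_split (G := G) e' hG (fun x hx => idem_trivial x hx)
  exact ⟨B, inferInstance, inferInstance, G, inferInstance, inferInstance, inferInstance, inferInstance, hD, hG,
    hconn, hd⟩

end K965.Dic
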