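import Groth.Agent.MultTori.K965.Dict
import Mathlib.RingTheory.Unramified.Field
import Mathlib.RingTheory.Artinian.Ring

/-!
# Splitting of isotrivial tori by Galois covers
-/

set_option autoImplicit false
universe u
open CategoryTheory MonoidalCategory CartesianMonoidalCategory MonObj GrpObj AlgebraicGeometry
open TensorProduct

namespace K965.Dic

open K965.Pts K965.Alpha K965.Gal

/-- An isotrivial torus over a connected ring is split by a connected Galois cover. -/
theorem exists_split {A : Type u} [CommRing A] [ConnectedSpace (Spec (CommRingCat.of A))]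
    (T : Over (Spec (CommRingCat.of A))) [GrpObj T] {r : ℕ}
    (hT : TwC.Locally (Spec (CommRingCat.of A)) .finiteEtale
        (fun _ g => Red.IsSplitTorusWith (Fin r → ℤ) (Red.bc g T))) :
    ∃ (B : Type u) (_ : CommRing B) (_ : Algebra A B) (G : Type) (_ : Group G) (_ : Fintype G)
      (_ : MulSemiringAction G B) (_ : SMulCommClass G A B),
      IsGal A B G ∧ ConnectedSpace (Spec (CommRingCat.of B)) ∧
      Nonempty (Grp.mk (Red.bc (Spec.map (CommRingCat.ofHom (algebraMap A B))) T) ≅
        Grp.mk (Red.DS (Spec (CommRingCat.of B)) (Fin r → ℤ))) := by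
  obtain ⟨S', f, hf1, hf2, hf3, h⟩ := hT
  obtain ⟨s⟩ := (inferInstance : Nonempty (Spec (CommRingCat.of A)))
  obtain ⟨s', -⟩ := f.surjective s
  obtain ⟨U, hU, hcl, hs⟩ := h s'
  have hfin : IsFinite U.ι := by
    have : IsClosedImmersion U.ι := IsClosedImmersion.of_isPreimmersion _ (by simpa using hcl)
    infer_instance
  obtain ⟨B, _, _, G, _, _, _, _, p, hp, hG, hconn⟩ := exists_isGal (U : Scheme.{u}) (U.ι ≫ f) ⟨s', hU⟩
  obtain ⟨e⟩ := Groth.Agent.Sga3B.TorusAlgClosed.isSplitTorusWith_bc p hs
  exact ⟨B, inferInstance, inferInstance, G, inferInstance, inferInstance, inferInstance, inferInstance, hG,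
    hconn, ⟨Groth.Agent.Sga3B.BcIso.bcCongrIso hp.symm T ≪≫ Groth.Agent.Sga3B.BcIso.bcCompIso p (U.ι ≫ f) T ≪≫ e⟩⟩

/-- A connected reduced Artinian ring is a field. -/
theorem isField_of_idem {B : Type u} [CommRing B] [Nontrivial B] [IsArtinianRing B] [IsReduced B]
    (hB : ∀ x : B, x * x = x → x = 0 ∨ x = 1) : IsField B := by
  classical
  let ε : B ≃+* ∀ I : MaximalSpectrum B, B ⧸ I.asIdeal := IsArtinianRing.equivPi B
  obtain ⟨m, hm⟩ := Ideal.exists_maximal B
  let i₀ : MaximalSpectrum B := ⟨m, hm⟩
  have huniq : ∀ i, i = i₀ := by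
    intro i
    by_contra hi
    have h1 := hB (ε.symm (Pi.single i₀ 1)) (by
      rw [← map_mul]
      congr 1
      ext j
      by_cases hj : j = i₀
      · subst hj; simp
      · simp [Pi.single_eq_of_ne hj])
    rcases h1 with h1 | h1
    · rw [map_eq_zero_iff _ ε.symm.injective] at h1
      have h2 := congrFun h1 i₀
      rw [Pi.single_eq_same] at h2
      exact one_ne_zero h2
    · rw [← map_one ε.symm] at h1
      have h2 := congrFun (ε.symm.injective h1) i
      rw [Pi.single_eq_of_ne hi] at h2
      exact zero_ne_one h2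
  have hm0 : m = ⊥ := by
    rw [eq_bot_iff]
    intro x hx
    have h1 : ε x = 0 := by
      ext j
      have hj := huniq j
      subst hj
      exact Ideal.Quotient.eq_zero_iff_mem.2 hx
    exact (map_eq_zero_iff _ ε.injective).1 h1
  exact Ring.isField_iff_maximal_bot.2 (hm0 ▸ hm)

/-- A connected finite étale algebra over a field is a field. -/
theorem isField_of_connected {k B : Type u} [Field k] [CommRing B] [Algebra k B] [Module.Finite k B]
    [Algebra.Etale k B] [ConnectedSpace (Spec (CommRingCat.of B))] : IsField B := by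
  have h1 : IsReduced B := Algebra.FormallyUnramified.isReduced_of_field k B
  have h2 : IsArtinianRing B := IsArtinianRing.of_finite k B
  obtain ⟨x₀⟩ := (inferInstance : Nonempty (Spec (CommRingCat.of B)))
  have hnt : Nontrivial B := PrimeSpectrum.nontrivial (show PrimeSpectrum B from x₀)
  exact isField_of_idem (fun x hx => idem_trivial x hx)

end K965.Dic
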