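import Groth.Agent.MultTori.K965.Alpha
import Mathlib.Algebra.Group.UniqueProds.Basic
import Mathlib.Algebra.MonoidAlgebra.NoZeroDivisors
import Mathlib.RingTheory.Flat.FaithfullyFlat.Basic
import Mathlib.RingTheory.Flat.FaithfullyFlat.Algebra

/-!
# The coordinate ring of a torus over a field is a domain
-/

set_option autoImplicit false
universe u
open CategoryTheory MonoidalCategory CartesianMonoidalCategory MonObj GrpObj AlgebraicGeometry Limits
open TensorProduct

namespace K965.TorDom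

open K965.Pts K965.Alpha

instance (r : ℕ) (B : Type u) [CommRing B] [IsDomain B] : IsDomain (MonoidAlgebra B (Multiplicative (Fin r → ℤ))) := by
  have : UniqueProds (Multiplicative (Fin r → ℤ)) := inferInstance
  have : NoZeroDivisors (MonoidAlgebra B (Multiplicative (Fin r → ℤ))) := inferInstance
  have : Nontrivial (MonoidAlgebra B (Multiplicative (Fin r → ℤ))) := inferInstance
  exact NoZeroDivisors.to_isDomain _

section

variable {A B : Type u} [CommRing A] [CommRing B] [Algebra A B] [Module.FaithfullyFlat A B]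
  {T : Over (Spec (CommRingCat.of A))} [GrpObj T] [IsAffine T.left] {M : Type}
  [AddCommGroup M]
  (e : Grp.mk (Red.bc (Spec.map (CommRingCat.ofHom (algebraMap A B))) T) ≅
    Grp.mk (Red.DS (Spec (CommRingCat.of B)) M))

/-- The structure map of the coordinate ring. -/
noncomputable def strMap (T : Over (Spec (CommRingCat.of A))) [IsAffine T.left] : A →+* Γ(T.left, ⊤) :=
  (Spec.preimage (T.left.isoSpec.inv ≫ T.hom)).hom

lemma spec_strMap (T : Over (Spec (CommRingCat.of A))) [IsAffine T.left] :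
    Spec.map (CommRingCat.ofHom (strMap T)) = T.left.isoSpec.inv ≫ T.hom := Spec.map_preimage _

/-- The universal point. -/
noncomputable def upt (T : Over (Spec (CommRingCat.of A))) [IsAffine T.left] : sp (strMap T) ⟶ T :=
  Over.homMk T.left.isoSpec.inv (spec_strMap T).symm

/-- Points of an affine scheme over `Spec A` are ring maps. -/
lemma exists_mp_upt {R : Type u} [CommRing R] {φ : A →+* R} (T : Over (Spec (CommRingCat.of A))) [IsAffine T.left]
    (x : sp φ ⟶ T) : ∃ (ψ : Γ(T.left, ⊤) →+* R) (h : ψ.comp (strMap T) = φ), x = mp ψ h ≫ upt T := by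
  obtain ⟨ψ, h, hψ⟩ := exists_mp (x ≫ (Over.isoMk T.left.isoSpec
    (by
      change T.left.isoSpec.hom ≫ Spec.map (CommRingCat.ofHom (strMap T)) = T.hom
      rw [spec_strMap, Iso.hom_inv_id_assoc]) : T ≅ sp (strMap T)).hom)
  refine ⟨ψ, h, ?_⟩
  rw [← hψ]
  ext1
  simp [upt]

lemma mp_upt_injective {R : Type u} [CommRing R] {φ : A →+* R} (T : Over (Spec (CommRingCat.of A))) [IsAffine T.left]
    (ψ ψ' : Γ(T.left, ⊤) →+* R) (h : ψ.comp (strMap T) = φ) (h' : ψ'.comp (strMap T) = φ)
    (hh : mp ψ h ≫ upt T = mp ψ' h' ≫ upt T) : ψ = ψ' := by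
  have h1 := congrArg (fun z => z.left) hh
  simp only [Over.comp_left, mp_left, upt, Over.homMk_left] at h1
  have h2 := (cancel_mono _).1 h1
  exact congrArg CommRingCat.Hom.hom (Spec.map_injective h2)

include e in
/-- The coordinate ring of a split group embeds in the group algebra over the splitting cover. -/
theorem exists_injective : ∃ θ : Γ(T.left, ⊤) →+* MonoidAlgebra B (Multiplicative M), Function.Injective θ := by
  let _ : Algebra A Γ(T.left, ⊤) := (strMap T).toAlgebra
  let R₂ := MonoidAlgebra B (Multiplicative M)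
  let s₂ : B →+* R₂ := MonoidAlgebra.singleOneRingHom
  obtain ⟨x₂, hx₂⟩ := ch_surjective (algebraMap A B) e s₂ rfl (uc B M)
  obtain ⟨θ, hθ, hθ'⟩ := exists_mp_upt T x₂
  refine ⟨θ, ?_⟩
  let R₁ := B ⊗[A] Γ(T.left, ⊤)
  let s₁ : B →+* R₁ := (Algebra.TensorProduct.includeLeft : B →ₐ[A] R₁)
  let i₁ : Γ(T.left, ⊤) →+* R₁ := (Algebra.TensorProduct.includeRight : Γ(T.left, ⊤) →ₐ[A] R₁)
  have hs₁ : s₁.comp (algebraMap A B) = algebraMap A R₁ := AlgHom.comp_algebraMap _
  have hi₁ : i₁.comp (strMap T) = algebraMap A R₁ :=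
    AlgHom.comp_algebraMap (Algebra.TensorProduct.includeRight : Γ(T.left, ⊤) →ₐ[A] R₁)
  let x₁ : sp (algebraMap A R₁) ⟶ T := mp i₁ hi₁ ≫ upt T
  let χ₁ := ch (algebraMap A B) e s₁ hs₁ x₁
  have hev : (ev s₁ χ₁).comp s₂ = s₁ := ev_comp s₁ χ₁
  have hev' : (ev s₁ χ₁).comp (s₂.comp (algebraMap A B)) = algebraMap A R₁ := by
    rw [← RingHom.comp_assoc, hev, hs₁]
  have h1 : mp (ev s₁ χ₁) hev' ≫ x₂ = x₁ := by
    apply ch_injective (algebraMap A B) e s₁ hs₁
    rw [ch_mp (algebraMap A B) e s₂ rfl (ev s₁ χ₁) hev hs₁ hev' x₂, hx₂, um_ev_uc]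
  have h2 : (ev s₁ χ₁).comp θ = i₁ := by
    apply mp_upt_injective T (φ := algebraMap A R₁) _ _ (by rw [RingHom.comp_assoc, hθ, hev']) hi₁
    refine Eq.trans ?_ h1
    rw [hθ', ← Category.assoc, mp_comp]
  have h3 : Function.Injective i₁ := by
    intro x y hxy
    exact Module.FaithfullyFlat.tensorProduct_mk_injective (A := A) (B := B) Γ(T.left, ⊤) hxy
  intro x y hxy
  apply h3
  rw [← h2, RingHom.comp_apply, RingHom.comp_apply, hxy]

end

end K965.TorDom
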