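import Groth.Agent.MultTori.K965.LatTor
import Groth.Agent.MultTori.K965.TorDom
import Groth.Agent.MultTori.K965.SplitGal
import Mathlib.RingTheory.RingHom.FaithfullyFlat

/-!
# From the dictionary to a universal equivariant character; isotriviality
-/

set_option autoImplicit false
universe u
open CategoryTheory MonoidalCategory CartesianMonoidalCategory MonObj GrpObj AlgebraicGeometry Opposite
open scoped TensorProduct

namespace K965.DictRep

open K965.Pts K965.Alpha K965.Gal K965.Dict K965.EqRep K965.TorDom K965.LatTor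
open K964.UC (mB mB_comp)

/-- The coordinate ring of a group with dictionary carries a universal equivariant character. -/
theorem rep_of_dict {A B : Type u} [CommRing A] [CommRing B] [Algebra A B] {G : Type} [Group G]
    [MulSemiringAction G B] [SMulCommClass G A B] {T : Over (Spec (CommRingCat.of A))} [GrpObj T] {M : Type}
    [AddCommGroup M] [DistribMulAction G M] [IsAffine T.left] (D : K965.Dict A B G T M) :
    letI : Algebra A Γ(T.left, ⊤) := (strMap T).toAlgebra
    Rep G Γ(T.left, ⊤) (D.ch Γ(T.left, ⊤) (upt T)) := by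
  let _ : Algebra A Γ(T.left, ⊤) := (strMap T).toAlgebra
  have hpush : ∀ {R : Type u} [CommRing R] [Algebra A R] (f : Γ(T.left, ⊤) →ₐ[A] R),
      push f (D.ch Γ(T.left, ⊤) (upt T)) = D.ch R (mp (f : Γ(T.left, ⊤) →+* R) f.comp_algebraMap ≫ upt T) :=
    fun f => (D.nat f (upt T)).symm
  refine ⟨D.eqv _ _, ?_, ?_⟩
  · intro R _ _ f f' h
    rw [hpush, hpush] at h
    have h1 := mp_upt_injective T (f : Γ(T.left, ⊤) →+* R) (f' : Γ(T.left, ⊤) →+* R) f.comp_algebraMap
      f'.comp_algebraMap (D.ch_inj R h)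
    exact AlgHom.ext fun a => congrArg (fun z : Γ(T.left, ⊤) →+* R => z a) h1
  · intro R _ _ χ hχ
    obtain ⟨x, hx⟩ := D.exists_pt χ hχ
    obtain ⟨ψ, hψ, hψ'⟩ := exists_mp_upt T x
    refine ⟨{ ψ with commutes' := fun a => congrArg (fun z : A →+* R => z a) hψ }, ?_⟩
    rw [hpush, ← hx, hψ']
    rfl

/-- A torus split by a Galois extension is isotrivial. -/
theorem locally_of_split {A B : Type u} [CommRing A] [CommRing B] [Algebra A B] {G : Type} [Group G] [Fintype G]
    [MulSemiringAction G B] [SMulCommClass G A B] (hG : IsGal A B G) (T : Over (Spec (CommRingCat.of A))) [GrpObj T]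
    {r : ℕ} (h : Nonempty (Grp.mk (Red.bc (bm A B) T) ≅ Grp.mk (Red.DS (Spec (CommRingCat.of B)) (Fin r → ℤ)))) :
    TwC.Locally (Spec (CommRingCat.of A)) .finiteEtale
        (fun _ g => Red.IsSplitTorusWith (Fin r → ℤ) (Red.bc g T)) := by
  have := hG.ff
  have := hG.fin
  have := hG.et
  refine ⟨Spec (CommRingCat.of B), bm A B, ?_, ?_, ?_, fun s' => ⟨⊤, trivial, isClosed_univ, ?_⟩⟩
  · rw [IsFinite.SpecMap_iff]
    exact RingHom.finite_algebraMap.2 inferInstance
  · rw [HasRingHomProperty.Spec_iff (P := @Etale)]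
    exact RingHom.etale_algebraMap.2 inferInstance
  · refine ⟨?_⟩
    exact PrimeSpectrum.comap_surjective_of_faithfullyFlat
  · obtain ⟨e⟩ := Groth.Agent.Sga3B.TorusAlgClosed.isSplitTorusWith_bc
      (Scheme.Opens.ι (⊤ : (Spec (CommRingCat.of B)).Opens)) (M := Fin r → ℤ) (T := Red.bc (bm A B) T) h
    exact ⟨Groth.Agent.Sga3B.BcIso.bcCompIso (Scheme.Opens.ι (⊤ : (Spec (CommRingCat.of B)).Opens)) (bm A B) T ≪≫ e⟩

/-- An isotrivial torus over a field is split by a finite Galois extension. -/
theorem exists_split_field {k : Type u} [Field k] (T : Over (Spec (CommRingCat.of k))) [GrpObj T] {r : ℕ}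
    (hT : TwC.Locally (Spec (CommRingCat.of k)) .finiteEtale
        (fun _ g => Red.IsSplitTorusWith (Fin r → ℤ) (Red.bc g T))) :
    ∃ (B : Type u) (_ : Field B) (_ : Algebra k B) (G : Type) (_ : Group G) (_ : Fintype G)
      (_ : MulSemiringAction G B) (_ : SMulCommClass G k B),
      IsGal k B G ∧
      Nonempty (Grp.mk (Red.bc (Spec.map (CommRingCat.ofHom (algebraMap k B))) T) ≅
        Grp.mk (Red.DS (Spec (CommRingCat.of B)) (Fin r → ℤ))) := by
  obtain ⟨B, iB, iA, G, iG, iF, iM, iS, hG, hconn, he⟩ := K965.Dic.exists_split T hT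
  have := hG.fin
  have := hG.et
  exact ⟨B, (K965.Dic.isField_of_connected (k := k) (B := B)).toField, iA, G, iG, iF, iM, iS, hG, he⟩

end K965.DictRep
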