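import Groth.Agent.MultTori.K965.Dict

/-!
# The dictionary, in terms of homomorphisms of unit groups
-/

set_option autoImplicit false
universe u
open CategoryTheory MonoidalCategory CartesianMonoidalCategory MonObj GrpObj AlgebraicGeometry
open TensorProduct

namespace K965.Dict

open K965.Pts K965.Gal

variable {A B : Type u} [CommRing A] [CommRing B] [Algebra A B] {G : Type} [Group G] [MulSemiringAction G B]
  [SMulCommClass G A B] {T : Over (Spec (CommRingCat.of A))} [GrpObj T] {M : Type} [AddCommGroup M]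
  [DistribMulAction G M] (D : K965.Dict A B G T M)

/-- `G`-equivariance of a character -/
def Eqv (G : Type) [Group G] [MulSemiringAction G B] [SMulCommClass G A B] {M : Type} [AddCommGroup M]
    [DistribMulAction G M] {R : Type u} [CommRing R] [Algebra A R]
    (χ : M →+ Additive (R ⊗[A] B)ˣ) : Prop :=
  ∀ (g : G) (m : M), χ (g • m) = um (act A B R g : R ⊗[A] B →+* R ⊗[A] B) (χ m)

lemma eqv (R : Type u) [CommRing R] [Algebra A R] (x : sp (algebraMap A R) ⟶ T) : Eqv G (D.ch R x) :=
  fun g m => addUnits_ext (D.ch_smul R x g m)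

lemma exists_pt {R : Type u} [CommRing R] [Algebra A R] (χ : M →+ Additive (R ⊗[A] B)ˣ) (h : Eqv G χ) :
    ∃ x, D.ch R x = χ := by
  refine D.ch_surj R χ fun g m => ?_
  rw [h g m]
  rfl

lemma nat {R R' : Type u} [CommRing R] [Algebra A R] [CommRing R'] [Algebra A R'] (ψ : R →ₐ[A] R')
    (x : sp (algebraMap A R) ⟶ T) :
    D.ch R' (mp (ψ : R →+* R') ψ.comp_algebraMap ≫ x) =
      (um (Algebra.TensorProduct.map ψ (AlgHom.id A B) : R ⊗[A] B →+* R' ⊗[A] B)).comp (D.ch R x) :=
  DFunLike.ext _ _ fun m => D.ch_nat R R' ψ x m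

end K965.Dict
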