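import Groth.Agent.MultTori.K965.Decomp
import Mathlib.RingTheory.DedekindDomain.AdicValuation

/-!
# Decomposition of equivariant characters over a discrete valuation ring
-/

set_option autoImplicit false
universe u
open TensorProduct

namespace K965.DvrChar

open K965.Gal K965.Unif K965.Pts K965.Decomp

set_option linter.unusedSectionVars false

variable {A B : Type u} [CommRing A] [CommRing B] [Algebra A B] [IsDomain A] [IsDiscreteValuationRing A] {π : A}
  (hπ : IsLocalRing.maximalIdeal A = Ideal.span {π})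
  [Module.Finite A B] [Algebra.Etale A B]
  {G : Type} [Group G] [Fintype G] [MulSemiringAction G B] [SMulCommClass G A B]
  {Ah Kh K : Type u} [CommRing Ah] [IsLocalRing Ah] [Algebra A Ah] [Module.FaithfullyFlat A Ah] [CommRing Kh] [Algebra A Kh]
  [CommRing K] [Algebra A K]
  (i : Ah →ₐ[A] Kh) (j : K →ₐ[A] Kh) (hi : Function.Injective i) (hπh : algebraMap A Ah π ∈ IsLocalRing.maximalIdeal Ah)
  (hdense : ∀ (x : Ah) (n : ℕ), ∃ (a : A) (y : Ah), x = algebraMap A Ah a + algebraMap A Ah π ^ n * y)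
  (hden : ∀ x : Kh, ∃ (n : ℕ) (y : Ah), algebraMap A Kh π ^ n * x = i y)
  (hK : IsUnit (algebraMap A K π))
  {M : Type} [AddCommGroup M] [DistribMulAction G M]

include hπ hi hπh hdense hden hK in
theorem exists_char_decomp (χ : M →+ Additive (Kh ⊗[A] B)ˣ)
    (hχ : ∀ (g : G) (m : M), χ (g • m) = um (act A B Kh g : Kh ⊗[A] B →+* Kh ⊗[A] B) (χ m)) :
    ∃ (χa : M →+ Additive (Ah ⊗[A] B)ˣ) (χb : M →+ Additive (K ⊗[A] B)ˣ),
      (∀ (g : G) (m : M), χa (g • m) = um (act A B Ah g : Ah ⊗[A] B →+* Ah ⊗[A] B) (χa m)) ∧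
      (∀ (g : G) (m : M), χb (g • m) = um (act A B K g : K ⊗[A] B →+* K ⊗[A] B) (χb m)) ∧
      ∀ m, χ m = um (bm B i : Ah ⊗[A] B →+* Kh ⊗[A] B) (χa m) + um (bm B j : K ⊗[A] B →+* Kh ⊗[A] B) (χb m) := by
  classical
  have hfin : Finite (MaximalSpectrum B) := finite_maximalSpectrum (A := A)
  cases nonempty_fintype (MaximalSpectrum B)
  obtain ⟨ϖ, hϖ, hϖG⟩ := exists_unif (B := B) (G := G) π hπ
  have hπ' : π ∈ IsLocalRing.maximalIdeal A := hπ ▸ Ideal.mem_span_singleton_self π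
  have hdiv : ∀ q, ∃ n, ϖ q ∣ algebraMap A B π ^ n := by
    intro q
    refine ⟨1, ?_⟩
    rw [pow_one, ← Ideal.mem_span_singleton, ← hϖ q]
    exact mem_of_local π hπ' q
  obtain ⟨wK, hwK⟩ := exists_wu ϖ hdiv K hK
  have hKh : IsUnit (algebraMap A Kh π) := by
    rw [← j.comp_algebraMap]
    exact hK.map j
  obtain ⟨w, hw⟩ := exists_wu ϖ hdiv Kh hKh
  have hj : ∀ D, um (bm B j : K ⊗[A] B →+* Kh ⊗[A] B) (sh wK D) = sh w D := by
    intro D
    rw [sh_apply, sh_apply, map_sum]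
    refine Finset.sum_congr rfl fun q _ => ?_
    rw [map_zsmul]
    congr 1
    apply addUnits_ext
    rw [val_um, hwK, hw]
    change bm B j (1 ⊗ₜ ϖ q) = 1 ⊗ₜ ϖ q
    rw [Algebra.TensorProduct.map_tmul, map_one]
    rfl
  have hact : ∀ {R : Type u} [CommRing R] [Algebra A R] (w : MaximalSpectrum B → Additive (R ⊗[A] B)ˣ)
      (_ : ∀ q, (((w q).toMul : (R ⊗[A] B)ˣ) : R ⊗[A] B) = 1 ⊗ₜ ϖ q) (g : G) (D : MaximalSpectrum B → ℤ),
      um (act A B R g : R ⊗[A] B →+* R ⊗[A] B) (sh w D) = sh w (fun q => D (mact g⁻¹ q)) := by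
    intro R _ _ w hw g D
    rw [sh_apply, sh_apply, map_sum]
    refine Fintype.sum_equiv (mequiv g) _ _ (fun q => ?_)
    rw [map_zsmul]
    have h1 : mact g⁻¹ (mequiv g q) = q := (mequiv g).left_inv q
    rw [h1]
    congr 1
    apply addUnits_ext
    rw [val_um, hw, hw]
    change act A B R g (1 ⊗ₜ ϖ q) = _
    rw [act_tmul, hϖG]
    rfl
  have huniq : ∀ (v v' : Additive (Ah ⊗[A] B)ˣ) (D D' : MaximalSpectrum B → ℤ),
      um (bm B i : Ah ⊗[A] B →+* Kh ⊗[A] B) v + sh w D = um (bm B i : Ah ⊗[A] B →+* Kh ⊗[A] B) v' + sh w D' →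
      v = v' ∧ D = D' := by
    intro v v' D D' h
    have h1 : sh w (D - D') = um (bm B i : Ah ⊗[A] B →+* Kh ⊗[A] B) (v' - v) := by
      rw [map_sub, map_sub, sub_eq_sub_iff_add_eq_add, add_comm]
      rw [h, add_comm]
    have h2 := eq_zero_of_sh hπ ϖ hϖ i hi w hw _ _ h1
    rw [sub_eq_zero] at h2
    subst h2
    refine ⟨?_, rfl⟩
    have h3 := add_right_cancel h
    apply addUnits_ext
    exact bm_injective i hi (congrArg (fun z : Additive (Kh ⊗[A] B)ˣ => ((z.toMul : (Kh ⊗[A] B)ˣ) : Kh ⊗[A] B)) h3)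
  choose V D hVD using fun m => exists_decomp hπ ϖ hϖ i hi hπh hdense hden w hw (χ m)
  have hadd : ∀ m m', V (m + m') = V m + V m' ∧ D (m + m') = D m + D m' := by
    intro m m'
    apply huniq
    rw [← hVD, map_add, hVD m, hVD m', map_add, map_add]
    abel
  have hG : ∀ (g : G) m, V (g • m) = um (act A B Ah g : Ah ⊗[A] B →+* Ah ⊗[A] B) (V m) ∧
      D (g • m) = fun q => D m (mact g⁻¹ q) := by
    intro g m
    apply huniq
    rw [← hVD, hχ, hVD m, map_add, hact w hw]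
    congr 1
    apply addUnits_ext
    exact (map_act i g _).symm
  let V' : M →+ Additive (Ah ⊗[A] B)ˣ := AddMonoidHom.mk' V (fun m m' => (hadd m m').1)
  let D' : M →+ (MaximalSpectrum B → ℤ) := AddMonoidHom.mk' D (fun m m' => (hadd m m').2)
  refine ⟨V', (sh wK).comp D', fun g m => (hG g m).1, fun g m => ?_, fun m => ?_⟩
  · change sh wK (D (g • m)) = um _ (sh wK (D m))
    rw [(hG g m).2, hact wK hwK]
  · change χ m = um _ (V m) + um _ (sh wK (D m))
    rw [hj]
    exact hVD m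

end K965.DvrChar
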