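import Groth.Agent.MultTori.K964.GalRep
import Groth.Agent.MultTori.K965.DictUm

/-!
# Representability of equivariant characters

* `cs A B G N R`: the group of `G`-equivariant homomorphisms `N → (R ⊗[A] B)ˣ`; `push f`: functoriality in `R`.
* `Rep`: an `A`-algebra `H` with a universal equivariant character.
* `exists_rep`: it exists for every `N` with action of `G`.
* `crEquiv`: for an `A`-algebra map `s : B → R`, equivariant characters are the same as homomorphisms `N → Rˣ`.
-/

set_option autoImplicit false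
universe u
open TensorProduct

namespace K965.EqRep

open K965.Pts K965.Alpha K965.Gal K965.Dict K964.GalRep
open K964.UC (mB mB_comp)

section push

variable {A B : Type u} [CommRing A] [CommRing B] [Algebra A B] {N : Type} [AddCommGroup N]
  {R R' R'' : Type u} [CommRing R] [Algebra A R] [CommRing R'] [Algebra A R'] [CommRing R''] [Algebra A R'']

/-- functoriality of characters -/
noncomputable def push (f : R →ₐ[A] R') (χ : N →+ Additive (R ⊗[A] B)ˣ) : N →+ Additive (R' ⊗[A] B)ˣ :=
  (um (mB B f : R ⊗[A] B →+* R' ⊗[A] B)).comp χ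

lemma push_apply (f : R →ₐ[A] R') (χ : N →+ Additive (R ⊗[A] B)ˣ) (n : N) :
    push f χ n = um (mB B f : R ⊗[A] B →+* R' ⊗[A] B) (χ n) := rfl

lemma val_push (f : R →ₐ[A] R') (χ : N →+ Additive (R ⊗[A] B)ˣ) (n : N) :
    ((push f χ n).toMul : R' ⊗[A] B) = mB B f ((χ n).toMul : R ⊗[A] B) := rfl

lemma push_add (f : R →ₐ[A] R') (χ χ' : N →+ Additive (R ⊗[A] B)ˣ) : push f (χ + χ') = push f χ + push f χ' := by
  ext1 n
  exact map_add (um (mB B f : R ⊗[A] B →+* R' ⊗[A] B)) (χ n) (χ' n)

lemma push_zero (f : R →ₐ[A] R') : push f (0 : N →+ Additive (R ⊗[A] B)ˣ) = 0 := by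
  ext1 n
  exact map_zero (um (mB B f : R ⊗[A] B →+* R' ⊗[A] B))

lemma push_neg (f : R →ₐ[A] R') (χ : N →+ Additive (R ⊗[A] B)ˣ) : push f (-χ) = - push f χ := by
  ext1 n
  exact map_neg (um (mB B f : R ⊗[A] B →+* R' ⊗[A] B)) (χ n)

lemma push_sub (f : R →ₐ[A] R') (χ χ' : N →+ Additive (R ⊗[A] B)ˣ) : push f (χ - χ') = push f χ - push f χ' := by
  ext1 n
  exact map_sub (um (mB B f : R ⊗[A] B →+* R' ⊗[A] B)) (χ n) (χ' n)

lemma push_push (f : R →ₐ[A] R') (f' : R' →ₐ[A] R'') (χ : N →+ Additive (R ⊗[A] B)ˣ) :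
    push f' (push f χ) = push (f'.comp f) χ := by
  ext1 n
  apply addUnits_ext
  rw [val_push, val_push, val_push]
  exact mB_comp B f f' _

lemma push_id (χ : N →+ Additive (R ⊗[A] B)ˣ) : push (AlgHom.id A R) χ = χ := by
  ext1 n
  apply addUnits_ext
  rw [val_push]
  have : mB B (AlgHom.id A R) = AlgHom.id A (R ⊗[A] B) := by ext <;> simp
  rw [this]
  rfl

lemma push_comp {N' : Type} [AddCommGroup N'] (f : R →ₐ[A] R') (χ : N →+ Additive (R ⊗[A] B)ˣ) (j : N' →+ N) :
    push f (χ.comp j) = (push f χ).comp j := rfl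

end push

variable (A B : Type u) [CommRing A] [CommRing B] [Algebra A B] (G : Type) [Group G]
  [MulSemiringAction G B] [SMulCommClass G A B] (N : Type) [AddCommGroup N] [DistribMulAction G N]

/-- the equivariant characters -/
noncomputable def cs (R : Type u) [CommRing R] [Algebra A R] : AddSubgroup (N →+ Additive (R ⊗[A] B)ˣ) where
  carrier := {χ | Eqv G χ}
  zero_mem' := fun g n => by
    change 0 = um _ 0
    rw [map_zero]
  add_mem' := fun {χ χ'} h h' g n => by
    change χ (g • n) + χ' (g • n) = um _ (χ n + χ' n)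
    rw [h g n, h' g n, map_add]
  neg_mem' := fun {χ} h g n => by
    change - χ (g • n) = um _ (- χ n)
    rw [h g n, map_neg]

variable {A B G N}

lemma mem_cs {R : Type u} [CommRing R] [Algebra A R] {χ : N →+ Additive (R ⊗[A] B)ˣ} :
    χ ∈ cs A B G N R ↔ Eqv G χ := Iff.rfl

variable {R R' : Type u} [CommRing R] [Algebra A R] [CommRing R'] [Algebra A R']

lemma eqv_push (f : R →ₐ[A] R') {χ : N →+ Additive (R ⊗[A] B)ˣ} (h : Eqv G χ) : Eqv G (push f χ) := by
  intro g n
  rw [push_apply, push_apply, h g n]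
  apply addUnits_ext
  exact map_act f g _

lemma eqv_comp {N' : Type} [AddCommGroup N'] [DistribMulAction G N'] {χ : N →+ Additive (R ⊗[A] B)ˣ} (h : Eqv G χ)
    (j : N' →+ N) (hj : ∀ (g : G) n, j (g • n) = g • j n) : Eqv G (χ.comp j) := by
  intro g n
  rw [AddMonoidHom.comp_apply, AddMonoidHom.comp_apply, hj, h g]

lemma eqv_add {χ χ' : N →+ Additive (R ⊗[A] B)ˣ} (h : Eqv G χ) (h' : Eqv G χ') : Eqv G (χ + χ') :=
  (cs A B G N R).add_mem h h'

lemma eqv_neg {χ : N →+ Additive (R ⊗[A] B)ˣ} (h : Eqv G χ) : Eqv G (-χ) :=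
  (cs A B G N R).neg_mem h

lemma eqv_sub {χ χ' : N →+ Additive (R ⊗[A] B)ˣ} (h : Eqv G χ) (h' : Eqv G χ') : Eqv G (χ - χ') :=
  (cs A B G N R).sub_mem h h'

/-- functoriality -/
noncomputable def csMap (f : R →ₐ[A] R') : cs A B G N R →+ cs A B G N R' where
  toFun χ := ⟨push f χ.1, eqv_push f χ.2⟩
  map_zero' := Subtype.ext (push_zero f)
  map_add' χ χ' := Subtype.ext (push_add f χ.1 χ'.1)

/-- a universal equivariant character -/
structure Rep (G : Type) [Group G] [MulSemiringAction G B] [SMulCommClass G A B] [DistribMulAction G N]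
    (H : Type u) [CommRing H] [Algebra A H] (u : N →+ Additive (H ⊗[A] B)ˣ) : Prop where
  eqv : Eqv G u
  inj : ∀ {R : Type u} [CommRing R] [Algebra A R] (f f' : H →ₐ[A] R), push f u = push f' u → f = f'
  surj : ∀ {R : Type u} [CommRing R] [Algebra A R] (χ : N →+ Additive (R ⊗[A] B)ˣ), Eqv G χ →
    ∃ f : H →ₐ[A] R, push f u = χ

/-- maps out of a representing algebra -/
noncomputable def Rep.equiv {H : Type u} [CommRing H] [Algebra A H] {u : N →+ Additive (H ⊗[A] B)ˣ}
    (h : Rep G H u) (R : Type u) [CommRing R] [Algebra A R] : (H →ₐ[A] R) ≃ cs A B G N R :=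
  Equiv.ofBijective (fun f => ⟨push f u, eqv_push f h.eqv⟩)
    ⟨fun f f' hf => h.inj f f' (congrArg Subtype.val hf), fun χ => by
      obtain ⟨f, hf⟩ := h.surj χ.1 χ.2
      exact ⟨f, Subtype.ext hf⟩⟩

lemma Rep.coe_equiv {H : Type u} [CommRing H] [Algebra A H] {u : N →+ Additive (H ⊗[A] B)ˣ}
    (h : Rep G H u) (f : H →ₐ[A] R) : (h.equiv R f : N →+ Additive (R ⊗[A] B)ˣ) = push f u := rfl

lemma Rep.csMap_equiv {H : Type u} [CommRing H] [Algebra A H] {u : N →+ Additive (H ⊗[A] B)ˣ}
    (h : Rep G H u) (f : H →ₐ[A] R) (g : R →ₐ[A] R') : csMap g (h.equiv R f) = h.equiv R' (g.comp f) :=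
  Subtype.ext (push_push f g u)

section rep

/-- the semilinear action on the group algebra -/
noncomputable def sg (g : G) : MonoidAlgebra B (Multiplicative N) →+* MonoidAlgebra B (Multiplicative N) :=
  ev ((MonoidAlgebra.singleOneRingHom : B →+* MonoidAlgebra B (Multiplicative N)).comp (MulSemiringAction.toRingHom G B g))
    ((uc B N).comp (DistribSMul.toAddMonoidHom N g))

lemma sg_single (g : G) (n : N) (b : B) : sg g (MonoidAlgebra.single (Multiplicative.ofAdd n) b) =
    MonoidAlgebra.single (Multiplicative.ofAdd (g • n)) (g • b) := by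
  rw [sg, ev_single]
  change MonoidAlgebra.single 1 (g • b) * MonoidAlgebra.single (Multiplicative.ofAdd (g • n)) 1 = _
  rw [MonoidAlgebra.single_mul_single, one_mul, mul_one]

lemma ringHom_ext {S : Type*} [CommRing S] {f f' : MonoidAlgebra B (Multiplicative N) →+* S}
    (h : ∀ n b, f (MonoidAlgebra.single (Multiplicative.ofAdd n) b) =
      f' (MonoidAlgebra.single (Multiplicative.ofAdd n) b)) : f = f' := by
  apply MonoidAlgebra.ringHom_ext
  · intro b
    exact h 0 b
  · intro n
    exact h (Multiplicative.toAdd n) 1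

lemma algebraMap_eq (b : B) : algebraMap B (MonoidAlgebra B (Multiplicative N)) b =
    MonoidAlgebra.single (Multiplicative.ofAdd 0) b := rfl

lemma single_eq (n : N) (b : B) : (MonoidAlgebra.single (Multiplicative.ofAdd n) b : MonoidAlgebra B (Multiplicative N)) =
    algebraMap B (MonoidAlgebra B (Multiplicative N)) b * MonoidAlgebra.single (Multiplicative.ofAdd n) 1 := by
  rw [algebraMap_eq, MonoidAlgebra.single_mul_single, ← ofAdd_add, zero_add, mul_one]

lemma sg_algebraMap (g : G) (b : B) : sg g (algebraMap B (MonoidAlgebra B (Multiplicative N)) b) =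
    algebraMap B (MonoidAlgebra B (Multiplicative N)) (g • b) := by
  rw [algebraMap_eq, sg_single, smul_zero, algebraMap_eq]

lemma sg_one (c : MonoidAlgebra B (Multiplicative N)) : sg (1 : G) c = c := by
  have : sg (1 : G) = RingHom.id (MonoidAlgebra B (Multiplicative N)) := by
    apply ringHom_ext
    intro n b
    rw [sg_single, one_smul, one_smul]
    rfl
  rw [this]
  rfl

lemma sg_mul (g h : G) (c : MonoidAlgebra B (Multiplicative N)) : sg (g * h) c = sg g (sg h c) := by
  have : sg (g * h) = (sg g).comp (sg h : MonoidAlgebra B (Multiplicative N) →+* MonoidAlgebra B (Multiplicative N)) := by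
    apply ringHom_ext
    intro n b
    rw [RingHom.comp_apply, sg_single, sg_single, sg_single, mul_smul, mul_smul]
  rw [this]
  rfl

/-- Galois descent of the group algebra -/
theorem exists_descent [Fintype G] (hG : IsGal A B G) (N : Type) [AddCommGroup N] [DistribMulAction G N] :
    ∃ (E : Type u) (_ : CommRing E) (_ : Algebra A E) (m : E ⊗[A] B ≃ₐ[A] MonoidAlgebra B (Multiplicative N)),
      (∀ (g : G) z, m (act A B E g z) = sg g (m z)) ∧
      (∀ {R : Type u} [CommRing R] [Algebra A R] (f f' : E →ₐ[A] R),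
        (∀ c, mB B f (m.symm c) = mB B f' (m.symm c)) → f = f') ∧
      (∀ {R : Type u} [CommRing R] [Algebra A R] (F : MonoidAlgebra B (Multiplicative N) →+* R ⊗[A] B),
        (∀ b, F (algebraMap B _ b) = 1 ⊗ₜ[A] b) → (∀ (g : G) c, F (sg g c) = act A B R g (F c)) →
        ∃ ψ : E →ₐ[A] R, ∀ c, mB B ψ (m.symm c) = F c) ∧ (∀ b, m (1 ⊗ₜ[A] b) = algebraMap B _ b) := by
  let C := MonoidAlgebra B (Multiplicative N)
  let σ : G → C →+* C := sg
  have hσb : ∀ (g : G) (b : B), σ g (algebraMap B C b) = algebraMap B C (g • b) := sg_algebraMap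
  have hσ1 : ∀ c, σ 1 c = c := sg_one
  have hσm : ∀ g h c, σ (g * h) c = σ g (σ h c) := sg_mul
  refine ⟨Einv (A := A) σ hσb, inferInstance, inferInstance, mEquiv σ hσb hσ1 hσm hG, ?_, ?_, ?_, ?_⟩
  · intro g z
    exact mE_act σ hσb g z
  · intro R _ _ f f' h
    exact toT_injective σ hσb hσ1 hσm hG h
  · intro R _ _ F h1 h2
    exact exists_toT σ hσb hσ1 hσm hG F h1 h2
  · intro b
    refine (mE_tmul σ hσb 1 b).trans ?_
    exact one_mul _

/-- Equivariant characters are representable. -/
theorem exists_rep [Fintype G] (hG : IsGal A B G) (N : Type) [AddCommGroup N] [DistribMulAction G N] :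
    ∃ (H : Type u) (_ : CommRing H) (_ : Algebra A H) (u : N →+ Additive (H ⊗[A] B)ˣ), Rep G H u := by
  obtain ⟨E, _, _, m, hm1, hm2, hm3, hm4⟩ := exists_descent hG N
  let mi : MonoidAlgebra B (Multiplicative N) →+* E ⊗[A] B :=
    (m.symm : MonoidAlgebra B (Multiplicative N) →ₐ[A] E ⊗[A] B)
  let u : N →+ Additive (E ⊗[A] B)ˣ := (um mi).comp (uc B N)
  have hu : ∀ n, ((u n).toMul : E ⊗[A] B) = m.symm (MonoidAlgebra.single (Multiplicative.ofAdd n) 1) := fun n => rfl
  have hub : ∀ b, m.symm (algebraMap B _ b) = 1 ⊗ₜ[A] b := by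
    intro b
    rw [← hm4, AlgEquiv.symm_apply_apply]
  refine ⟨E, inferInstance, inferInstance, u, ?_, ?_, ?_⟩
  · intro g n
    apply addUnits_ext
    rw [val_um, hu, hu]
    apply m.injective
    rw [AlgEquiv.apply_symm_apply]
    refine Eq.trans ?_ (hm1 g _).symm
    rw [AlgEquiv.apply_symm_apply, sg_single, smul_one]
  · intro R _ _ f f' hf
    apply hm2
    intro c
    have h1 : (mB B f : E ⊗[A] B →+* R ⊗[A] B).comp mi = (mB B f' : E ⊗[A] B →+* R ⊗[A] B).comp mi := by
      apply ringHom_ext
      intro n b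
      rw [single_eq, map_mul, map_mul]
      have h2 := congrArg (fun z : N →+ Additive (R ⊗[A] B)ˣ => ((z n).toMul : R ⊗[A] B)) hf
      rw [val_push, val_push, hu] at h2
      change mB B f (m.symm _) * mB B f (m.symm _) = mB B f' (m.symm _) * mB B f' (m.symm _)
      rw [h2, hub]
      simp
    exact congrArg (fun z : MonoidAlgebra B (Multiplicative N) →+* R ⊗[A] B => z c) h1
  · intro R _ _ χ hχ
    let ir : B →+* R ⊗[A] B := (Algebra.TensorProduct.includeRight : B →ₐ[A] R ⊗[A] B)
    obtain ⟨ψ, hψ⟩ := hm3 (R := R) (ev ir χ)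
      (by
        intro b
        rw [algebraMap_eq, ev_single, map_zero]
        exact mul_one _)
      (by
        intro g c
        have h1 : (ev ir χ).comp (sg g) = (act A B R g : R ⊗[A] B →+* R ⊗[A] B).comp (ev ir χ) := by
          apply ringHom_ext
          intro n b
          rw [RingHom.comp_apply, RingHom.comp_apply, sg_single, ev_single, ev_single, hχ g n, val_um, map_mul]
          congr 1
        exact congrArg (fun z : MonoidAlgebra B (Multiplicative N) →+* R ⊗[A] B => z c) h1)
    refine ⟨ψ, ?_⟩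
    ext1 n
    apply addUnits_ext
    rw [val_push, hu, hψ, ev_single, map_one, one_mul]

end rep

section cr

/-- evaluation along `s` -/
noncomputable def evs (s : B →+* R) (hs : s.comp (algebraMap A B) = algebraMap A R) : R ⊗[A] B →ₐ[A] R :=
  Algebra.TensorProduct.lift (AlgHom.id A R) { s with commutes' := fun a => congrArg (fun z : A →+* R => z a) hs }
    (fun _ _ => Commute.all _ _)

@[simp] lemma evs_tmul (s : B →+* R) (hs : s.comp (algebraMap A B) = algebraMap A R) (r : R) (b : B) :
    evs s hs (r ⊗ₜ b) = r * s b := by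
  simp [evs]

lemma evs_mB (s : B →+* R) (hs : s.comp (algebraMap A B) = algebraMap A R) (f : R →ₐ[A] R') (s' : B →+* R')
    (hs' : s'.comp (algebraMap A B) = algebraMap A R') (hf : (f : R →+* R').comp s = s') (z : R ⊗[A] B) :
    evs s' hs' (mB B f z) = f (evs s hs z) := by
  subst hf
  induction z using TensorProduct.induction_on with
  | zero => simp
  | tmul r b => simp
  | add x y hx hy => rw [map_add, map_add, hx, hy, map_add, map_add]

lemma eq_of_evs [Fintype G] (hG : IsGal A B G) (s : B →+* R) (hs : s.comp (algebraMap A B) = algebraMap A R)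
    {z z' : R ⊗[A] B} (h : ∀ g : G, evs s hs (act A B R g z) = evs s hs (act A B R g z')) : z = z' := by
  let _ : Algebra B R := s.toAlgebra
  have : IsScalarTower A B R := IsScalarTower.of_algebraMap_eq' hs.symm
  exact eq_of_ev hG h

lemma exists_evs [Fintype G] (hG : IsGal A B G) (s : B →+* R) (hs : s.comp (algebraMap A B) = algebraMap A R)
    (t : G → R) : ∃ z : R ⊗[A] B, ∀ g : G, evs s hs (act A B R g z) = t g := by
  let _ : Algebra B R := s.toAlgebra
  have : IsScalarTower A B R := IsScalarTower.of_algebraMap_eq' hs.symm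
  exact exists_of_family hG t

/-- The comparison of equivariant characters and homomorphisms, over an algebra under `B`. -/
noncomputable def crHom (s : B →+* R) (hs : s.comp (algebraMap A B) = algebraMap A R) :
    cs A B G N R →+ (N →+ Additive Rˣ) where
  toFun χ := (um (evs s hs : R ⊗[A] B →+* R)).comp χ.1
  map_zero' := by
    ext1 n
    exact map_zero (um (evs s hs : R ⊗[A] B →+* R))
  map_add' χ χ' := by
    ext1 n
    exact map_add (um (evs s hs : R ⊗[A] B →+* R)) (χ.1 n) (χ'.1 n)

lemma val_crHom (s : B →+* R) (hs : s.comp (algebraMap A B) = algebraMap A R) (χ : cs A B G N R) (n : N) :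
    ((crHom s hs χ n).toMul : R) = evs s hs ((χ.1 n).toMul : R ⊗[A] B) := rfl

lemma crHom_bijective [Fintype G] (hG : IsGal A B G) (s : B →+* R) (hs : s.comp (algebraMap A B) = algebraMap A R) :
    Function.Bijective (crHom (G := G) (N := N) s hs) := by
  have key : ∀ (χ : cs A B G N R) (n : N) (g : G), evs s hs (act A B R g ((χ.1 n).toMul : R ⊗[A] B)) =
      ((crHom s hs χ (g • n)).toMul : R) := by
    intro χ n g
    rw [val_crHom, χ.2 g n, val_um]
    rfl
  constructor
  · intro χ χ' h
    apply Subtype.ext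
    ext1 n
    apply addUnits_ext
    apply eq_of_evs hG s hs
    intro g
    rw [key, key, h]
  · intro χ'
    choose z hz using fun n : N => exists_evs hG s hs (fun g : G => ((χ' (g • n)).toMul : R))
    have hz0 : z 0 = 1 := by
      apply eq_of_evs hG s hs
      intro g
      rw [hz, smul_zero, map_zero χ', map_one, map_one]
      rfl
    have hzadd : ∀ n n', z (n + n') = z n * z n' := by
      intro n n'
      apply eq_of_evs hG s hs
      intro g
      rw [map_mul, map_mul, hz, hz, hz, smul_add, map_add χ']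
      rfl
    let χ : N →+ Additive (R ⊗[A] B)ˣ :=
      { toFun := fun n => Additive.ofMul
          ⟨z n, z (-n), by rw [← hzadd, add_neg_cancel, hz0], by rw [← hzadd, neg_add_cancel, hz0]⟩
        map_zero' := addUnits_ext hz0
        map_add' := fun n n' => addUnits_ext (hzadd n n') }
    have hχ : ∀ n, ((χ n).toMul : R ⊗[A] B) = z n := fun n => rfl
    refine ⟨⟨χ, ?_⟩, ?_⟩
    · intro g n
      apply addUnits_ext
      rw [val_um, hχ, hχ]
      apply eq_of_evs hG s hs
      intro h
      rw [hz]
      change _ = evs s hs (act A B R h (act A B R g (z n)))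
      rw [act_act, hz, mul_smul]
    · ext1 n
      apply addUnits_ext
      rw [val_crHom]
      change evs s hs (z n) = _
      have := hz n 1
      rwa [act_one, one_smul] at this

/-- The comparison of equivariant characters and homomorphisms, over an algebra under `B`. -/
noncomputable def crEquiv [Fintype G] (hG : IsGal A B G) (s : B →+* R)
    (hs : s.comp (algebraMap A B) = algebraMap A R) : cs A B G N R ≃+ (N →+ Additive Rˣ) :=
  AddEquiv.ofBijective (crHom s hs) (crHom_bijective hG s hs)

lemma crEquiv_nat [Fintype G] (hG : IsGal A B G) (s : B →+* R) (hs : s.comp (algebraMap A B) = algebraMap A R)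
    (f : R →ₐ[A] R') (s' : B →+* R') (hs' : s'.comp (algebraMap A B) = algebraMap A R')
    (hf : (f : R →+* R').comp s = s') (χ : cs A B G N R) :
    crEquiv hG s' hs' (csMap f χ) = (um (f : R →+* R')).comp (crEquiv hG s hs χ) := by
  ext1 n
  apply addUnits_ext
  exact evs_mB s hs f s' hs' hf _

end cr

end K965.EqRep
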