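import Groth.Agent.MultTori.K965.LatX
import Groth.Agent.MultTori.K965.Decomp

/-!
# Splitting equivariant homomorphisms along a permutation resolution
-/

set_option autoImplicit false
universe u

namespace K965.EqSplit

open K965.LatX K965.Decomp

variable {G : Type} [Group G] {M : Type} [AddCommGroup M] [DistribMulAction G M]
  {X : Type} [Fintype X] [MulAction G X] {φ : X → M →+ ℤ} (hφ : IsRes G M φ)
  {U E Q : Type u} [AddCommGroup U] [AddCommGroup E] [Fintype Q] [MulAction G Q]
  (aU : G → U →+ U) (aE : G → E →+ E) (e : E →+ U) (he : ∀ g c, aU g (e c) = e (aE g c))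
  (w : Q → U) (hw : ∀ g q, aU g (w q) = w (g • q))
  (huniq : ∀ (v v' : E) (D D' : Q → ℤ), e v + sh w D = e v' + sh w D' → v = v' ∧ D = D')
  (hex : ∀ u : U, ∃ (v : E) (D : Q → ℤ), u = e v + sh w D)

include hφ he hw huniq hex in
/-- An equivariant homomorphism to `U` is the sum of one to `E` and one which factors through the permutation
lattice. -/
theorem exists_split_char (χ : M →+ U) (hχ : ∀ (g : G) m, χ (g • m) = aU g (χ m)) :
    ∃ (c : M →+ E) (p : LX X →+ U), (∀ (g : G) m, c (g • m) = aE g (c m)) ∧
      (∀ (g : G) l, p (g • l) = aU g (p l)) ∧ ∀ m, χ m = e (c m) + p (jX φ m) := by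
  classical
  choose V D hVD using fun m => hex (χ m)
  have hact : ∀ (g : G) (D : Q → ℤ), aU g (sh w D) = sh w (fun q => D (g⁻¹ • q)) := by
    intro g D
    rw [sh_apply, sh_apply, map_sum]
    refine Fintype.sum_equiv (MulAction.toPerm g) _ _ (fun q => ?_)
    rw [map_zsmul, hw]
    change D q • w (g • q) = D (g⁻¹ • g • q) • w (g • q)
    rw [inv_smul_smul]
  have hadd : ∀ m m', V (m + m') = V m + V m' ∧ D (m + m') = D m + D m' := by
    intro m m'
    apply huniq
    rw [← hVD, map_add, hVD m, hVD m', map_add, map_add]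
    abel
  have hG : ∀ (g : G) m, V (g • m) = aE g (V m) ∧ D (g • m) = fun q => D m (g⁻¹ • q) := by
    intro g m
    apply huniq
    rw [← hVD, hχ, hVD m, map_add, hact, he]
  let V' : M →+ E := AddMonoidHom.mk' V (fun m m' => (hadd m m').1)
  let D' : Q → M →+ ℤ := fun q => AddMonoidHom.mk' (fun m => D m q) (fun m m' => congrFun (hadd m m').2 q)
  have hD' : ∀ q m, D' q m = D m q := fun q m => rfl
  obtain ⟨c, hc, hc'⟩ := hφ.exists_choice D' (by
    intro g q m
    rw [hD', hD', (hG g⁻¹ m).2, inv_inv])
  let p : LX X →+ U :=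
    { toFun := fun l => sh w (fun q => ∑ x, c q x * l x)
      map_zero' := by
        have : (fun q => ∑ x, c q x * (0 : LX X) x) = (0 : Q → ℤ) := by
          funext q
          exact Finset.sum_eq_zero fun x _ => mul_zero _
        rw [this, map_zero]
      map_add' := fun a b => by
        rw [← map_add]
        congr 1
        funext q
        rw [Pi.add_apply, ← Finset.sum_add_distrib]
        refine Finset.sum_congr rfl fun x _ => ?_
        rw [LX.add_apply, mul_add] }
  have hp : ∀ l, p l = sh w (fun q => ∑ x, c q x * l x) := fun l => rfl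
  refine ⟨V', p, fun g m => (hG g m).1, fun g l => ?_, fun m => ?_⟩
  · rw [hp, hp, hact]
    congr 1
    funext q
    refine Fintype.sum_equiv (MulAction.toPerm g⁻¹) _ _ (fun x => ?_)
    change c q x * (g • l) x = c (g⁻¹ • q) (g⁻¹ • x) * l (g⁻¹ • x)
    rw [LX.smul_apply, hc]
  · rw [hVD m]
    congr 1
    rw [hp]
    congr 1
    funext q
    rw [← hD', hc']
    rfl

end K965.EqSplit
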