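import Mathlib.RingTheory.Ideal.Quotient.Operations
import Mathlib.RingTheory.Ideal.Quotient.ChineseRemainder
import Mathlib.LinearAlgebra.TensorProduct.RightExactness
import Mathlib.RingTheory.Ideal.GoingUp
import Mathlib.RingTheory.TensorProduct.Finite

/-!
# Lifting units from the residue fields of a semilocal algebra
-/

set_option autoImplicit false
universe u v w
open scoped TensorProduct

namespace K965.UnitLift

variable {A₀ A : Type u} [CommRing A₀] [CommRing A] [Algebra A₀ A] {I : Type w}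
  {κ : I → Type v} [∀ i, Field (κ i)] [∀ i, Algebra A₀ (κ i)] (q : ∀ i, A →ₐ[A₀] κ i)
  (hq : ∀ i, Function.Surjective (q i)) (hinj : ∀ i j, RingHom.ker (q i) = RingHom.ker (q j) → i = j)

include hq hinj in
/-- Orthogonal idempotents modulo the maximal ideals. -/
theorem exists_idem [Finite I] [DecidableEq I] (i : I) : ∃ e : A, ∀ j, q j e = if j = i then 1 else 0 := by
  have hmax : ∀ i, (RingHom.ker (q i)).IsMaximal := fun i => RingHom.ker_isMaximal_of_surjective (q i) (hq i)
  have hco : Pairwise fun i j : I => IsCoprime (RingHom.ker (q i)) (RingHom.ker (q j)) := by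
    intro i j hij
    rw [Ideal.isCoprime_iff_sup_eq]
    exact (hmax i).coprime_of_ne (hmax j) (fun h => hij (hinj i j h))
  obtain ⟨e, he⟩ := Ideal.pi_quotient_surjective hco (fun j => if j = i then 1 else 0)
  refine ⟨e, fun j => ?_⟩
  have h1 := he j
  split_ifs with hj
  · rw [if_pos hj, ← map_one (Ideal.Quotient.mk (RingHom.ker (q j))), Ideal.Quotient.eq, RingHom.mem_ker, map_sub,
      map_one, sub_eq_zero] at h1
    exact h1
  · rw [if_neg hj, Ideal.Quotient.eq_zero_iff_mem, RingHom.mem_ker] at h1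
    exact h1

variable (B : Type u) [CommRing B] [Algebra A₀ B]

/-- The reduction -/
noncomputable abbrev red (i : I) : A ⊗[A₀] B →ₐ[A₀] κ i ⊗[A₀] B := Algebra.TensorProduct.map (q i) (AlgHom.id A₀ B)

include hq in
theorem red_surjective (i : I) : Function.Surjective (red q B i) :=
  TensorProduct.map_surjective (hq i) Function.surjective_id

lemma red_smul (i : I) (a : A) (z : A ⊗[A₀] B) : red q B i (a • z) = (q i a ⊗ₜ 1) * red q B i z := by
  have h1 : a • z = (a ⊗ₜ[A₀] 1) * z := by
    rw [Algebra.smul_def]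
    rfl
  rw [h1, map_mul, Algebra.TensorProduct.map_tmul, map_one]

include hq hinj in
theorem exists_lift [Finite I] (v : ∀ i, κ i ⊗[A₀] B) : ∃ b : A ⊗[A₀] B, ∀ i, red q B i b = v i := by
  classical
  cases nonempty_fintype I
  choose e he using exists_idem q hq hinj
  choose b hb using fun i => red_surjective q hq B i (v i)
  refine ⟨∑ i, e i • b i, fun i => ?_⟩
  rw [map_sum, Finset.sum_eq_single i]
  · rw [red_smul, he, if_pos rfl, hb]
    exact one_mul _
  · intro j _ hj
    rw [red_smul, he, if_neg hj.symm, TensorProduct.zero_tmul, zero_mul]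
  · intro h
    exact absurd (Finset.mem_univ i) h

include hq in
theorem isUnit_of_red [Module.Finite A₀ B] (hex : ∀ m : Ideal A, m.IsMaximal → ∃ i, RingHom.ker (q i) = m)
    (b : A ⊗[A₀] B) (h : ∀ i, IsUnit (red q B i b)) : IsUnit b := by
  by_contra hb
  obtain ⟨n, hn, hbn⟩ := exists_max_ideal_of_mem_nonunits hb
  have hint : Algebra.IsIntegral A (A ⊗[A₀] B) := inferInstance
  have hm : (n.comap (algebraMap A (A ⊗[A₀] B))).IsMaximal := Ideal.isMaximal_comap_of_isIntegral_of_isMaximal n
  obtain ⟨i, hi⟩ := hex _ hm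
  obtain ⟨w, hw⟩ := (h i).exists_right_inv
  obtain ⟨c, hc⟩ := red_surjective q hq B i w
  have hk : b * c - 1 ∈ RingHom.ker (red q B i) := by
    rw [RingHom.mem_ker, map_sub, map_mul, hc, hw, map_one, sub_self]
  have hker : RingHom.ker (red q B i) =
      (RingHom.ker (q i)).map (Algebra.TensorProduct.includeLeft : A →ₐ[A₀] A ⊗[A₀] B) :=
    Algebra.TensorProduct.rTensor_ker _ (hq i)
  rw [hker] at hk
  have hle : (RingHom.ker (q i)).map (Algebra.TensorProduct.includeLeft : A →ₐ[A₀] A ⊗[A₀] B) ≤ n := by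
    rw [Ideal.map_le_iff_le_comap, hi]
    exact le_rfl
  have h1 := hle hk
  apply hn.ne_top
  rw [Ideal.eq_top_iff_one]
  have h2 : (1 : A ⊗[A₀] B) = b * c - (b * c - 1) := by ring
  rw [h2]
  exact n.sub_mem (n.mul_mem_right _ hbn) h1

include hq hinj in
/-- A family of units over the residue fields of a semilocal ring lifts. -/
theorem exists_unit [Finite I] [Module.Finite A₀ B] (hex : ∀ m : Ideal A, m.IsMaximal → ∃ i, RingHom.ker (q i) = m)
    (v : ∀ i, (κ i ⊗[A₀] B)ˣ) :
    ∃ b : (A ⊗[A₀] B)ˣ, ∀ i, red q B i (b : A ⊗[A₀] B) = v i := by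
  obtain ⟨b, hb⟩ := exists_lift q hq hinj B (fun i => (v i : κ i ⊗[A₀] B))
  obtain ⟨b', rfl⟩ := isUnit_of_red q hq B hex b (fun i => by rw [hb]; exact (v i).isUnit)
  exact ⟨b', hb⟩

end K965.UnitLift
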