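import Groth.Agent.MultTori.K965.LatX
import Groth.Agent.MultTori.K965.EqRep
import Groth.Agent.MultTori.K965.UnitLift

/-!
# The induced lattice of a lattice with action, and lifting its characters
-/

set_option autoImplicit false
universe u
open scoped TensorProduct

set_option linter.unusedSectionVars false

namespace K965.FreeX

open K965.LatX K965.Pts K965.Gal K965.Dict K965.EqRep
open K964.UC (mB mB_comp)

/-- free `G`-set with `r` orbits -/
def FX (G : Type) (r : ℕ) : Type := G × Fin r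

variable {G : Type} [Group G] {r : ℕ}

instance [Fintype G] : Fintype (FX G r) := inferInstanceAs (Fintype (G × Fin r))

instance : MulAction G (FX G r) where
  smul g x := (g * x.1, x.2)
  one_smul x := Prod.ext (one_mul _) rfl
  mul_smul g h x := Prod.ext (mul_assoc g h x.1) rfl

/-- elements -/
def mk (g : G) (a : Fin r) : FX G r := (g, a)

lemma smul_mk (g h : G) (a : Fin r) : g • (mk h a : FX G r) = mk (g * h) a := rfl

lemma mk_surj (x : FX G r) : ∃ g a, mk g a = x := ⟨x.1, x.2, rfl⟩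

variable [DistribMulAction G (Fin r → ℤ)]

/-- the functionals -/
def phi (x : FX G r) : (Fin r → ℤ) →+ ℤ where
  toFun m := (x.1⁻¹ • m) x.2
  map_zero' := by rw [smul_zero]; rfl
  map_add' a b := by rw [smul_add]; rfl

/-- the embedding in the induced lattice -/
def jF (G : Type) [Group G] (r : ℕ) [DistribMulAction G (Fin r → ℤ)] : (Fin r → ℤ) →+ LX (FX G r) := jX phi

lemma jF_apply (m : Fin r → ℤ) (g : G) (a : Fin r) : jF G r m (mk g a) = (g⁻¹ • m) a := rfl

lemma jF_smul (g : G) (m : Fin r → ℤ) : jF G r (g • m) = g • jF G r m := by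
  funext x
  obtain ⟨h, a, rfl⟩ := mk_surj x
  rw [LX.smul_apply, smul_mk, jF_apply, jF_apply, mul_inv_rev, inv_inv, mul_smul]

/-- the retraction -/
def rF (G : Type) [Group G] (r : ℕ) : LX (FX G r) →+ (Fin r → ℤ) where
  toFun l := fun a => l (mk 1 a)
  map_zero' := rfl
  map_add' a b := rfl

lemma rF_jF (m : Fin r → ℤ) : rF G r (jF G r m) = m := by
  funext a
  change jF G r m (mk 1 a) = m a
  rw [jF_apply, inv_one, one_smul]

lemma torsionFree {X : Type} (n : ℤ) (l : LX X) (hn : n ≠ 0) (h : n • l = 0) : l = 0 := by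
  funext x
  have h1 := congrFun h x
  rw [LX.zsmul_apply] at h1
  exact (mul_eq_zero.1 h1).resolve_left hn

section lift

variable {A₀ A B : Type u} [CommRing A₀] [CommRing A] [Algebra A₀ A] [CommRing B] [Algebra A₀ B]
  [MulSemiringAction G B] [SMulCommClass G A₀ B] [Fintype G]

/-- the character of the induced lattice with given values -/
noncomputable def lc [DecidableEq (FX G r)] (R : Type u) [CommRing R] [Algebra A₀ R] (v : Fin r → Additive (R ⊗[A₀] B)ˣ) :
    LX (FX G r) →+ Additive (R ⊗[A₀] B)ˣ :=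
  LX.lift (fun x : FX G r => um (act A₀ B R x.1 : R ⊗[A₀] B →+* R ⊗[A₀] B) (v x.2))

lemma lc_dl [DecidableEq (FX G r)] (R : Type u) [CommRing R] [Algebra A₀ R] (v : Fin r → Additive (R ⊗[A₀] B)ˣ)
    (g : G) (a : Fin r) : lc R v (dl (mk g a)) = um (act A₀ B R g : R ⊗[A₀] B →+* R ⊗[A₀] B) (v a) :=
  LX.lift_dl _ _

lemma eqv_lc [DecidableEq (FX G r)] (R : Type u) [CommRing R] [Algebra A₀ R] (v : Fin r → Additive (R ⊗[A₀] B)ˣ) :
    Eqv G (lc (G := G) R v) := by
  intro g l
  let F : LX (FX G r) →+ Additive (R ⊗[A₀] B)ˣ :=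
    { toFun := fun l => lc R v (g • l)
      map_zero' := by rw [smul_zero, map_zero]
      map_add' := fun a b => by rw [smul_add, map_add] }
  have h1 : F = (um (act A₀ B R g : R ⊗[A₀] B →+* R ⊗[A₀] B)).comp (lc R v) := by
    refine LX.hom_ext (U := Additive (R ⊗[A₀] B)ˣ) (f := F)
      (f' := (um (act A₀ B R g : R ⊗[A₀] B →+* R ⊗[A₀] B)).comp (lc R v)) ?_
    intro x
    obtain ⟨h, a, rfl⟩ := mk_surj x
    change lc R v (g • dl (mk h a)) = um (act A₀ B R g : R ⊗[A₀] B →+* R ⊗[A₀] B) (lc R v (dl (mk h a)))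
    rw [smul_dl, smul_mk, lc_dl, lc_dl]
    apply addUnits_ext
    exact (act_act g h _).symm
  exact DFunLike.congr_fun h1 l

theorem exists_lift {I : Type*} [Finite I] {κ : I → Type u} [∀ i, Field (κ i)] [∀ i, Algebra A₀ (κ i)]
    (q : ∀ i, A →ₐ[A₀] κ i) (hq : ∀ i, Function.Surjective (q i))
    (hinj : ∀ i j, RingHom.ker (q i) = RingHom.ker (q j) → i = j) [Module.Finite A₀ B]
    (hex : ∀ m : Ideal A, m.IsMaximal → ∃ i, RingHom.ker (q i) = m)
    (p : ∀ i, LX (FX G r) →+ Additive (κ i ⊗[A₀] B)ˣ) (hp : ∀ i, Eqv G (p i)) :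
    ∃ P : LX (FX G r) →+ Additive (A ⊗[A₀] B)ˣ, Eqv G P ∧ ∀ i, push (q i) P = p i := by
  classical
  have h1 : ∀ a : Fin r, ∃ b : (A ⊗[A₀] B)ˣ, ∀ i, UnitLift.red q B i (b : A ⊗[A₀] B) =
      ((p i (dl (mk 1 a))).toMul : (κ i ⊗[A₀] B)ˣ) := fun a =>
    UnitLift.exists_unit q hq hinj B hex (fun i => (p i (dl (mk 1 a))).toMul)
  choose b hb using h1
  refine ⟨lc (G := G) A (fun a => Additive.ofMul (b a)), eqv_lc (G := G) _ _, fun i => ?_⟩
  refine LX.hom_ext (U := Additive (κ i ⊗[A₀] B)ˣ) ?_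
  intro x
  obtain ⟨g, a, rfl⟩ := mk_surj x
  have h2 : (mk g a : FX G r) = g • mk 1 a := by rw [smul_mk, mul_one]
  rw [push_apply, lc_dl, h2, ← smul_dl, hp i g]
  apply addUnits_ext
  rw [val_um, val_um, val_um]
  change mB B (q i) (act A₀ B A g (b a : A ⊗[A₀] B)) = act A₀ B (κ i) g _
  rw [← hb a i]
  exact map_act (q i) g _

end lift

end K965.FreeX
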