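import Mathlib.AlgebraicGeometry.OpenImmersion
import Mathlib.AlgebraicGeometry.Restrict

/-!
# Shrinking a partially defined retraction
-/

set_option autoImplicit false
universe u
open CategoryTheory AlgebraicGeometry

namespace K965.GeoRet

theorem exists_opens {X Z S V' U' : Scheme.{u}} (x : X ⟶ S) (z : Z ⟶ S) (j : V' ⟶ Z) (i : U' ⟶ X)
    [IsOpenImmersion j] [IsOpenImmersion i] [Nonempty U'] (b₀ : V' ⟶ X) (a₀ : U' ⟶ V') (h : a₀ ≫ b₀ = i)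
    (hb : b₀ ≫ x = j ≫ z) :
    ∃ (U : X.Opens) (Y : Z.Opens) (a : (U : Scheme.{u}) ⟶ (Y : Scheme.{u})) (b : (Y : Scheme.{u}) ⟶ (U : Scheme.{u})),
      (U : Set X).Nonempty ∧ a ≫ b = 𝟙 (U : Scheme.{u}) ∧ a ≫ Y.ι ≫ z = U.ι ≫ x ∧ b ≫ U.ι ≫ x = Y.ι ≫ z := by
  let U : X.Opens := i.opensRange
  let Y : Z.Opens := j ''ᵁ (b₀ ⁻¹ᵁ U)
  have hYj : Set.range Y.ι ⊆ Set.range j := by
    rw [Scheme.Opens.range_ι]
    rintro _ ⟨y, -, rfl⟩
    exact ⟨y, rfl⟩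
  let c : (Y : Scheme.{u}) ⟶ V' := IsOpenImmersion.lift j Y.ι hYj
  have hc : c ≫ j = Y.ι := IsOpenImmersion.lift_fac _ _ _
  have hUi : Set.range U.ι ⊆ Set.range i := by
    rw [Scheme.Opens.range_ι]
    exact subset_rfl
  let d : (U : Scheme.{u}) ⟶ U' := IsOpenImmersion.lift i U.ι hUi
  have hd : d ≫ i = U.ι := IsOpenImmersion.lift_fac _ _ _
  -- `a`
  have ha : Set.range (d ≫ a₀ ≫ j) ⊆ Set.range Y.ι := by
    rw [Scheme.Opens.range_ι]
    rintro _ ⟨y, rfl⟩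
    refine ⟨a₀ (d y), ?_, rfl⟩
    change b₀ (a₀ (d y)) ∈ U
    have h1 : b₀ (a₀ (d y)) = i (d y) := by
      rw [← h]
      rfl
    rw [h1]
    exact ⟨d y, rfl⟩
  let a : (U : Scheme.{u}) ⟶ (Y : Scheme.{u}) := IsOpenImmersion.lift Y.ι (d ≫ a₀ ≫ j) ha
  have ha' : a ≫ Y.ι = d ≫ a₀ ≫ j := IsOpenImmersion.lift_fac _ _ _
  have hac : a ≫ c = d ≫ a₀ := by
    rw [← cancel_mono j, Category.assoc, hc, ha', Category.assoc]
  -- `b`
  have hb' : Set.range (c ≫ b₀) ⊆ Set.range U.ι := by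
    rw [Scheme.Opens.range_ι]
    rintro _ ⟨y, rfl⟩
    obtain ⟨w, hw, hwy⟩ := y.2
    have h1 : c y = w := by
      apply j.isOpenEmbedding.injective
      have h2 : j (c y) = Y.ι y := by
        rw [← hc]
        rfl
      rw [h2]
      exact hwy.symm
    change b₀ (c y) ∈ U
    rw [h1]
    exact hw
  let b : (Y : Scheme.{u}) ⟶ (U : Scheme.{u}) := IsOpenImmersion.lift U.ι (c ≫ b₀) hb'
  have hb'' : b ≫ U.ι = c ≫ b₀ := IsOpenImmersion.lift_fac _ _ _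
  refine ⟨U, Y, a, b, ?_, ?_, ?_, ?_⟩
  · obtain ⟨y⟩ := (inferInstance : Nonempty U')
    exact ⟨i y, ⟨y, rfl⟩⟩
  · rw [← cancel_mono U.ι, Category.assoc, hb'', ← Category.assoc, hac, Category.assoc, h, hd, Category.id_comp]
  · rw [← Category.assoc, ha', Category.assoc, Category.assoc, ← hb, ← Category.assoc a₀, h, ← Category.assoc, hd]
  · rw [← Category.assoc, hb'', Category.assoc, hb, ← Category.assoc, hc]

end K965.GeoRet
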