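import Groth.Agent.MultTori.K965.LiftH
import Groth.Agent.MultTori.K965.TorsRet
import Groth.Agent.MultTori.K965.SmoothTors
import Groth.Agent.MultTori.K964.CharSurj
import Groth.Agent.MultTori.K964.MDict
import Groth.Agent.MultTori.K964.SemiGal

/-!
# `H¹(K, M) → H¹(K̂, M)` is surjective
-/

set_option autoImplicit false
universe u

open CategoryTheory CategoryTheory.Limits MonoidalCategory CartesianMonoidalCategory AlgebraicGeometry
open TensorProduct

namespace K965.H1Compl

open K965.Gal K964.UC K964.CharExt K964.AffPt K964.AffYon K964.Pt K964.TorsY K964.Cocyc K964.ExtE K964.BcPt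
open K964.DictBc K964.Desc K964.LiftL K964.FreeG K964.CharLift K964.CharSurj K964.PermLift K964.SimF K964.SimP K964.Shap
open K964.Coh K964.Van K964.MDict K964.SemiGal
open K965.Pts (sp mp)
open K965.ApproxChar (vv exists_decomp)
open scoped MonObj GrpObj
open IsDedekindDomain

attribute [local instance] actBc commBc

variable {A : Type u} [CommRing A] [IsDomain A] [IsDiscreteValuationRing A] (v : HeightOneSpectrum A)
  {K : Type u} [Field K] [Algebra A K] [IsFractionRing A K]

theorem main (M : Over (Spec (CommRingCat.of K))) [GrpObj M] [Smooth M.hom]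
    (hM : ∃ (Λ : Type) (_ : AddCommGroup Λ), AddGroup.FG Λ ∧
      TwC.Locally (Spec (CommRingCat.of K)) .finiteEtale
        (fun S' g => Nonempty (Grp.mk (Red.bc g M) ≅ Grp.mk (Red.DS S' Λ))))
    (hsplit : CycSplit (Red.bc (tb K (v.adicCompletion K)) M)) :
    Function.Surjective (NonAbH1.H1Sch.bcMap (tb K (v.adicCompletion K)) M Scheme.fppfPrecoverage) := by
  classical
  obtain ⟨Λ, _, hΛ, hM⟩ := hM
  have hconn : ConnectedSpace (Spec (CommRingCat.of K)) := inferInstanceAs (ConnectedSpace (PrimeSpectrum K))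
  obtain ⟨B, _, _, G, _, _, _, _, _, hG, hconn, ⟨D⟩, haff⟩ := exists_dict M hM
  have := hG.ff
  have := hG.fin
  have := hG.et
  have hΛ' : Module.Finite ℤ Λ := Module.Finite.iff_addGroup_fg.2 hΛ
  obtain ⟨P, _, F, _, _, _, _, _, τ, ρ, i, π, hi, hπ, hinj, hsurj, hex, hP, hF⟩ :=
    Groth.Agent.S18685.result G Λ (aRep G Λ)
  have hs : SimP (aRep G Λ) ρ τ := simP_A hF hP i hi π hπ hinj hsurj hex
  obtain ⟨m, r, hr, hm0, hmp⟩ := TorsRet.exists_retr i π hinj hsurj hex
  have hm : (m : K) ≠ 0 := by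
    intro h0
    obtain ⟨p, hp⟩ := CharP.exists K
    rcases (CharP.char_is_prime_or_zero K p) with hpp | rfl
    · have : Fact p.Prime := ⟨hpp⟩
      obtain ⟨l, hl0, hl⟩ := hmp p hpp ((CharP.cast_eq_zero_iff K p m).1 h0)
      exact hl0 (SmoothTors.eq_zero_of_smooth hG D p l hl)
    · exact hm0 (Nat.zero_dvd.1 ((CharP.cast_eq_zero_iff K 0 m).1 h0))
  let Kh := v.adicCompletion K
  have hv : H1Z (Representation.linHom ρ (uRep G (Kh ⊗[K] B))) := vanish_bc hG D Kh hsplit hs hP
  intro c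
  obtain ⟨Z, rfl⟩ := exists_cl c
  obtain ⟨R', _, _, hff, hfp, ⟨z⟩⟩ := exists_point Z
  have hfm : Finite (MaximalSpectrum (Kh ⊗[K] B)) := K964.SemiGal.finite_max (A := Kh)
  have hPic : Subsingleton (CommRing.Pic (Kh ⊗[K] B)) := inferInstance
  obtain ⟨e, he⟩ := LiftH.exists_lift (K964.DictBc.bc D Kh) (famOf Z.isTorsor.1 z) hPic π hπ hv
  obtain ⟨pK, hpK, hpK'⟩ := exists_ker_char he
  let q : F →+ Λ := π.toAddMonoidHom
  have hiq : ∀ y, i y ∈ q.ker := fun y => by
    change π (i y) = 0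
    rw [← LinearMap.mem_ker, ← hex]
    exact ⟨y, rfl⟩
  let ik : P →+ q.ker := i.toAddMonoidHom.codRestrict q.ker hiq
  have hik : Function.Bijective ik := by
    constructor
    · intro y y' h
      exact hinj (congrArg Subtype.val h)
    · rintro ⟨x, hx⟩
      have h1 : x ∈ LinearMap.range i := by
        rw [hex, LinearMap.mem_ker]
        exact hx
      obtain ⟨y, rfl⟩ := h1
      exact ⟨y, rfl⟩
  let ke : P ≃+ q.ker := AddEquiv.ofBijective ik hik
  have hke : ∀ y, ((ke y : q.ker) : F) = i y := fun y => rfl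
  let pR : P →+ Additive (Kh ⊗[K] B)ˣ := pK.comp ik
  have hpR : ∀ g y, vv (pR (τ g y)) = act K B Kh g (vv (pR y)) := by
    intro g y
    have h1 : ik (τ g y) = ⟨ρ g (ik y), by
        change π (ρ g (i y)) = 0
        rw [← hi]
        exact hiq _⟩ := Subtype.ext (hi g y)
    change vl (pK (ik (τ g y))) = _
    rw [h1, hpK']
    rfl
  obtain ⟨p, f, hp, hf, hpf⟩ := exists_decomp v hG τ hP ρ i hi m hm r hr pR hpR
  let e' : F →+ Additive (R' ⊗[Kh] (Kh ⊗[K] B))ˣ :=
    AddMonoidHom.mk' (fun x => e x - ib Kh R' (f x)) (fun a b => by rw [map_add, map_add, map_add]; abel)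
  have he' : Lift (K964.DictBc.bc D Kh) ρ q (famOf Z.isTorsor.1 z) e' := by
    refine ⟨fun g x => ?_, fun x => ?_⟩
    · have h1 : e (ρ g x) = ua Kh (Kh ⊗[K] B) R' g (e x) := addUnits_ext (he.eqv g x)
      have h2 : f (ρ g x) = ug g (f x) := addUnits_ext (hf g x)
      change vl (e (ρ g x) - ib Kh R' (f (ρ g x))) = vl (ua Kh (Kh ⊗[K] B) R' g (e x - ib Kh R' (f x)))
      rw [h1, h2, ib_ug, map_sub]
    · have h1 := (E (K964.DictBc.bc D Kh) (famOf Z.isTorsor.1 z)).sub_mem (he.mem x)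
        (ib_mem_E (K964.DictBc.bc D Kh) (famOf Z.isTorsor.1 z) (f x))
      have h2 : ((q x : Λ), e' x) = (π.toAddMonoidHom x, e x) - ((0 : Λ), ib Kh R' (f x)) :=
        Prod.ext (sub_zero _).symm rfl
      rw [h2]
      exact h1
  let p' : q.ker →+ Additive Bˣ := p.comp ke.symm.toAddMonoidHom
  have hFfg : AddGroup.FG F := Module.Finite.iff_addGroup_fg.1 inferInstance
  obtain ⟨Y, hY⟩ := exists_lift_class hG D q hsurj hπ Kh Z z e' he' p' (by
      intro g x h
      have h1 : ke.symm ⟨ρ g x, h⟩ = τ g (ke.symm x) := by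
        rw [AddEquiv.symm_apply_eq]
        apply Subtype.ext
        rw [hke, hi, ← hke, AddEquiv.apply_symm_apply]
      change vl (p (ke.symm ⟨ρ g x, h⟩)) = g • vl (p (ke.symm x))
      rw [h1]
      exact hp g _)
    (by
      intro x
      obtain ⟨y, rfl⟩ := ke.surjective x
      change vl (e (i y) - ib Kh R' (f (i y))) = 1 ⊗ₜ (1 ⊗ₜ vl (p (ke.symm (ke y))))
      rw [AddEquiv.symm_apply_apply]
      have h1 : e (i y) = ib Kh R' (pR y) := hpK (ke y)
      have h2 : pR y = ib K Kh (p y) + f (i y) := addUnits_ext (hpf y)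
      rw [h1, h2, map_add, add_sub_cancel_right]
      rfl)
  exact ⟨Y.cl, hY⟩

end K965.H1Compl
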