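import Mathlib.RingTheory.Unramified.LocalStructure
import Mathlib.RingTheory.Polynomial.UniqueFactorization
import Mathlib.FieldTheory.Minpoly.IsIntegrallyClosed
import Mathlib.RingTheory.DiscreteValuationRing.TFAE
import Mathlib.RingTheory.LocalRing.ResidueField.Basic
import Mathlib.RingTheory.Localization.LocalizationLocalization
import Mathlib.RingTheory.Flat.TorsionFree

/-!
# The function field of a smooth variety is the residue field of a discrete valuation ring of a rational function field
-/

set_option autoImplicit false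
universe u
open Polynomial

namespace K965.Ret

theorem exists_hypersurface (k : Type u) [Field k] (H : Type u) [CommRing H] [IsDomain H] [Algebra k H]
    [Algebra.Smooth k H] (K : Type u) [Field K] [Algebra H K] [IsFractionRing H K] [Algebra k K] [IsScalarTower k H K] :
    ∃ (n : ℕ) (ρ : MvPolynomial (Fin (n + 1)) k →ₐ[k] K) (F : MvPolynomial (Fin (n + 1)) k),
      Prime F ∧ ρ F = 0 ∧ (∀ a, ρ a = 0 → F ∣ a) ∧ ∀ z : K, ∃ a b, ρ b ≠ 0 ∧ z * ρ b = ρ a := by
  obtain ⟨f, hf, n, _, htow, hst⟩ := Algebra.IsSmoothAt.exists_isStandardEtale_mvPolynomial (R := k) (S := H)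
    (p := (⊥ : Ideal H))
  let R := MvPolynomial (Fin n) k
  let S := Localization.Away f
  have hf0 : f ≠ 0 := hf
  have hS : IsDomain S := IsLocalization.isDomain_localization (powers_le_nonZeroDivisors_of_noZeroDivisors hf0)
  -- `S → K`
  have hfu : ∀ y : Submonoid.powers f, IsUnit (algebraMap H K y) := by
    rintro ⟨_, m, rfl⟩
    simp only [map_pow]
    refine IsUnit.pow _ (IsUnit.mk0 _ ?_)
    rw [Ne, IsFractionRing.to_map_eq_zero_iff]
    exact hf0
  let j : S →+* K := IsLocalization.lift (M := Submonoid.powers f) (g := algebraMap H K) hfu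
  let _ : Algebra S K := j.toAlgebra
  have hHSK : IsScalarTower H S K := IsScalarTower.of_algebraMap_eq' (IsLocalization.lift_comp hfu).symm
  have hfrac : IsFractionRing S K := IsFractionRing.isFractionRing_of_isDomain_of_isLocalization (Submonoid.powers f) S K
  have hkSK : IsScalarTower k S K := by
    refine IsScalarTower.of_algebraMap_eq' ?_
    rw [IsScalarTower.algebraMap_eq k H K, IsScalarTower.algebraMap_eq H S K, RingHom.comp_assoc,
      ← IsScalarTower.algebraMap_eq k H S]
  let _ : Algebra R K := ((algebraMap S K).comp (algebraMap R S)).toAlgebra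
  have hRSK : IsScalarTower R S K := IsScalarTower.of_algebraMap_eq' rfl
  have hkRK : IsScalarTower k R K := by
    refine IsScalarTower.of_algebraMap_eq' ?_
    rw [IsScalarTower.algebraMap_eq R S K, RingHom.comp_assoc, ← IsScalarTower.algebraMap_eq k R S,
      IsScalarTower.algebraMap_eq k S K]
  -- injectivity
  have hRS : Function.Injective (algebraMap R S) := by
    have : Module.Flat R S := inferInstance
    have : Module.IsTorsionFree R S := inferInstance
    exact FaithfulSMul.algebraMap_injective R S
  have hRK : Function.Injective (algebraMap R K) := by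
    rw [IsScalarTower.algebraMap_eq R S K]
    exact (IsFractionRing.injective S K).comp hRS
  have hfRK : FaithfulSMul R K := (faithfulSMul_iff_algebraMap_injective R K).2 hRK
  have htRK : Module.IsTorsionFree R K := inferInstance
  obtain ⟨P⟩ := hst.nonempty_standardEtalePresentation
  set α : K := algebraMap S K P.x with hα
  have hint : IsIntegral R α := by
    refine ⟨P.f, P.monic_f, ?_⟩
    have h1 : aeval P.x P.f = 0 := P.hasMap.1
    rw [← aeval_def, hα, aeval_algebraMap_apply, h1, map_zero]
  let e : MvPolynomial (Fin (n + 1)) k ≃ₐ[k] R[X] := MvPolynomial.finSuccEquiv k n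
  let a₀ : R[X] →ₐ[k] K := (aeval (R := R) α).restrictScalars k
  have ha₀ : ∀ p : R[X], a₀ p = aeval α p := fun _ => rfl
  have hprime : Prime (minpoly R α) := minpoly.prime_of_isIntegrallyClosed hint
  refine ⟨n, a₀.comp (e : MvPolynomial (Fin (n + 1)) k →ₐ[k] R[X]), e.symm (minpoly R α), ?_, ?_, ?_, ?_⟩
  · exact (MulEquiv.prime_iff e.symm.toMulEquiv).2 hprime
  · change a₀ (e (e.symm _)) = 0
    rw [AlgEquiv.apply_symm_apply, ha₀, minpoly.aeval]
  · intro a ha
    have h1 : minpoly R α ∣ e a := minpoly.isIntegrallyClosed_dvd hint ha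
    have h2 := map_dvd e.symm h1
    rwa [AlgEquiv.symm_apply_apply] at h2
  · intro z
    have hx : ∀ s : S, ∃ (p q : R[X]), aeval α q ≠ 0 ∧ algebraMap S K s * aeval α q = aeval α p := by
      intro s
      obtain ⟨p, m, hp⟩ := P.exists_mul_aeval_x_g_pow_eq_aeval_x s
      refine ⟨p, P.g ^ m, ?_, ?_⟩
      · rw [hα, aeval_algebraMap_apply, map_pow]
        exact ((P.hasMap.2.pow m).map (algebraMap S K)).ne_zero
      · rw [hα, aeval_algebraMap_apply, aeval_algebraMap_apply, ← hp, map_mul, map_pow]
    obtain ⟨s, t, ht, rfl⟩ := IsFractionRing.div_surjective (A := S) z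
    obtain ⟨p, q, hq, hpq⟩ := hx s
    obtain ⟨p', q', hq', hpq'⟩ := hx t
    have ht0 : algebraMap S K t ≠ 0 := by
      rw [Ne, IsFractionRing.to_map_eq_zero_iff]
      exact nonZeroDivisors.ne_zero ht
    have hp' : aeval α p' ≠ 0 := by
      rw [← hpq']
      exact mul_ne_zero ht0 hq'
    refine ⟨e.symm (p * q'), e.symm (p' * q), ?_, ?_⟩
    · change a₀ (e (e.symm _)) ≠ 0
      rw [AlgEquiv.apply_symm_apply, ha₀, map_mul]
      exact mul_ne_zero hp' hq
    · change _ * a₀ (e (e.symm _)) = a₀ (e (e.symm _))
      rw [AlgEquiv.apply_symm_apply, AlgEquiv.apply_symm_apply, ha₀, ha₀, map_mul, map_mul, ← hpq, ← hpq']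
      field_simp

end K965.Ret
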