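import Mathlib.Algebra.Module.PID
import Mathlib.GroupTheory.GroupAction.Defs
import Mathlib.GroupTheory.GroupAction.Quotient
import Mathlib.LinearAlgebra.FreeModule.Finite.Basic
import Mathlib.LinearAlgebra.FreeModule.PID
import Mathlib.RingTheory.Noetherian.Basic

/-!
# Permutation resolutions of lattices with an action of a finite group

* `exists_X`: a finite `G`-set of functionals on `M` generating the invariants of all subgroups.
* `exists_choice`: equivariant families of functionals are equivariant combinations of it.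
* `LX X`: the permutation lattice; `jX φ : M →+ LX X`; `exists_quot`: the quotient lattice.
-/

set_option autoImplicit false
universe u

namespace K965.LatX

variable {G : Type} [Group G] {M : Type} [AddCommGroup M] [DistribMulAction G M]

/-- `φ : X → M^∨` is `G`-equivariant and generates all invariants -/
structure IsRes (G : Type) [Group G] (M : Type) [AddCommGroup M] [DistribMulAction G M] {X : Type} [Fintype X]
    [MulAction G X] (φ : X → M →+ ℤ) : Prop where
  eqv : ∀ (g : G) (x : X) (m : M), φ (g • x) m = φ x (g⁻¹ • m)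
  gen : ∀ (H : Subgroup G) (d : M →+ ℤ), (∀ h ∈ H, ∀ m, d (h • m) = d m) →
    ∃ c : X → ℤ, (∀ h ∈ H, ∀ x, c (h • x) = c x) ∧ ∀ m, d m = ∑ x, c x * φ x m

/-- the contragredient action -/
def dact (g : G) (φ : M →+ ℤ) : M →+ ℤ := φ.comp (DistribSMul.toAddMonoidHom M g⁻¹)

lemma dact_apply (g : G) (φ : M →+ ℤ) (m : M) : dact g φ m = φ (g⁻¹ • m) := rfl

lemma dact_mul (g h : G) (φ : M →+ ℤ) : dact (g * h) φ = dact g (dact h φ) := by
  ext m
  rw [dact_apply, dact_apply, dact_apply, mul_inv_rev, mul_smul]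

lemma dact_one (φ : M →+ ℤ) : dact (1 : G) φ = φ := by
  ext m
  rw [dact_apply, inv_one, one_smul]

/-- the invariants -/
def inv (H : Subgroup G) : Submodule ℤ (M →+ ℤ) where
  carrier := {d | ∀ h ∈ H, ∀ m, d (h • m) = d m}
  add_mem' := fun {a b} ha hb h hh m => by rw [AddMonoidHom.add_apply, AddMonoidHom.add_apply, ha h hh, hb h hh]
  zero_mem' := fun h hh m => rfl
  smul_mem' := fun n d hd h hh m => by
    rw [AddMonoidHom.smul_apply, AddMonoidHom.smul_apply, hd h hh]

lemma fg_dual [Module.Finite ℤ M] : IsNoetherian ℤ (M →+ ℤ) := by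
  have h1 : IsNoetherian ℤ (M →ₗ[ℤ] ℤ) := inferInstance
  let e : (M →+ ℤ) ≃ₗ[ℤ] (M →ₗ[ℤ] ℤ) := (addMonoidHomLequivInt ℤ)
  exact isNoetherian_of_linearEquiv e.symm

theorem exists_X [Finite G] [Module.Finite ℤ M] :
    ∃ (X : Type) (_ : Fintype X) (_ : MulAction G X) (φ : X → M →+ ℤ), IsRes G M φ := by
  classical
  have hN : IsNoetherian ℤ (M →+ ℤ) := fg_dual
  have hfg : ∀ H : Subgroup G, ∃ S : Finset (M →+ ℤ), Submodule.span ℤ (S : Set (M →+ ℤ)) = inv (M := M) H :=
    fun H => (IsNoetherian.noetherian (inv (M := M) H))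
  choose S hS using hfg
  let F : Set (M →+ ℤ) := {ψ | ∃ (g : G) (H : Subgroup G), ∃ s ∈ S H, ψ = dact g s}
  have hfin : F.Finite := by
    have h1 : F ⊆ ⋃ (g : G), ⋃ (H : Subgroup G), (dact g) '' (S H : Set (M →+ ℤ)) := by
      rintro ψ ⟨g, H, s, hs, rfl⟩
      exact Set.mem_iUnion.2 ⟨g, Set.mem_iUnion.2 ⟨H, s, hs, rfl⟩⟩
    refine Set.Finite.subset ?_ h1
    exact Set.finite_iUnion fun g => Set.finite_iUnion fun H => (S H).finite_toSet.image _
  have hstab : ∀ (g : G) (ψ : M →+ ℤ), ψ ∈ F → dact g ψ ∈ F := by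
    rintro g ψ ⟨g', H, s, hs, rfl⟩
    exact ⟨g * g', H, s, hs, (dact_mul g g' s).symm⟩
  let X : Type := F
  let _ : Fintype X := hfin.fintype
  let _ : MulAction G X :=
    { smul := fun g x => ⟨dact g x.1, hstab g x.1 x.2⟩
      one_smul := fun x => Subtype.ext (dact_one x.1)
      mul_smul := fun g h x => Subtype.ext (dact_mul g h x.1) }
  have hsm : ∀ (g : G) (x : X), (g • x).1 = dact g x.1 := fun g x => rfl
  refine ⟨X, inferInstance, inferInstance, fun x => x.1, ?_, ?_⟩
  · intro g x m
    rfl
  · intro H d hd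
    have hd' : d ∈ Submodule.span ℤ (S H : Set (M →+ ℤ)) := by
      rw [hS H]
      exact hd
    have key : ∀ d' ∈ Submodule.span ℤ (S H : Set (M →+ ℤ)), ∃ c : X → ℤ, (∀ h ∈ H, ∀ x, c (h • x) = c x) ∧
        ∀ m, d' m = ∑ x, c x * x.1 m := by
      intro d' hd'
      induction hd' using Submodule.span_induction with
      | mem s hs =>
        have hsF : s ∈ F := ⟨1, H, s, hs, (dact_one s).symm⟩
        have hsinv : s ∈ inv (M := M) H := by
          rw [← hS H]
          exact Submodule.subset_span hs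
        refine ⟨Pi.single ⟨s, hsF⟩ 1, ?_, ?_⟩
        · intro h hh x
          rw [Pi.single_apply, Pi.single_apply]
          congr 1
          apply propext
          have h1 : dact h s = s := by
            ext m
            rw [dact_apply]
            exact hsinv h⁻¹ (H.inv_mem hh) m
          constructor
          · intro hx
            apply Subtype.ext
            have h2 := congrArg Subtype.val hx
            rw [hsm] at h2
            have h3 := congrArg (dact h⁻¹) h2
            rw [← dact_mul, inv_mul_cancel, dact_one] at h3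
            rw [h3]
            have h4 := congrArg (dact h⁻¹) h1
            rw [← dact_mul, inv_mul_cancel, dact_one] at h4
            exact h4.symm
          · rintro rfl
            apply Subtype.ext
            rw [hsm]
            exact h1
        · intro m
          rw [Finset.sum_eq_single (⟨s, hsF⟩ : X)]
          · rw [Pi.single_eq_same, one_mul]
          · intro x _ hx
            rw [Pi.single_eq_of_ne hx, zero_mul]
          · intro h
            exact absurd (Finset.mem_univ _) h
      | zero => exact ⟨0, fun _ _ _ => rfl, fun m => by simp⟩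
      | add a b _ _ ha hb =>
        obtain ⟨c, hc, hc'⟩ := ha
        obtain ⟨c', hc1, hc1'⟩ := hb
        refine ⟨c + c', fun h hh x => by simp only [Pi.add_apply, hc h hh, hc1 h hh], fun m => ?_⟩
        rw [AddMonoidHom.add_apply, hc', hc1', ← Finset.sum_add_distrib]
        simp only [Pi.add_apply, add_mul]
      | smul n a _ ha =>
        obtain ⟨c, hc, hc'⟩ := ha
        refine ⟨n • c, fun h hh x => by simp only [Pi.smul_apply, hc h hh], fun m => ?_⟩
        rw [AddMonoidHom.smul_apply, hc', Finset.smul_sum]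
        simp only [Pi.smul_apply, smul_eq_mul, mul_assoc]
    exact key d hd'

section choice

variable {X : Type} [Fintype X] [MulAction G X] {φ : X → M →+ ℤ}

/-- Equivariant families of functionals. -/
theorem IsRes.exists_choice (hφ : IsRes G M φ) {Q : Type u} [MulAction G Q] (D : Q → M →+ ℤ)
    (hD : ∀ (g : G) (q : Q) (m : M), D (g • q) m = D q (g⁻¹ • m)) :
    ∃ c : Q → X → ℤ, (∀ (g : G) q x, c (g • q) (g • x) = c q x) ∧ ∀ q m, D q m = ∑ x, c q x * φ x m := by
  classical
  have h0 : ∀ p : Q, ∃ c : X → ℤ, (∀ h ∈ MulAction.stabilizer G p, ∀ x, c (h • x) = c x) ∧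
      ∀ m, D p m = ∑ x, c x * φ x m := by
    intro p
    apply hφ.gen
    intro h hh m
    have h1 : h⁻¹ • p = p := by
      have h2 : h • p = p := hh
      rw [inv_smul_eq_iff, h2]
    have h3 := hD h⁻¹ p m
    rw [h1, inv_inv] at h3
    exact h3.symm
  choose c₀ hc₀ hc₀' using h0
  let r : Q → Q := fun q => (Quotient.mk (MulAction.orbitRel G Q) q).out
  have hr : ∀ q, ∃ g : G, g • r q = q := by
    intro q
    have h1 : (MulAction.orbitRel G Q).r ((Quotient.mk (MulAction.orbitRel G Q) q).out) q :=
      Quotient.mk_out (s := MulAction.orbitRel G Q) q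
    have h2 : r q ∈ MulAction.orbit G q := h1
    obtain ⟨g, hg⟩ := h2
    refine ⟨g⁻¹, ?_⟩
    rw [inv_smul_eq_iff]
    exact hg.symm
  choose t ht using hr
  have hrg : ∀ (g : G) q, r (g • q) = r q := by
    intro g q
    have : Quotient.mk (MulAction.orbitRel G Q) (g • q) = Quotient.mk (MulAction.orbitRel G Q) q := by
      apply Quotient.sound
      exact ⟨g, rfl⟩
    simp only [r, this]
  refine ⟨fun q x => c₀ (r q) ((t q)⁻¹ • x), ?_, ?_⟩
  · intro g q x
    dsimp only
    rw [hrg]
    have h1 : (t (g • q))⁻¹ * g * t q ∈ MulAction.stabilizer G (r q) := by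
      rw [MulAction.mem_stabilizer_iff, mul_smul, mul_smul, ht, inv_smul_eq_iff]
      have h2 := ht (g • q)
      rw [hrg] at h2
      exact h2.symm
    have h2 := hc₀ (r q) _ h1 ((t q)⁻¹ • x)
    rw [← h2]
    congr 1
    rw [mul_smul, mul_smul, smul_inv_smul]
  · intro q m
    have h1 : D q m = D (r q) ((t q)⁻¹ • m) := by
      rw [← hD, ht]
    rw [h1, hc₀' (r q)]
    refine Fintype.sum_equiv (MulAction.toPerm (t q)) _ _ (fun x => ?_)
    change _ = c₀ (r q) ((t q)⁻¹ • t q • x) * φ (t q • x) m
    rw [inv_smul_smul, hφ.eqv]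

end choice

section LX

/-- the permutation lattice -/
def LX (X : Type) : Type := X → ℤ

variable {X : Type}

instance : AddCommGroup (LX X) := inferInstanceAs (AddCommGroup (X → ℤ))

lemma LX.add_apply (a b : LX X) (x : X) : (a + b) x = a x + b x := rfl

lemma LX.zsmul_apply (n : ℤ) (b : LX X) (x : X) : (n • b) x = n * b x := rfl

instance [MulAction G X] : DistribMulAction G (LX X) where
  smul g l := fun x => l (g⁻¹ • x)
  one_smul l := by
    funext x
    change l ((1 : G)⁻¹ • x) = l x
    rw [inv_one, one_smul]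
  mul_smul g h l := by
    funext x
    change l ((g * h)⁻¹ • x) = l (h⁻¹ • g⁻¹ • x)
    rw [mul_inv_rev, mul_smul]
  smul_zero g := rfl
  smul_add g a b := rfl

lemma LX.smul_apply [MulAction G X] (g : G) (l : LX X) (x : X) : (g • l) x = l (g⁻¹ • x) := rfl

/-- the basis elements -/
noncomputable def dl [DecidableEq X] (x : X) : LX X := Pi.single (M := fun _ => ℤ) x 1

lemma smul_dl [DecidableEq X] [MulAction G X] (g : G) (x : X) : g • (dl x : LX X) = dl (g • x) := by
  funext y
  rw [LX.smul_apply]
  change Pi.single (M := fun _ => ℤ) x 1 (g⁻¹ • y) = Pi.single (M := fun _ => ℤ) (g • x) 1 y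
  rw [Pi.single_apply, Pi.single_apply]
  congr 1
  rw [inv_smul_eq_iff]

lemma eq_sum_dl [Fintype X] [DecidableEq X] (l : LX X) : l = ∑ x, l x • dl x := by
  have h1 : ∀ (s : Finset X) (f : X → LX X) (y : X), (∑ x ∈ s, f x) y = ∑ x ∈ s, f x y := by
    intro s f y
    exact Finset.sum_apply (M := fun _ => ℤ) y s f
  funext y
  rw [h1, Finset.sum_eq_single y]
  · rw [LX.zsmul_apply]
    change l y = l y * Pi.single (M := fun _ => ℤ) y 1 y
    rw [Pi.single_eq_same, mul_one]
  · intro x _ hx
    rw [LX.zsmul_apply]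
    change l x * Pi.single (M := fun _ => ℤ) x 1 y = 0
    rw [Pi.single_eq_of_ne hx.symm, mul_zero]
  · intro h
    exact absurd (Finset.mem_univ _) h

/-- homomorphisms out of the permutation lattice -/
lemma LX.hom_ext [Fintype X] [DecidableEq X] {U : Type*} [AddCommGroup U] {f f' : LX X →+ U}
    (h : ∀ x, f (dl x) = f' (dl x)) : f = f' := by
  ext1 l
  rw [eq_sum_dl l, map_sum, map_sum]
  refine Finset.sum_congr rfl fun x _ => ?_
  rw [map_zsmul, map_zsmul, h]

/-- homomorphisms out of the permutation lattice -/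
def LX.lift [Fintype X] {U : Type*} [AddCommGroup U] (w : X → U) : LX X →+ U where
  toFun l := ∑ x, l x • w x
  map_zero' := Finset.sum_eq_zero fun x _ => zero_smul ℤ _
  map_add' a b := by
    rw [← Finset.sum_add_distrib]
    refine Finset.sum_congr rfl fun x _ => ?_
    rw [LX.add_apply, add_smul]

lemma LX.lift_apply [Fintype X] {U : Type*} [AddCommGroup U] (w : X → U) (l : LX X) :
    LX.lift w l = ∑ x, l x • w x := rfl

lemma LX.lift_dl [Fintype X] [DecidableEq X] {U : Type*} [AddCommGroup U] (w : X → U) (x : X) :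
    LX.lift w (dl x) = w x := by
  rw [LX.lift_apply, Finset.sum_eq_single x]
  · change (Pi.single (M := fun _ => ℤ) x 1 x) • w x = w x
    rw [Pi.single_eq_same, one_smul]
  · intro y _ hy
    change (Pi.single (M := fun _ => ℤ) x 1 y) • w y = 0
    rw [Pi.single_eq_of_ne hy, zero_smul]
  · intro h
    exact absurd (Finset.mem_univ _) h

/-- the map from `M` -/
def jX (φ : X → M →+ ℤ) : M →+ LX X where
  toFun m := fun x => φ x m
  map_zero' := by
    funext x
    exact map_zero (φ x)
  map_add' a b := by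
    funext x
    exact map_add (φ x) a b

lemma jX_apply (φ : X → M →+ ℤ) (m : M) (x : X) : jX φ m x = φ x m := rfl

lemma jX_smul [Fintype X] [MulAction G X] {φ : X → M →+ ℤ} (hφ : IsRes G M φ) (g : G) (m : M) :
    jX φ (g • m) = g • jX φ m := by
  funext x
  rw [LX.smul_apply, jX_apply, jX_apply, hφ.eqv, inv_inv]

end LX

section quot

variable {r : ℕ} [DistribMulAction G (Fin r → ℤ)] {X : Type} [Fintype X] [MulAction G X]
  {φ : X → (Fin r → ℤ) →+ ℤ}

lemma exists_of_nsmul (hφ : IsRes G (Fin r → ℤ) φ) (n : ℤ) (hn : n ≠ 0) (l : LX X) (m : Fin r → ℤ)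
    (h : n • l = jX φ m) : ∃ m', jX φ m' = l := by
  have h1 : ∀ i : Fin r, ∃ c : X → ℤ, ∀ m : Fin r → ℤ, m i = ∑ x, c x * φ x m := by
    intro i
    obtain ⟨c, -, hc⟩ := hφ.gen ⊥ (Pi.evalAddMonoidHom (fun _ : Fin r => ℤ) i) (by
      intro h hh m
      rw [Subgroup.mem_bot] at hh
      rw [hh, one_smul])
    exact ⟨c, hc⟩
  choose c hc using h1
  let m' : Fin r → ℤ := fun i => ∑ x, c i x * l x
  have hm : m = n • m' := by
    funext i
    rw [hc i m, Pi.smul_apply, smul_eq_mul, Finset.mul_sum]
    refine Finset.sum_congr rfl fun x _ => ?_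
    rw [← jX_apply φ m x, ← h, LX.zsmul_apply]
    ring
  refine ⟨m', ?_⟩
  funext x
  have h2 := congrFun h x
  rw [LX.zsmul_apply, hm, map_zsmul, LX.zsmul_apply] at h2
  exact (mul_left_cancel₀ hn h2).symm

/-- The quotient lattice. -/
theorem exists_quot (hφ : IsRes G (Fin r → ℤ) φ) :
    ∃ (s : ℕ) (_ : DistribMulAction G (Fin s → ℤ)) (π : LX X →+ (Fin s → ℤ)), Function.Surjective π ∧
      (∀ l, π l = 0 ↔ ∃ m, jX φ m = l) ∧ ∀ (g : G) l, π (g • l) = g • π l := by
  classical
  let K : Submodule ℤ (LX X) := (jX φ).toIntLinearMap.range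
  have hK : ∀ l, l ∈ K ↔ ∃ m, jX φ m = l := fun l => Iff.rfl
  have hfin0 : Module.Finite ℤ (LX X) := inferInstanceAs (Module.Finite ℤ (X → ℤ))
  have hfin : Module.Finite ℤ (LX X ⧸ K) := inferInstance
  have htf : Module.IsTorsionFree ℤ (LX X ⧸ K) := by
    refine Module.IsTorsionFree.of_smul_eq_zero fun n q h => ?_
    obtain ⟨l, rfl⟩ := Submodule.mkQ_surjective K q
    by_cases hn : n = 0
    · exact Or.inl hn
    · refine Or.inr ?_
      rw [← map_smul, Submodule.mkQ_apply, Submodule.Quotient.mk_eq_zero, hK] at h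
      obtain ⟨m, hm⟩ := h
      rw [Submodule.mkQ_apply, Submodule.Quotient.mk_eq_zero, hK]
      exact exists_of_nsmul hφ n hn l m hm.symm
  have hfree : Module.Free ℤ (LX X ⧸ K) := Module.free_of_finite_type_torsion_free'
  let b := Module.finBasis ℤ (LX X ⧸ K)
  let ε : (LX X ⧸ K) ≃ₗ[ℤ] (Fin (Module.finrank ℤ (LX X ⧸ K)) → ℤ) := b.equivFun
  let π : LX X →+ (Fin (Module.finrank ℤ (LX X ⧸ K)) → ℤ) := (ε.toLinearMap.comp K.mkQ).toAddMonoidHom
  have hπs : Function.Surjective π := ε.surjective.comp (Submodule.mkQ_surjective K)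
  have hπ0 : ∀ l, π l = 0 ↔ ∃ m, jX φ m = l := by
    intro l
    rw [← hK]
    change ε (K.mkQ l) = 0 ↔ _
    rw [map_eq_zero_iff ε ε.injective, Submodule.mkQ_apply, Submodule.Quotient.mk_eq_zero]
  have hπg : ∀ (g : G) l l', π l = π l' → π (g • l) = π (g • l') := by
    intro g l l' h
    rw [← sub_eq_zero, ← map_sub, ← smul_sub]
    rw [← sub_eq_zero, ← map_sub, hπ0] at h
    obtain ⟨m, hm⟩ := h
    rw [hπ0]
    exact ⟨g • m, by rw [jX_smul hφ, hm]⟩
  have hinv : ∀ n, π (Function.surjInv hπs n) = n := Function.surjInv_eq hπs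
  have hact : ∀ (g : G) l, π (g • Function.surjInv hπs (π l)) = π (g • l) := fun g l => hπg g _ _ (hinv _)
  refine ⟨_, { smul := fun g n => π (g • Function.surjInv hπs n)
               one_smul := fun n => ?h1
               mul_smul := fun g h n => ?h2
               smul_zero := fun g => ?h3
               smul_add := fun g a b => ?h4 }, π, hπs, hπ0, fun g l => (hact g l).symm⟩
  case h1 =>
    change π ((1 : G) • Function.surjInv hπs n) = n
    rw [one_smul, hinv]
  case h2 =>
    change π ((g * h) • Function.surjInv hπs n) = π (g • Function.surjInv hπs (π (h • Function.surjInv hπs n)))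
    rw [hact, mul_smul]
  case h3 =>
    change π (g • Function.surjInv hπs 0) = 0
    have := hact g 0
    rw [map_zero, smul_zero, map_zero] at this
    exact this
  case h4 =>
    change π (g • Function.surjInv hπs (a + b)) = π (g • Function.surjInv hπs a) + π (g • Function.surjInv hπs b)
    rw [← map_add, ← smul_add]
    apply hπg
    rw [map_add, hinv, hinv, hinv]

end quot

end K965.LatX
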