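import Groth.Agent.MultTori.K964.SecLift
import Groth.Agent.MultTori.K964.CharLift
import Groth.Agent.MultTori.K965.ApproxChar

/-!
# Equivariant lifts to the extension attached to a cocycle when `H¹(G, Hom (F, Bˣ)) = 0`
-/

set_option autoImplicit false
universe u

open CategoryTheory CategoryTheory.Limits MonoidalCategory CartesianMonoidalCategory AlgebraicGeometry
open TensorProduct

namespace K965.LiftH

open K965.Gal K964.UC K964.CharExt K964.AffPt K964.AffYon K964.Pt K964.TorsY K964.Cocyc K964.ExtE K964.BcPt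
open K964.DictBc K964.Desc K964.LiftL K964.FreeG K964.CharLift K964.CharSurj K964.PermLift K964.SimF K964.SimP K964.Shap
open K964.Coh K964.Van
open K965.Pts (sp mp)
open scoped MonObj GrpObj

variable {A B : Type u} [CommRing A] [CommRing B] [Algebra A B] {G : Type} [Group G]
    [MulSemiringAction G B] [SMulCommClass G A B]
    {M : Over (Spec (CommRingCat.of A))} [GrpObj M] {Λ : Type} [AddCommGroup Λ] [DistribMulAction G Λ]
    {A' : Type u} [CommRing A'] [Algebra A A']

/-- the representation on the extension -/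
noncomputable def eRep (D : K965.Dict A B G M Λ) (c : Fam M A') : Representation ℤ G (E D c) where
  toFun g := (AddMonoidHom.mk' (fun z : E D c => (⟨(g • z.1.1, ua A B A' g z.1.2), smul_mem_E z.2 g⟩ : E D c))
    (fun z z' => Subtype.ext (Prod.ext (smul_add g z.1.1 z'.1.1) (map_add (ua A B A' g) z.1.2 z'.1.2)))).toIntLinearMap
  map_one' := LinearMap.ext fun z => Subtype.ext (Prod.ext (one_smul G z.1.1) (ua_one A' z.1.2))
  map_mul' g h := LinearMap.ext fun z => Subtype.ext (Prod.ext (mul_smul g h z.1.1) (ua_mul A' g h z.1.2))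

/-- Lifts from vanishing of `H¹(G, Hom (F, Bˣ))`. -/
theorem exists_lift (D : K965.Dict A B G M Λ) (c : Fam M A') [Module.FaithfullyFlat A A'] [Module.Flat A B]
    (hPic : Subsingleton (CommRing.Pic B)) {F : Type} [AddCommGroup F] [Module.Free ℤ F] {ρ : Representation ℤ G F}
    (q : F →ₗ[ℤ] Λ) (hq : GLat.IsEquivariant ρ (aRep G Λ) q) (h1 : H1Z (Representation.linHom ρ (uRep G B))) :
    ∃ e : F →+ Additive (A' ⊗[A] B)ˣ, Lift D ρ q.toAddMonoidHom c e := by
  let i : Additive Bˣ →ₗ[ℤ] E D c := (AddMonoidHom.mk' (fun b : Additive Bˣ => (⟨(0, ib A A' b), ib_mem_E D c b⟩ : E D c))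
    (fun b b' => Subtype.ext (Prod.ext (add_zero (0 : Λ)).symm (map_add (ib A A') b b')))).toIntLinearMap
  let π : E D c →ₗ[ℤ] Λ := ((AddMonoidHom.fst _ _).comp (E D c).subtype).toIntLinearMap
  have hi : GLat.IsEquivariant (uRep G B) (eRep D c) i := fun g b =>
    Subtype.ext (Prod.ext (smul_zero g).symm (ib_ug A' g b))
  have hπ : GLat.IsEquivariant (eRep D c) (aRep G Λ) π := fun g z => rfl
  have hinj : Function.Injective i := fun b b' h => ib_injective (congrArg (fun z => z.1.2) h)
  have hsurj : Function.Surjective π := fun m => by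
    obtain ⟨d, hd⟩ := exists_mem D c hPic m
    exact ⟨⟨(m, d), hd⟩, rfl⟩
  have hex : LinearMap.range i = LinearMap.ker π := by
    ext z
    constructor
    · rintro ⟨b, rfl⟩
      rfl
    · intro hz
      obtain ⟨⟨m, d⟩, hd⟩ := z
      have hm : m = 0 := hz
      subst hm
      obtain ⟨b, rfl⟩ := exists_of_mem_zero hd
      exact ⟨b, rfl⟩
  obtain ⟨u, hu, hu'⟩ := lift_of_H1Z i hi π hπ hinj hsurj hex h1 q hq
  refine ⟨((AddMonoidHom.snd _ _).comp (E D c).subtype).comp u.toAddMonoidHom, ?_, ?_⟩
  · intro g x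
    have h2 := congrArg (fun z : E D c => vl z.1.2) (hu g x)
    exact h2
  · intro x
    have h2 : ((q x : Λ), (u x).1.2) = (u x).1 := Prod.ext (hu' x).symm rfl
    have h3 := (u x).2
    rw [← h2] at h3
    exact h3

end K965.LiftH
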