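import Mathlib.Algebra.Ring.Action.Basic
import Mathlib.Algebra.Ring.Subring.Basic
import Mathlib.Algebra.Ring.GeomSum
import Mathlib.Algebra.Algebra.Basic
import Mathlib.Algebra.BigOperators.Ring.Finset
import Mathlib.GroupTheory.GroupAction.DomAct.Basic
import Mathlib.LinearAlgebra.Basis.Defs
import Mathlib.LinearAlgebra.Basis.Basic
import Mathlib.Tactic.LinearCombination
import Mathlib.Tactic.Ring
import Mathlib.Tactic.Abel

/-!
# Characters with values near one extend: successive approximation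

`CompOrd G S π`: `S` is a complete separated `G`-stable order in `R`. `extend`: for lattices `j : P → F` with
`ρ : F → P`, `ρ ∘ j = m`, and `θ` with `m Σ g θ = 1`, every equivariant `P → Rˣ` with values close to one extends to
an equivariant `F → Rˣ`.
-/

set_option autoImplicit false
universe u

namespace K965.Newton

variable {R : Type u} [CommRing R]

/-- `π^n S` -/
def I (S : Subring R) (π : R) (n : ℕ) : AddSubgroup R where
  carrier := {x | ∃ s ∈ S, x = π ^ n * s}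
  zero_mem' := ⟨0, S.zero_mem, by rw [mul_zero]⟩
  add_mem' := by
    rintro _ _ ⟨s, hs, rfl⟩ ⟨t, ht, rfl⟩
    exact ⟨s + t, S.add_mem hs ht, by rw [mul_add]⟩
  neg_mem' := by
    rintro _ ⟨s, hs, rfl⟩
    exact ⟨-s, S.neg_mem hs, by rw [mul_neg]⟩

variable {S : Subring R} {π : R}

lemma mem_I {n : ℕ} {x : R} : x ∈ I S π n ↔ ∃ s ∈ S, x = π ^ n * s := Iff.rfl

lemma mem_I_zero {x : R} : x ∈ I S π 0 ↔ x ∈ S := by
  rw [mem_I]
  constructor
  · rintro ⟨s, hs, rfl⟩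
    rwa [pow_zero, one_mul]
  · intro h
    exact ⟨x, h, by rw [pow_zero, one_mul]⟩

lemma I_mul {n k : ℕ} {x y : R} (hx : x ∈ I S π n) (hy : y ∈ I S π k) : x * y ∈ I S π (n + k) := by
  obtain ⟨s, hs, rfl⟩ := hx
  obtain ⟨t, ht, rfl⟩ := hy
  exact ⟨s * t, S.mul_mem hs ht, by ring⟩

lemma S_mul_I {n : ℕ} {s x : R} (hs : s ∈ S) (hx : x ∈ I S π n) : s * x ∈ I S π n := by
  obtain ⟨t, ht, rfl⟩ := hx
  exact ⟨s * t, S.mul_mem hs ht, by ring⟩

lemma I_mono (hπ : π ∈ S) {n k : ℕ} (h : n ≤ k) {x : R} (hx : x ∈ I S π k) : x ∈ I S π n := by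
  obtain ⟨s, hs, rfl⟩ := hx
  refine ⟨π ^ (k - n) * s, S.mul_mem (S.pow_mem hπ _) hs, ?_⟩
  rw [← mul_assoc, ← pow_add, Nat.add_sub_cancel' h]

lemma theta_mul {θ : R} {c n : ℕ} (hθ : π ^ c * θ ∈ S) {x : R} (hx : x ∈ I S π (n + c)) : θ * x ∈ I S π n := by
  obtain ⟨s, hs, rfl⟩ := hx
  refine ⟨(π ^ c * θ) * s, S.mul_mem hθ hs, ?_⟩
  rw [pow_add]
  ring

variable {G : Type} [Group G] [MulSemiringAction G R]

/-- a complete separated `G`-stable order -/
structure CompOrd (G : Type) [Group G] [MulSemiringAction G R] (S : Subring R) (π : R) : Prop where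
  pi_mem : π ∈ S
  sep : ∀ x, (∀ n, x ∈ I S π n) → x = 0
  comp : ∀ f : ℕ → R, (∀ n, f (n + 1) - f n ∈ I S π n) → ∃ x, ∀ n, x - f n ∈ I S π n
  denom : ∀ x, ∃ n, π ^ n * x ∈ S
  smul : ∀ (g : G) s, s ∈ S → g • s ∈ S
  smul_pi : ∀ g : G, g • π = π

variable (hS : CompOrd G S π)
include hS

lemma CompOrd.smul_I {n : ℕ} {x : R} (g : G) (hx : x ∈ I S π n) : g • x ∈ I S π n := by
  obtain ⟨s, hs, rfl⟩ := hx
  exact ⟨g • s, hS.smul g s hs, by rw [smul_mul', smul_pow', hS.smul_pi]⟩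

lemma CompOrd.jac {s : R} (hs : s ∈ S) : ∃ t ∈ S, (1 + π * s) * t = 1 := by
  let f : ℕ → R := fun n => ∑ k ∈ Finset.range n, (-(π * s)) ^ k
  have hf : ∀ n, f (n + 1) - f n ∈ I S π n := by
    intro n
    have h1 : f (n + 1) - f n = (-(π * s)) ^ n := by
      simp only [f]
      rw [Finset.sum_range_succ]
      ring
    rw [h1]
    refine ⟨(-s) ^ n, S.pow_mem (S.neg_mem hs) _, ?_⟩
    rw [← mul_pow]
    congr 1
    ring
  obtain ⟨w, hw⟩ := hS.comp f hf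
  have hw0 : w ∈ S := by
    have h1 := hw 0
    rw [mem_I_zero] at h1
    simpa [f] using h1
  refine ⟨w, hw0, ?_⟩
  rw [← sub_eq_zero]
  apply hS.sep
  intro n
  have hgeo : (1 + π * s) * f n - 1 = - (-(π * s)) ^ n := by
    have h1 := geom_sum_mul (-(π * s)) n
    have h2 : (1 + π * s) * f n = - ((∑ i ∈ Finset.range n, (-(π * s)) ^ i) * (-(π * s) - 1)) := by
      simp only [f]
      ring
    rw [h2, h1]
    ring
  have h1 : (1 + π * s) * w - 1 = (1 + π * s) * (w - f n) + - (-(π * s)) ^ n := by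
    rw [← hgeo]
    ring
  rw [h1]
  refine (I S π n).add_mem (S_mul_I (S.add_mem S.one_mem (S.mul_mem hS.pi_mem hs)) (hw n)) ((I S π n).neg_mem ?_)
  refine ⟨(-s) ^ n, S.pow_mem (S.neg_mem hs) _, ?_⟩
  rw [← mul_pow]
  congr 1
  ring

/-- the units congruent to one modulo `π^(n+1)` -/
def V (hS : CompOrd G S π) (n : ℕ) : AddSubgroup (Additive Rˣ) where
  carrier := {u | ((u.toMul : Rˣ) : R) - 1 ∈ I S π (n + 1)}
  zero_mem' := by
    change ((1 : Rˣ) : R) - 1 ∈ I S π (n + 1)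
    rw [Units.val_one, sub_self]
    exact (I S π (n + 1)).zero_mem
  add_mem' := by
    intro u v hu hv
    change ((u.toMul * v.toMul : Rˣ) : R) - 1 ∈ I S π (n + 1)
    have h1 : ((u.toMul * v.toMul : Rˣ) : R) - 1 = ((u.toMul : R) - 1) * ((v.toMul : R) - 1) + ((u.toMul : R) - 1) +
        ((v.toMul : R) - 1) := by
      rw [Units.val_mul]
      ring
    rw [h1]
    refine (I S π (n + 1)).add_mem ((I S π (n + 1)).add_mem ?_ hu) hv
    exact I_mono hS.pi_mem (by omega) (I_mul hu hv)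
  neg_mem' := by
    intro u hu
    change ((u.toMul⁻¹ : Rˣ) : R) - 1 ∈ I S π (n + 1)
    have hu' : (u.toMul : R) - 1 ∈ I S π (n + 1) := hu
    obtain ⟨s, hs, hs'⟩ := hu'
    obtain ⟨t, ht, ht'⟩ := hS.jac (S.mul_mem (S.pow_mem hS.pi_mem n) hs)
    have h1 : (u.toMul : R) = 1 + π * (π ^ n * s) := by
      rw [← mul_assoc, ← pow_succ', ← hs']
      ring
    have h2 : ((u.toMul⁻¹ : Rˣ) : R) = t := by
      rw [← h1] at ht'
      exact Units.inv_eq_of_mul_eq_one_right ht'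
    have h3 : ((u.toMul⁻¹ : Rˣ) : R) - 1 = (-t) * ((u.toMul : R) - 1) := by
      rw [h2, h1]
      linear_combination ht'
    rw [h3]
    exact S_mul_I (S.neg_mem ht) ⟨s, hs, hs'⟩

lemma mem_V {n : ℕ} {u : Additive Rˣ} : u ∈ V hS n ↔ ((u.toMul : Rˣ) : R) - 1 ∈ I S π (n + 1) := Iff.rfl

lemma val_mem_S {n : ℕ} {u : Additive Rˣ} (hu : u ∈ V hS n) : ((u.toMul : Rˣ) : R) ∈ S := by
  obtain ⟨s, hs, hs'⟩ := hu
  have h1 : ((u.toMul : Rˣ) : R) = π ^ (n + 1) * s + 1 := by rw [← hs']; ring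
  rw [h1]
  exact S.add_mem (S.mul_mem (S.pow_mem hS.pi_mem _) hs) S.one_mem

lemma V_mono {n k : ℕ} (h : n ≤ k) {u : Additive Rˣ} (hu : u ∈ V hS k) : u ∈ V hS n :=
  I_mono hS.pi_mem (by omega) hu

/-- congruent units -/
lemma sub_mem_V {n k : ℕ} {u v : Additive Rˣ} (hv : v ∈ V hS k)
    (h : ((u.toMul : Rˣ) : R) - ((v.toMul : Rˣ) : R) ∈ I S π (n + 1)) : u - v ∈ V hS n := by
  rw [mem_V]
  have h1 : (((u - v).toMul : Rˣ) : R) - 1 = (((-v).toMul : Rˣ) : R) * (((u.toMul : Rˣ) : R) - ((v.toMul : Rˣ) : R)) := by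
    change ((u.toMul / v.toMul : Rˣ) : R) - 1 = ((v.toMul⁻¹ : Rˣ) : R) * _
    rw [div_eq_mul_inv, Units.val_mul, mul_sub, Units.inv_mul, mul_comm]
  rw [h1]
  exact S_mul_I (val_mem_S hS ((V hS k).neg_mem hv)) h

lemma exists_unit {n : ℕ} {x : R} (hx : x ∈ I S π (n + 1)) : ∃ u ∈ V hS n, ((u.toMul : Rˣ) : R) = 1 + x := by
  obtain ⟨s, hs, rfl⟩ := hx
  obtain ⟨t, ht, ht'⟩ := hS.jac (S.mul_mem (S.pow_mem hS.pi_mem n) hs)
  have h1 : 1 + π ^ (n + 1) * s = 1 + π * (π ^ n * s) := by rw [pow_succ']; ring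
  have h2 : (1 + π ^ (n + 1) * s) * t = 1 := by rw [h1, ht']
  refine ⟨Additive.ofMul ⟨1 + π ^ (n + 1) * s, t, h2, by rw [mul_comm, h2]⟩, ?_, rfl⟩
  rw [mem_V]
  exact ⟨s, hs, by
    change 1 + π ^ (n + 1) * s - 1 = _
    ring⟩

lemma V_sep {u : Additive Rˣ} (h : ∀ n, u ∈ V hS n) : u = 0 := by
  apply Additive.toMul.injective
  ext
  rw [toMul_zero, Units.val_one, ← sub_eq_zero]
  apply hS.sep
  intro n
  exact I_mono hS.pi_mem (by omega) (h n)

/-- convergent products -/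
lemma V_comp (u : ℕ → Additive Rˣ) (hu : ∀ n, u n ∈ V hS n) :
    ∃ w, ∀ n, w - ∑ i ∈ Finset.range n, u i ∈ V hS n := by
  let a : ℕ → Additive Rˣ := fun n => ∑ i ∈ Finset.range n, u i
  have ha0 : a 0 = 0 := rfl
  have hasucc : ∀ n, a (n + 1) = a n + u n := fun n => Finset.sum_range_succ _ _
  have haV : ∀ n, a n ∈ V hS 0 := fun n => (V hS 0).sum_mem fun i _ => V_mono hS (Nat.zero_le i) (hu i)
  have hd : ∀ n, (((a (n + 1)).toMul : Rˣ) : R) - (((a n).toMul : Rˣ) : R) ∈ I S π (n + 1) := by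
    intro n
    have h1 : (((a (n + 1)).toMul : Rˣ) : R) - (((a n).toMul : Rˣ) : R) =
        (((a n).toMul : Rˣ) : R) * ((((u n).toMul : Rˣ) : R) - 1) := by
      rw [hasucc, toMul_add, Units.val_mul]
      ring
    rw [h1]
    exact S_mul_I (val_mem_S hS (haV n)) (hu n)
  obtain ⟨x, hx⟩ := hS.comp (fun n => (((a n).toMul : Rˣ) : R)) (fun n => I_mono hS.pi_mem (by omega) (hd n))
  have hx' : ∀ n, x - (((a n).toMul : Rˣ) : R) ∈ I S π (n + 1) := by
    intro n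
    have h1 : x - (((a n).toMul : Rˣ) : R) = (x - (((a (n + 1)).toMul : Rˣ) : R)) +
        ((((a (n + 1)).toMul : Rˣ) : R) - (((a n).toMul : Rˣ) : R)) := by ring
    rw [h1]
    exact (I S π (n + 1)).add_mem (hx (n + 1)) (hd n)
  have hx0 : x - 1 ∈ I S π 1 := hx' 0
  obtain ⟨w, hw, hwx⟩ := exists_unit hS (n := 0) hx0
  have hwx' : ((w.toMul : Rˣ) : R) = x := by rw [hwx]; ring
  refine ⟨w, fun n => sub_mem_V hS (haV n) ?_⟩
  rw [hwx']
  exact hx' n

/-- the action on units -/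
def ug (R : Type u) [CommRing R] {G : Type} [Group G] [MulSemiringAction G R] (g : G) : Additive Rˣ →+ Additive Rˣ :=
  (Units.map (MulSemiringAction.toRingHom G R g : R →* R)).toAdditive

omit hS in
lemma val_ug (g : G) (u : Additive Rˣ) : (((ug R g u).toMul : Rˣ) : R) = g • ((u.toMul : Rˣ) : R) := rfl

omit hS in
lemma ug_mul (g h : G) (u : Additive Rˣ) : ug R (g * h) u = ug R g (ug R h u) := by
  apply Additive.toMul.injective
  ext
  rw [val_ug, val_ug, val_ug, mul_smul]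

lemma ug_mem_V {n : ℕ} (g : G) {u : Additive Rˣ} (hu : u ∈ V hS n) : ug R g u ∈ V hS n := by
  rw [mem_V, val_ug]
  have h1 : g • ((u.toMul : Rˣ) : R) - 1 = g • (((u.toMul : Rˣ) : R) - 1) := by rw [smul_sub, smul_one]
  rw [h1]
  exact hS.smul_I g hu

end K965.Newton
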