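import Groth.Agent.MultTori.K965.RatRing
import Mathlib.FieldTheory.Finite.Basic
import Mathlib.Algebra.Category.Grp.Injective
import Mathlib.FieldTheory.IsAlgClosed.AlgebraicClosure
import Mathlib.GroupTheory.Divisible

/-!
# Surjectivity of norm maps over finite fields
-/

set_option autoImplicit false
universe u
open scoped TensorProduct

set_option linter.unusedSectionVars false

namespace K965.NormFin

open K965.Pts K965.Gal K965.Dict K965.Dic K965.EqRep
open K964.UC (mB mB_comp)

section trans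

variable {k B : Type u} [CommRing k] [CommRing B] [Algebra k B] {G : Type} [Group G] [Fintype G] [MulSemiringAction G B]
  [SMulCommClass G k B] (hG : IsGal k B G)

include hG in
/-- `G` is transitive on geometric points. -/
theorem exists_smul_eq {K : Type u} [CommRing K] [IsDomain K] [Algebra k K] (s s' : B →+* K)
    (hs : s.comp (algebraMap k B) = algebraMap k K) (hs' : s'.comp (algebraMap k B) = algebraMap k K) :
    ∃ g : G, ∀ b, s' b = s (g • b) := by
  classical
  obtain ⟨E, hE⟩ := exists_evs hG s hs (fun g : G => if g = 1 then (1 : K) else 0)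
  have h1 : ∀ h g : G, evs s hs (act k B K g (act k B K h⁻¹ E)) = if g = h then 1 else 0 := by
    intro h g
    rw [act_act, hE]
    simp [mul_inv_eq_one]
  have hsum : ∑ h : G, act k B K h⁻¹ E = 1 := by
    apply eq_of_evs hG s hs
    intro g
    rw [map_sum, map_sum]
    simp only [h1]
    simp
  have hmul : ∀ (h : G) (b : B), (1 ⊗ₜ[k] b) * act k B K h⁻¹ E = (s (h • b) ⊗ₜ[k] 1) * act k B K h⁻¹ E := by
    intro h b
    apply eq_of_evs hG s hs
    intro g
    rw [map_mul, map_mul, map_mul, map_mul, h1, act_tmul, act_tmul, evs_tmul, evs_tmul, smul_one, map_one]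
    by_cases hg : g = h
    · subst hg
      simp
    · simp [hg]
  have h2 : ∑ h : G, evs s' hs' (act k B K h⁻¹ E) = 1 := by
    rw [← map_sum, hsum, map_one]
  obtain ⟨h, hh⟩ : ∃ h : G, evs s' hs' (act k B K h⁻¹ E) ≠ 0 := by
    by_contra hne
    push Not at hne
    rw [Finset.sum_eq_zero (fun h _ => hne h)] at h2
    exact zero_ne_one h2
  refine ⟨h, fun b => ?_⟩
  have h3 := congrArg (evs s' hs') (hmul h b)
  rw [map_mul, map_mul, evs_tmul, evs_tmul, one_mul, map_one, mul_one] at h3
  exact mul_right_cancel₀ hh h3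

variable {N : Type} [AddCommGroup N] [DistribMulAction G N] {R : Type u} [CommRing R] [Algebra k R]

omit [Fintype G] in
lemma crHom_gr (s : B →+* R) (hs : s.comp (algebraMap k B) = algebraMap k R) (g : G)
    (hs' : (s.comp (gr k g)).comp (algebraMap k B) = algebraMap k R) (χ : cs k B G N R) (n : N) :
    crHom (s.comp (gr k g)) hs' χ n = crHom s hs χ (g • n) := by
  apply addUnits_ext
  rw [val_crHom, val_crHom, χ.2 g n, val_um]
  have h1 : ∀ z : R ⊗[k] B, evs (s.comp (gr k g)) hs' z = evs s hs (act k B R g z) := by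
    intro z
    induction z using TensorProduct.induction_on with
    | zero => simp
    | tmul r b =>
      rw [act_tmul, evs_tmul, evs_tmul]
      rfl
    | add x y hx hy => rw [map_add, map_add, map_add, hx, hy]
  exact h1 _

end trans

section solve

variable {L M : Type} [AddCommGroup L] [AddCommGroup M] (j : M →+ L) (ρ : L →+ M) (hρ : ∀ m, ρ (j m) = m)
  (htf : ∀ (n : ℤ) (l : L), n ≠ 0 → n • l = 0 → l = 0) (σL : L →+ L) (σM : M →+ M) (hj : ∀ m, j (σM m) = σL (j m))
  (k : ℕ) (hk : 0 < k) (hσ : ∀ l, (σL^[k]) l = l) (q : ℕ) (hq : 1 < q)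

include hj hρ htf hk hσ hq in
/-- `σ - q` is injective modulo `M` -/
lemma mem_of_sub (l : L) (h : ∃ m, j m = σL l - (q : ℤ) • l) : ∃ m, j m = l := by
  have h1 : ∀ n : ℕ, ∃ m, j m = σL^[n] l - (q ^ n : ℤ) • l := by
    intro n
    induction n with
    | zero => exact ⟨0, by simp⟩
    | succ n ih =>
      obtain ⟨m, hm⟩ := ih
      obtain ⟨m', hm'⟩ := h
      refine ⟨σM m + (q ^ n : ℤ) • m', ?_⟩
      rw [map_add, hj, hm, map_zsmul, hm', map_sub, map_zsmul, smul_sub, smul_smul, Function.iterate_succ_apply',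
        pow_succ]
      abel
  obtain ⟨m, hm⟩ := h1 k
  rw [hσ] at hm
  refine ⟨ρ l, ?_⟩
  have h2 : (1 - (q ^ k : ℤ)) • (l - j (ρ l)) = 0 := by
    have h3 : (1 - (q ^ k : ℤ)) • l = j m := by rw [sub_smul, one_smul, hm]
    have h4 : (1 - (q ^ k : ℤ)) • ρ l = m := by rw [← map_zsmul, h3, hρ]
    rw [smul_sub, h3, ← map_zsmul, h4, sub_self]
  have h3 : (1 - (q ^ k : ℤ)) ≠ 0 := by
    have h5 : 1 < q ^ k := Nat.one_lt_pow hk.ne' hq
    have h6 : (1 : ℤ) < (q : ℤ) ^ k := by exact_mod_cast h5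
    omega
  exact (sub_eq_zero.1 (htf _ _ h3 h2)).symm

omit [AddCommGroup L] [AddCommGroup M] in
lemma exists_zsmul {K : Type u} [Field K] [IsAlgClosed K] (x : Additive Kˣ) (n : ℤ) (h : n ≠ 0) : ∃ y, n • y = x := by
  obtain ⟨z, hz⟩ := IsAlgClosed.exists_pow_nat_eq (x.toMul : K) (Int.natAbs_pos.2 h)
  have hz0 : z ≠ 0 := by
    rintro rfl
    rw [zero_pow (Int.natAbs_pos.2 h).ne'] at hz
    exact (x.toMul).ne_zero hz.symm
  have h1 : n.natAbs • (Additive.ofMul (Units.mk0 z hz0)) = x := by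
    apply Additive.toMul.injective
    ext
    rw [toMul_nsmul, Units.val_pow_eq_pow_val]
    exact hz
  rcases Int.natAbs_eq n with hn | hn
  · exact ⟨Additive.ofMul (Units.mk0 z hz0), by rw [hn, natCast_zsmul]; exact h1⟩
  · exact ⟨-Additive.ofMul (Units.mk0 z hz0), by rw [hn, neg_zsmul, zsmul_neg, neg_neg, natCast_zsmul]; exact h1⟩

include hj hρ htf hk hσ hq in
/-- Lang's theorem for the kernel torus. -/
theorem exists_twist {K : Type u} [Field K] [IsAlgClosed K] (χ₀ : M →+ Additive Kˣ)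
    (hχ : ∀ m, χ₀ (σM m) = (q : ℤ) • χ₀ m) :
    ∃ p₀ : L →+ Additive Kˣ, (∀ m, p₀ (j m) = χ₀ m) ∧ ∀ l, p₀ (σL l) = (q : ℤ) • p₀ l := by
  let R : AddSubgroup L := j.range
  let p₁ : L →+ Additive Kˣ := χ₀.comp ρ
  have hp₁ : ∀ m, p₁ (j m) = χ₀ m := fun m => congrArg χ₀ (hρ m)
  let d : L →+ Additive Kˣ := p₁.comp σL - (q : ℤ) • p₁
  have hd : ∀ l, d l = p₁ (σL l) - (q : ℤ) • p₁ l := fun l => rfl
  let d' : L ⧸ R →+ Additive Kˣ := QuotientAddGroup.lift R d (by
    rintro _ ⟨m, rfl⟩
    change d (j m) = 0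
    rw [hd, ← hj, hp₁, hp₁, hχ, sub_self])
  let α₀ : L →+ L := σL - (q : ℤ) • AddMonoidHom.id L
  have hα₀ : ∀ l, α₀ l = σL l - (q : ℤ) • l := fun l => rfl
  let α : L ⧸ R →+ L ⧸ R := QuotientAddGroup.map R R α₀ (by
    rintro _ ⟨m, rfl⟩
    refine ⟨σM m - (q : ℤ) • m, ?_⟩
    rw [map_sub, map_zsmul, hj, hα₀])
  have hα : Function.Injective α := by
    rw [injective_iff_map_eq_zero]
    intro x hx
    obtain ⟨l, rfl⟩ := QuotientAddGroup.mk_surjective x
    have h1 : α₀ l ∈ R := (QuotientAddGroup.eq_zero_iff _).1 hx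
    rw [QuotientAddGroup.eq_zero_iff]
    exact mem_of_sub j ρ hρ htf σL σM hj k hk hσ q hq l h1
  choose dv hdv using fun (x : Additive Kˣ) (n : {n : ℤ // n ≠ 0}) => exists_zsmul x n.1 n.2
  let _ : DivisibleBy (Additive Kˣ) ℤ :=
    { div := fun x n => if h : n = 0 then 0 else dv x ⟨n, h⟩
      div_zero := fun x => dif_pos rfl
      div_cancel := fun {n} x hn => by
        rw [dif_neg hn]
        exact hdv x ⟨n, hn⟩ }
  obtain ⟨n', hn'⟩ := Module.Baer.extension_property_addMonoidHom (Module.Baer.of_divisible (Additive Kˣ)) α hα d'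
  refine ⟨p₁ - n'.comp (QuotientAddGroup.mk' R), ?_, ?_⟩
  · intro m
    have h1 : (QuotientAddGroup.mk' R) (j m) = 0 := (QuotientAddGroup.eq_zero_iff _).2 ⟨m, rfl⟩
    change p₁ (j m) - n' (QuotientAddGroup.mk' R (j m)) = χ₀ m
    rw [h1, map_zero, sub_zero, hp₁]
  · intro l
    have h1 : n' (α (QuotientAddGroup.mk' R l)) = d l := DFunLike.congr_fun hn' (QuotientAddGroup.mk' R l)
    have h2 : α (QuotientAddGroup.mk' R l) = QuotientAddGroup.mk' R (σL l) - (q : ℤ) • QuotientAddGroup.mk' R l := by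
      change QuotientAddGroup.mk' R (α₀ l) = _
      rw [hα₀, map_sub, map_zsmul]
    rw [h2, map_sub, map_zsmul, hd] at h1
    change p₁ (σL l) - n' (QuotientAddGroup.mk' R (σL l)) = (q : ℤ) • (p₁ l - n' (QuotientAddGroup.mk' R l))
    rw [zsmul_sub]
    rw [sub_eq_sub_iff_add_eq_add] at h1 ⊢
    rw [← h1, add_comm]

end solve

section main

variable {k B : Type u} [Field k] [Finite k] [CommRing B] [Algebra k B] {G : Type} [Group G] [Fintype G]
  [MulSemiringAction G B] [SMulCommClass G k B] (hG : IsGal k B G)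
  {M L : Type} [AddCommGroup M] [AddCommGroup L] [DistribMulAction G M]
  [DistribMulAction G L] (j : M →+ L) (hj : ∀ (g : G) m, j (g • m) = g • j m)
  (ρ : L →+ M) (hρ : ∀ m, ρ (j m) = m)
  (htf : ∀ (n : ℤ) (l : L), n ≠ 0 → n • l = 0 → l = 0)

lemma exists_of_pow_eq {K : Type u} [Field K] [Algebra k K] [Fintype k] (x : K) (hx : x ^ Fintype.card k = x) :
    ∃ a : k, algebraMap k K a = x := by
  classical
  by_contra hne
  push Not at hne
  have h1 : (Polynomial.X ^ Fintype.card k - Polynomial.X : Polynomial K) ≠ 0 :=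
    FiniteField.X_pow_card_sub_X_ne_zero K Fintype.one_lt_card
  let S : Finset K := insert x (Finset.univ.image (algebraMap k K))
  have h2 : S.val ⊆ (Polynomial.X ^ Fintype.card k - Polynomial.X : Polynomial K).roots := by
    intro y hy
    rw [Polynomial.mem_roots h1, Polynomial.IsRoot.def, Polynomial.eval_sub, Polynomial.eval_pow, Polynomial.eval_X,
      sub_eq_zero]
    rcases Finset.mem_insert.1 hy with rfl | hy
    · exact hx
    · obtain ⟨a, -, rfl⟩ := Finset.mem_image.1 hy
      rw [← map_pow, FiniteField.pow_card]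
  have h3 : S.card ≤ Fintype.card k := by
    have h4 : S.val ≤ (Polynomial.X ^ Fintype.card k - Polynomial.X : Polynomial K).roots :=
      (Multiset.le_iff_subset S.nodup).2 h2
    have h5 := Multiset.card_le_card h4
    have h6 := Polynomial.card_roots' (Polynomial.X ^ Fintype.card k - Polynomial.X : Polynomial K)
    rw [FiniteField.X_pow_card_sub_X_natDegree_eq K Fintype.one_lt_card] at h6
    exact h5.trans h6
  have h4 : x ∉ Finset.univ.image (algebraMap k K) := by
    intro hx
    obtain ⟨a, -, ha⟩ := Finset.mem_image.1 hx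
    exact hne a ha
  rw [Finset.card_insert_of_notMem h4, Finset.card_image_of_injective _ (algebraMap k K).injective,
    Finset.card_univ] at h3
  omega

lemma um_frob {K : Type u} [Field K] [Algebra k K] [Fintype k] (y : Additive Kˣ) :
    um (FiniteField.frobeniusAlgHom k K : K →+* K) y = (Fintype.card k : ℤ) • y := by
  apply addUnits_ext
  rw [val_um, natCast_zsmul, toMul_nsmul, Units.val_pow_eq_pow_val]
  rfl

lemma crHom_frob {K : Type u} [Field K] [Algebra k K] [Fintype k] {N : Type} [AddCommGroup N] [DistribMulAction G N]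
    (s : B →+* K) (hs : s.comp (algebraMap k B) = algebraMap k K) (σ : G)
    (hσ : ∀ b, (s b) ^ Fintype.card k = s (σ • b)) (χ : cs k B G N K) (n : N) :
    crHom s hs (csMap (FiniteField.frobeniusAlgHom k K) χ) (σ • n) = (Fintype.card k : ℤ) • crHom s hs χ n := by
  have h0 : (FiniteField.frobeniusAlgHom k K : K →+* K).comp s = s.comp (gr k σ) := by
    ext b
    exact hσ b
  have hs' : (s.comp (gr k σ)).comp (algebraMap k B) = algebraMap k K := by
    rw [RingHom.comp_assoc, gr_comp, hs]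
  rw [← crHom_gr s hs σ hs', ← um_frob]
  apply addUnits_ext
  exact evs_mB s hs (FiniteField.frobeniusAlgHom k K) (s.comp (gr k σ)) hs' h0 _

include hG hj hρ htf in
/-- Surjectivity of the norm map over a finite field. -/
theorem exists_lift (c : M →+ Additive (k ⊗[k] B)ˣ) (hc : Eqv G c) :
    ∃ p : L →+ Additive (k ⊗[k] B)ˣ, Eqv G p ∧ p.comp j = c := by
  classical
  cases nonempty_fintype k
  have := hG.ff
  obtain ⟨HL, _, _, uL, rL⟩ := exists_rep hG L
  have hBn : Nontrivial B := (FaithfulSMul.algebraMap_injective k B).nontrivial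
  obtain ⟨I, hI⟩ := Ideal.exists_maximal B
  let _ : Field (B ⧸ I) := Ideal.Quotient.field I
  let K := AlgebraicClosure (B ⧸ I)
  let s : B →+* K := (algebraMap (B ⧸ I) K).comp (Ideal.Quotient.mk I)
  let _ : Algebra k K := (s.comp (algebraMap k B)).toAlgebra
  have hs : s.comp (algebraMap k B) = algebraMap k K := rfl
  let φ := FiniteField.frobeniusAlgHom k K
  obtain ⟨σ, hσ⟩ := exists_smul_eq hG s ((φ : K →+* K).comp s) hs (by
    rw [RingHom.comp_assoc, hs]
    exact φ.comp_algebraMap)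
  have hσ' : ∀ b, (s b) ^ Fintype.card k = s (σ • b) := hσ
  let cK : cs k B G M K := ⟨push (Algebra.ofId k K) c, eqv_push _ hc⟩
  have hcK : csMap φ cK = cK := by
    apply Subtype.ext
    change push φ (push (Algebra.ofId k K) c) = push (Algebra.ofId k K) c
    rw [push_push]
    congr 1
    ext
  let χ₀ := crHom s hs cK
  have hχ₀ : ∀ m, χ₀ (σ • m) = (Fintype.card k : ℤ) • χ₀ m := by
    intro m
    rw [← crHom_frob s hs σ hσ' cK m, hcK]
  obtain ⟨p₀, hp₀, hp₀'⟩ := exists_twist j ρ hρ htf (DistribSMul.toAddMonoidHom L σ) (DistribSMul.toAddMonoidHom M σ)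
    (hj σ) (orderOf σ) (orderOf_pos σ) (by
      intro l
      have h1 : (⇑(DistribSMul.toAddMonoidHom L σ))^[orderOf σ] l = (σ ^ orderOf σ) • l :=
        congrFun (smul_iterate σ (orderOf σ)) l
      rw [h1, pow_orderOf_eq_one, one_smul]) (Fintype.card k) Fintype.one_lt_card χ₀ hχ₀
  obtain ⟨pK, hpK⟩ := (crHom_bijective (N := L) hG s hs).2 p₀
  obtain ⟨f, hf⟩ := rL.surj pK.1 pK.2
  have hφ : csMap φ pK = pK := by
    apply (crHom_bijective (N := L) hG s hs).1
    ext1 l
    have h1 := crHom_frob s hs σ hσ' pK (σ⁻¹ • l)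
    rw [smul_inv_smul] at h1
    rw [h1, hpK, ← hp₀']
    change p₀ (σ • σ⁻¹ • l) = p₀ l
    rw [smul_inv_smul]
  have hff : φ.comp f = f := by
    apply rL.inj
    rw [← push_push, hf]
    exact congrArg Subtype.val hφ
  have h2 : ∀ x, ∃ a : k, algebraMap k K a = f x := fun x =>
    exists_of_pow_eq (f x) (congrArg (fun z : HL →ₐ[k] K => z x) hff)
  choose g hg using h2
  have hkK : Function.Injective (algebraMap k K) := (algebraMap k K).injective
  let f₀ : HL →ₐ[k] k :=
    { toFun := g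
      map_one' := hkK (by rw [hg, map_one, map_one])
      map_mul' := fun x y => hkK (by rw [hg, map_mul, map_mul, hg, hg])
      map_zero' := hkK (by rw [hg, map_zero, map_zero])
      map_add' := fun x y => hkK (by rw [hg, map_add, map_add, hg, hg])
      commutes' := fun a => hkK (by rw [hg, f.commutes]; rfl) }
  have hf₀ : (Algebra.ofId k K).comp f₀ = f := AlgHom.ext hg
  refine ⟨push f₀ uL, eqv_push f₀ rL.eqv, ?_⟩
  have h3 : push (Algebra.ofId k K) ((push f₀ uL).comp j) = push (Algebra.ofId k K) c := by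
    rw [push_comp, push_push, hf₀, hf]
    have h4 : (⟨pK.1.comp j, eqv_comp pK.2 j hj⟩ : cs k B G M K) = cK := by
      apply (crHom_bijective (N := M) hG s hs).1
      ext1 m
      have h5 : crHom s hs (⟨pK.1.comp j, eqv_comp pK.2 j hj⟩ : cs k B G M K) m = crHom s hs pK (j m) := rfl
      rw [h5, hpK, hp₀]
    exact congrArg Subtype.val h4
  ext1 m
  apply addUnits_ext
  have h5 := congrArg (fun z : M →+ Additive (K ⊗[k] B)ˣ => ((z m).toMul : K ⊗[k] B)) h3
  have h6 : Function.Injective (mB B (Algebra.ofId k K)) :=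
    Module.Flat.rTensor_preserves_injective_linearMap (M := B) (Algebra.ofId k K).toLinearMap hkK
  exact h6 h5

end main

end K965.NormFin
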