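import Groth.Agent.MultTori.K965.EqRep
import Groth.Agent.MultTori.K965.LatX
import Mathlib.RingTheory.Localization.Away.Basic

/-!
# The product of a torus with a section and the kernel torus, in terms of rings
-/

set_option autoImplicit false
universe u
open scoped TensorProduct

set_option linter.unusedSectionVars false

namespace K965.RatRing

open K965.Pts K965.Gal K965.Dict K965.Dic K965.EqRep
open K964.UC (mB mB_comp)

variable {k B : Type u} [CommRing k] [CommRing B] [Algebra k B] {G : Type} [Group G] [MulSemiringAction G B]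
  [SMulCommClass G k B]

section alg

variable {R : Type u} [CommRing R] [Algebra k R] {N : Type} [AddCommGroup N] (a b : N →+ Additive (R ⊗[k] B)ˣ)

lemma hadd_zero : a + 0 = a := by
  ext1 n
  exact add_zero (a n)

lemma hadd_comm : a + b = b + a := by
  ext1 n
  exact add_comm (a n) (b n)

lemma hadd_sub_cr : a + b - b = a := by
  ext1 n
  exact add_sub_cancel_right (a n) (b n)

lemma hadd_sub_cl : a + b - a = b := by
  ext1 n
  exact add_sub_cancel_left (a n) (b n)

lemma hsub_self : a - a = 0 := by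
  ext1 n
  exact sub_self (a n)

lemma hadd_sub : a + (b - a) = b := by
  ext1 n
  exact add_sub_cancel (a n) (b n)

end alg

section const

variable {M : Type} [AddCommGroup M] [DistribMulAction G M] (c : M →+ Additive Bˣ)

/-- constant characters -/
noncomputable def cR (R : Type u) [CommRing R] [Algebra k R] : M →+ Additive (R ⊗[k] B)ˣ := (um (inr k B R)).comp c

lemma eqv_cR (hc : ∀ (g : G) m, c (g • m) = um (gr k g) (c m)) (R : Type u) [CommRing R] [Algebra k R] :
    Eqv (A := k) G (cR c R) := by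
  intro g m
  apply addUnits_ext
  change inr k B R ((c (g • m)).toMul : B) = act k B R g (inr k B R ((c m).toMul : B))
  rw [hc g m, val_um]
  exact (act_tmul g (1 : R) _).symm

lemma push_cR {R R' : Type u} [CommRing R] [Algebra k R] [CommRing R'] [Algebra k R'] (f : R →ₐ[k] R') :
    push f (cR (k := k) c R) = cR c R' := by
  ext1 m
  apply addUnits_ext
  rw [val_push]
  change mB B f (1 ⊗ₜ _) = 1 ⊗ₜ _
  rw [Algebra.TensorProduct.map_tmul, map_one]
  rfl

end const

variable {M L N : Type} [AddCommGroup M] [AddCommGroup L] [AddCommGroup N] [DistribMulAction G M]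
  [DistribMulAction G L] [DistribMulAction G N] (j : M →+ L) (hj : ∀ (g : G) m, j (g • m) = g • j m)
  (π : L →+ N) (hπ : Function.Surjective π) (hπj : ∀ l, π l = 0 ↔ ∃ m, j m = l)
  (hπg : ∀ (g : G) l, π (g • l) = g • π l)
  {HT HL HN : Type u} [CommRing HT] [Algebra k HT] [CommRing HL] [Algebra k HL] [CommRing HN] [Algebra k HN]
  {uT : M →+ Additive (HT ⊗[k] B)ˣ} {uL : L →+ Additive (HL ⊗[k] B)ˣ} {uN : N →+ Additive (HN ⊗[k] B)ˣ}
  (rT : Rep G HT uT) (rL : Rep G HL uL) (rN : Rep G HN uN)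
  {Ht : Type u} [CommRing Ht] [Algebra k Ht] [Algebra HT Ht] [IsScalarTower k HT Ht]
  (sec : L →+ Additive (Ht ⊗[k] B)ˣ) (hsec : Eqv G sec) (c : M →+ Additive Bˣ)
  (hc : ∀ (g : G) m, c (g • m) = um (gr k g) (c m))
  (hsc : push (IsScalarTower.toAlgHom k HT Ht) uT = cR c Ht + sec.comp j)

include hπ hπj hπg in
/-- a character of `L` trivial on `M` comes from `N` -/
lemma exists_desc {R : Type u} [CommRing R] [Algebra k R] (χ : L →+ Additive (R ⊗[k] B)ˣ) (hχ : Eqv G χ)
    (h0 : χ.comp j = 0) : ∃ ν : N →+ Additive (R ⊗[k] B)ˣ, Eqv G ν ∧ ν.comp π = χ := by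
  have hker : ∀ l l', π l = π l' → χ l = χ l' := by
    intro l l' h
    rw [← sub_eq_zero, ← map_sub, hπj] at h
    obtain ⟨m, hm⟩ := h
    have h1 : χ (l - l') = 0 := by
      rw [← hm]
      exact DFunLike.congr_fun h0 m
    rw [map_sub] at h1
    exact sub_eq_zero.1 h1
  have hinv : ∀ n, π (Function.surjInv hπ n) = n := Function.surjInv_eq hπ
  let ν : N →+ Additive (R ⊗[k] B)ˣ :=
    { toFun := fun n => χ (Function.surjInv hπ n)
      map_zero' := by
        rw [← map_zero χ]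
        apply hker
        rw [hinv, map_zero]
      map_add' := fun a b => by
        rw [← map_add]
        apply hker
        rw [map_add, hinv, hinv, hinv] }
  have hν : ∀ l, ν (π l) = χ l := fun l => hker _ _ (hinv _)
  refine ⟨ν, ?_, ?_⟩
  · intro g n
    obtain ⟨l, rfl⟩ := hπ n
    rw [← hπg, hν, hν, hχ g l]
  · ext1 l
    exact hν l

include hj hπ hπj hπg rT rL rN hsec hc hsc in
theorem exists_equiv (t : HT) [IsLocalization.Away t Ht] : ∃ t' : HL, Nonempty ((Ht ⊗[k] HN) ≃ₐ[k] Localization.Away t') := by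
  let ι : HT →ₐ[k] Ht := IsScalarTower.toAlgHom k HT Ht
  -- the composite `M → L → units of HL`
  obtain ⟨τ, hτ⟩ := rT.surj (uL.comp j + cR c HL) (eqv_add (eqv_comp rL.eqv j hj) (eqv_cR c hc HL))
  let t' : HL := τ t
  let H' := Localization.Away t'
  let lam : HL →ₐ[k] H' := IsScalarTower.toAlgHom k HL H'
  let i₁ : Ht →ₐ[k] Ht ⊗[k] HN := Algebra.TensorProduct.includeLeft
  let i₂ : HN →ₐ[k] Ht ⊗[k] HN := Algebra.TensorProduct.includeRight
  -- Θ
  obtain ⟨Θ₀, hΘ₀⟩ := rL.surj (push i₁ sec + (push i₂ uN).comp π)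
    (eqv_add (eqv_push i₁ hsec) (eqv_comp (eqv_push i₂ rN.eqv) π hπg))
  have hπj0 : π.comp j = 0 := by
    ext1 m
    exact (hπj (j m)).2 ⟨m, rfl⟩
  have hΘτ : Θ₀.comp τ = i₁.comp ι := by
    apply rT.inj
    rw [← push_push, hτ, push_add, push_comp, hΘ₀, push_cR, ← push_push]
    change _ = push i₁ (push (IsScalarTower.toAlgHom k HT Ht) uT)
    rw [hsc, push_add, push_cR, push_comp]
    have h1 : (push i₁ sec + (push i₂ uN).comp π).comp j = (push i₁ sec).comp j + (push i₂ uN).comp (π.comp j) := rfl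
    rw [h1, hπj0, AddMonoidHom.comp_zero, hadd_zero, hadd_comm]
  have hΘu : IsUnit (Θ₀ t') := by
    have h1 : Θ₀ t' = i₁ (algebraMap HT Ht t) := congrArg (fun z : HT →ₐ[k] Ht ⊗[k] HN => z t) hΘτ
    rw [h1]
    exact (IsLocalization.Away.algebraMap_isUnit t).map i₁
  let Θ : H' →ₐ[k] Ht ⊗[k] HN := IsLocalization.liftAlgHom (M := Submonoid.powers t') (f := Θ₀) (by
    rintro ⟨_, m, rfl⟩
    have h2 := hΘu.pow m
    rwa [← map_pow] at h2)
  have hΘl : Θ.comp lam = Θ₀ := by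
    refine AlgHom.ext fun a => ?_
    exact IsLocalization.lift_eq _ _
  -- Ξ
  have hlu : IsUnit ((lam.comp τ) t) := IsLocalization.Away.algebraMap_isUnit t'
  let Ξ₁ : Ht →ₐ[k] H' := IsLocalization.liftAlgHom (M := Submonoid.powers t) (f := lam.comp τ) (by
    rintro ⟨_, m, rfl⟩
    have h2 := hlu.pow m
    rwa [← map_pow] at h2)
  have hΞ₁ : Ξ₁.comp ι = lam.comp τ := by
    refine AlgHom.ext fun a => ?_
    exact IsLocalization.lift_eq _ _
  have h0 : (push lam uL - push Ξ₁ sec).comp j = 0 := by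
    have h1 : (push lam uL - push Ξ₁ sec).comp j = push lam (uL.comp j) - push Ξ₁ (sec.comp j) := rfl
    have h2 : uL.comp j = push τ uT - cR c HL := by
      rw [hτ, hadd_sub_cr]
    have h3 : sec.comp j = push ι uT - cR c Ht := by
      change _ = push (IsScalarTower.toAlgHom k HT Ht) uT - _
      rw [hsc, hadd_sub_cl]
    rw [h1, h2, h3, push_sub, push_sub, push_cR, push_cR, push_push, push_push, hΞ₁, hsub_self]
  obtain ⟨ν, hν, hνπ⟩ := exists_desc j π hπ hπj hπg (push lam uL - push Ξ₁ sec)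
    (eqv_sub (eqv_push lam rL.eqv) (eqv_push Ξ₁ hsec)) h0
  obtain ⟨Ξ₂, hΞ₂⟩ := rN.surj ν hν
  let Ξ : Ht ⊗[k] HN →ₐ[k] H' := Algebra.TensorProduct.lift Ξ₁ Ξ₂ (fun _ _ => Commute.all _ _)
  have hΞi₁ : Ξ.comp i₁ = Ξ₁ := by
    refine AlgHom.ext fun a => ?_
    change Ξ (a ⊗ₜ 1) = Ξ₁ a
    simp [Ξ]
  have hΞi₂ : Ξ.comp i₂ = Ξ₂ := by
    refine AlgHom.ext fun a => ?_
    change Ξ (1 ⊗ₜ a) = Ξ₂ a
    simp [Ξ]
  -- the compositions
  have hΞΘ₀ : Ξ.comp Θ₀ = lam := by
    apply rL.inj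
    rw [← push_push, hΘ₀, push_add, push_push, hΞi₁, push_comp, push_push, hΞi₂, hΞ₂, hνπ]
    exact hadd_sub _ _
  have hΞΘ : Ξ.comp Θ = AlgHom.id k H' := by
    have h1 : ((Ξ.comp Θ : H' →ₐ[k] H') : H' →+* H') = RingHom.id H' := by
      apply IsLocalization.ringHom_ext (Submonoid.powers t')
      refine RingHom.ext fun a => ?_
      have h2 := congrArg (fun z : HL →ₐ[k] H' => z a) hΞΘ₀
      have h3 := congrArg (fun z : HL →ₐ[k] Ht ⊗[k] HN => Ξ (z a)) hΘl
      exact h3.trans h2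
    exact AlgHom.ext fun a => congrArg (fun z : H' →+* H' => z a) h1
  have hΘΞ₁ : Θ.comp Ξ₁ = i₁ := by
    have h1 : ((Θ.comp Ξ₁ : Ht →ₐ[k] Ht ⊗[k] HN) : Ht →+* Ht ⊗[k] HN) = i₁ := by
      apply IsLocalization.ringHom_ext (Submonoid.powers t)
      refine RingHom.ext fun a => ?_
      have h2 := congrArg (fun z : HT →ₐ[k] H' => Θ (z a)) hΞ₁
      have h3 := congrArg (fun z : HL →ₐ[k] Ht ⊗[k] HN => z (τ a)) hΘl
      have h4 := congrArg (fun z : HT →ₐ[k] Ht ⊗[k] HN => z a) hΘτ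
      exact (h2.trans h3).trans h4
    exact AlgHom.ext fun a => congrArg (fun z : Ht →+* Ht ⊗[k] HN => z a) h1
  have hΘΞ₂ : Θ.comp Ξ₂ = i₂ := by
    apply rN.inj
    rw [← push_push, hΞ₂]
    have h1 : (push Θ ν).comp π = (push i₂ uN).comp π := by
      rw [← push_comp, hνπ, push_sub, push_push, push_push, hΘl, hΘΞ₁, hΘ₀, hadd_sub_cl]
    ext1 n
    obtain ⟨l, rfl⟩ := hπ n
    exact DFunLike.congr_fun h1 l
  have hΘΞ : Θ.comp Ξ = AlgHom.id k (Ht ⊗[k] HN) := by
    apply Algebra.TensorProduct.ext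
    · refine AlgHom.ext fun a => ?_
      have h1 := congrArg (fun z : Ht →ₐ[k] H' => Θ (z a)) hΞi₁
      have h2 := congrArg (fun z : Ht →ₐ[k] Ht ⊗[k] HN => z a) hΘΞ₁
      exact h1.trans h2
    · refine AlgHom.ext fun a => ?_
      have h1 := congrArg (fun z : HN →ₐ[k] H' => Θ (z a)) hΞi₂
      have h2 := congrArg (fun z : HN →ₐ[k] Ht ⊗[k] HN => z a) hΘΞ₂
      exact h1.trans h2
  exact ⟨t', ⟨AlgEquiv.ofAlgHom Ξ Θ hΞΘ hΘΞ⟩⟩

end K965.RatRing
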