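import Groth.Agent.MultTori.K965.BcGal
import Groth.Agent.MultTori.K965.RatRing

/-!
# The translated norm map is dominant
-/

set_option autoImplicit false
universe u
open scoped TensorProduct

namespace K965.NormInj

open K965.Pts K965.Gal K965.Dict K965.EqRep K965.RatRing
open K964.UC (mB mB_comp)

variable {k B : Type u} [CommRing k] [CommRing B] [Algebra k B] {G : Type} [Group G] [Fintype G] [MulSemiringAction G B]
  [SMulCommClass G k B] (hG : IsGal k B G)
  {M L : Type} [AddCommGroup M] [AddCommGroup L] [DistribMulAction G M]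
  [DistribMulAction G L] (j : M →+ L) (hj : ∀ (g : G) m, j (g • m) = g • j m)
  (ρ : L →+ M) (hρ : ∀ m, ρ (j m) = m)
  {HT HL : Type u} [CommRing HT] [Algebra k HT] [CommRing HL] [Algebra k HL]
  {uT : M →+ Additive (HT ⊗[k] B)ˣ} {uL : L →+ Additive (HL ⊗[k] B)ˣ}
  (rT : Rep G HT uT) (rL : Rep G HL uL)

include hG hj hρ rT rL in
theorem injective (c : M →+ Additive (k ⊗[k] B)ˣ) (hc : Eqv G c) (τ : HT →ₐ[k] HL)
    (hτ : push τ uT = push (Algebra.ofId k HL) c - uL.comp j) : Function.Injective τ := by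
  have := hG.ff
  let R := B ⊗[k] HT
  let i₂ : HT →ₐ[k] R := Algebra.TensorProduct.includeRight
  let s : B →+* R := (Algebra.TensorProduct.includeLeft : B →ₐ[k] R)
  have hs : s.comp (algebraMap k B) = algebraMap k R := (Algebra.TensorProduct.includeLeft : B →ₐ[k] R).comp_algebraMap
  let χ : cs k B G M R := ⟨push i₂ uT, eqv_push i₂ rT.eqv⟩
  let cr : cs k B G M R := ⟨push (Algebra.ofId k R) c, eqv_push (Algebra.ofId k R) hc⟩
  obtain ⟨p, hp⟩ := (crHom_bijective (N := L) hG s hs).2 ((crHom s hs cr - crHom s hs χ).comp ρ)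
  let pj : cs k B G M R := ⟨p.1.comp j, eqv_comp p.2 j hj⟩
  have hpj : crHom s hs pj = crHom s hs cr - crHom s hs χ := by
    ext1 m
    have h1 : crHom s hs pj m = crHom s hs p (j m) := rfl
    rw [h1, hp, AddMonoidHom.comp_apply, hρ]
  have h2 : pj = cr - χ := by
    apply (crHom_bijective (N := M) hG s hs).1
    rw [hpj, map_sub]
  obtain ⟨θ, hθ⟩ := rL.surj p.1 p.2
  have h3 : θ.comp τ = i₂ := by
    apply rT.inj
    rw [← push_push, hτ, push_sub, push_comp, hθ, push_push]
    have h4 : θ.comp (Algebra.ofId k HL) = Algebra.ofId k R := by ext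
    rw [h4]
    have h5 : p.1.comp j = push (Algebra.ofId k R) c - push i₂ uT := congrArg Subtype.val h2
    rw [h5]
    ext1 m
    exact sub_sub_cancel (push (Algebra.ofId k R) c m) (push i₂ uT m)
  have hinj : Function.Injective i₂ := by
    intro x y hxy
    exact Module.FaithfullyFlat.tensorProduct_mk_injective (A := k) (B := B) HT hxy
  intro x y hxy
  apply hinj
  rw [← h3, AlgHom.comp_apply, AlgHom.comp_apply, hxy]

end K965.NormInj
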