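import Groth.Agent.MultTori.K965.EqRep
import Groth.Agent.MultTori.K965.LatX
import Mathlib.RingTheory.Localization.Away.Basic
import Mathlib.Algebra.MvPolynomial.Basic
import Mathlib.LinearAlgebra.Basis.VectorSpace

/-!
# Equivariant characters of a permutation lattice over a field

They are represented by a principal open subset of an affine space.
-/

set_option autoImplicit false
universe u
open scoped TensorProduct

set_option linter.unusedSectionVars false

namespace K965.PermRep

open K965.Pts K965.Gal K965.Dict K965.LatX K965.EqRep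
open K964.UC (mB mB_comp)

variable {k B : Type u} [Field k] [CommRing B] [Algebra k B] {G : Type} [Group G] [Fintype G] [MulSemiringAction G B]
  [SMulCommClass G k B] (hG : IsGal k B G) {X : Type} [Fintype X] [MulAction G X]

/-- equivariant maps -/
def Eq (k B : Type u) [Field k] [CommRing B] [Algebra k B] (G : Type) [Group G] [MulSemiringAction G B]
    [SMulCommClass G k B] (X : Type) [MulAction G X] : Submodule k (X → B) where
  carrier := {φ | ∀ (g : G) x, φ (g • x) = g • φ x}
  add_mem' := fun {a b} ha hb g x => by rw [Pi.add_apply, Pi.add_apply, ha, hb, smul_add]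
  zero_mem' := fun g x => (smul_zero g).symm
  smul_mem' := fun c φ h g x => by rw [Pi.smul_apply, Pi.smul_apply, h, ← smul_comm g c]

variable {n : ℕ} (ε : Module.Basis (Fin n) k (Eq k B G X)) {R R' : Type u} [CommRing R] [Algebra k R] [CommRing R'] [Algebra k R']

/-- the equivariant map with given coordinates -/
noncomputable def Fr (r : Fin n → R) (x : X) : R ⊗[k] B := ∑ j, r j ⊗ₜ (ε j).1 x

lemma act_Fr (r : Fin n → R) (g : G) (x : X) : act k B R g (Fr ε r x) = Fr ε r (g • x) := by
  rw [Fr, Fr, map_sum]
  refine Finset.sum_congr rfl fun j _ => ?_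
  rw [act_tmul, (ε j).2]

lemma mB_Fr (ψ : R →ₐ[k] R') (r : Fin n → R) (x : X) : mB B ψ (Fr ε r x) = Fr ε (fun j => ψ (r j)) x := by
  rw [Fr, Fr, map_sum]
  refine Finset.sum_congr rfl fun j _ => ?_
  rw [Algebra.TensorProduct.map_tmul]
  rfl

theorem Fr_injective {r r' : Fin n → R} (h : ∀ x, Fr ε r x = Fr ε r' x) : r = r' := by
  classical
  obtain ⟨ρ, hρ⟩ := LinearMap.exists_leftInverse_of_injective (Eq k B G X).subtype (Submodule.ker_subtype _)
  let l : Fin n → X → B →ₗ[k] k := fun j x => (ε.coord j) ∘ₗ ρ ∘ₗ (LinearMap.single k (fun _ : X => B) x)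
  have hl : ∀ i j, ∑ x, l j x ((ε i).1 x) = if i = j then 1 else 0 := by
    intro i j
    have h1 : ∑ x, l j x ((ε i).1 x) = ε.coord j (ρ (∑ x, LinearMap.single k (fun _ : X => B) x ((ε i).1 x))) := by
      rw [map_sum, map_sum]
      rfl
    have h2 : ∑ x, LinearMap.single k (fun _ : X => B) x ((ε i).1 x) = (ε i).1 := by
      funext y
      rw [Finset.sum_apply, Finset.sum_eq_single y]
      · simp
      · intro z _ hz
        rw [LinearMap.single_apply, Pi.single_eq_of_ne hz.symm]
      · intro hy
        exact absurd (Finset.mem_univ _) hy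
    rw [h1, h2]
    have h3 : ρ (ε i).1 = ε i := congrArg (fun z => z (ε i)) hρ
    rw [h3, Module.Basis.coord_apply, Module.Basis.repr_self, Finsupp.single_apply]
  let L : Fin n → X → R ⊗[k] B →ₗ[k] R := fun j x => (TensorProduct.rid k R).toLinearMap ∘ₗ (LinearMap.lTensor R (l j x))
  have hL : ∀ j x (s : R) (b : B), L j x (s ⊗ₜ b) = l j x b • s := by
    intro j x s b
    simp [L]
  have key : ∀ (r : Fin n → R) j, ∑ x, L j x (Fr ε r x) = r j := by
    intro r j
    simp only [Fr, map_sum, hL]
    rw [Finset.sum_comm]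
    simp only [← Finset.sum_smul, hl]
    simp
  funext j
  rw [← key r, ← key r']
  simp only [h]

include hG in
theorem exists_Fr (f : X → R ⊗[k] B) (hf : ∀ (g : G) x, act k B R g (f x) = f (g • x)) : ∃ r, ∀ x, Fr ε r x = f x := by
  classical
  obtain ⟨t, ht⟩ := hG.tr
  let T : X → (R ⊗[k] B) → X → (R ⊗[k] B) := fun y z x => ∑ g : G, if g • y = x then act k B R g z else 0
  have hT : ∀ y z, ∃ r, ∀ x, Fr ε r x = T y z x := by
    intro y z
    induction z using TensorProduct.induction_on with
    | zero =>
      refine ⟨0, fun x => ?_⟩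
      simp [T, Fr]
    | tmul s b =>
      let ψ : Eq k B G X := ⟨fun x => ∑ g : G, if g • y = x then g • b else 0, by
        intro h x
        dsimp only
        rw [Finset.smul_sum]
        refine Fintype.sum_equiv (Equiv.mulLeft h⁻¹) _ _ (fun g => ?_)
        simp only [Equiv.coe_mulLeft]
        by_cases hg : g • y = h • x
        · have hg' : (h⁻¹ * g) • y = x := by rw [mul_smul, hg, inv_smul_smul]
          rw [if_pos hg, if_pos hg', mul_smul, smul_inv_smul]
        · have hg' : ¬ (h⁻¹ * g) • y = x := by
            intro h1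
            apply hg
            rw [← h1, mul_smul, smul_inv_smul]
          rw [if_neg hg, if_neg hg', smul_zero]⟩
      refine ⟨fun j => ε.repr ψ j • s, fun x => ?_⟩
      have h1 : T y (s ⊗ₜ[k] b) x = s ⊗ₜ[k] ψ.1 x := by
        simp only [T, ψ]
        rw [TensorProduct.tmul_sum]
        refine Finset.sum_congr rfl fun g _ => ?_
        split_ifs
        · rw [act_tmul]
        · rw [TensorProduct.tmul_zero]
      rw [h1]
      have h2 : ψ.1 x = ∑ j, ε.repr ψ j • (ε j).1 x := by
        conv_lhs => rw [← ε.sum_repr ψ]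
        rw [Submodule.coe_sum, Finset.sum_apply]
        rfl
      rw [h2, TensorProduct.tmul_sum, Fr]
      refine Finset.sum_congr rfl fun j _ => ?_
      rw [TensorProduct.smul_tmul]
    | add z z' hz hz' =>
      obtain ⟨r, hr⟩ := hz
      obtain ⟨r', hr'⟩ := hz'
      refine ⟨r + r', fun x => ?_⟩
      have h1 : T y (z + z') x = T y z x + T y z' x := by
        simp only [T]
        rw [← Finset.sum_add_distrib]
        refine Finset.sum_congr rfl fun g _ => ?_
        split_ifs
        · rw [map_add]
        · rw [add_zero]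
      rw [h1, ← hr, ← hr', Fr, Fr, Fr, ← Finset.sum_add_distrib]
      refine Finset.sum_congr rfl fun j _ => ?_
      rw [Pi.add_apply, TensorProduct.add_tmul]
  choose r hr using fun y => hT y (f y * (1 ⊗ₜ t))
  refine ⟨∑ y, r y, fun x => ?_⟩
  have h1 : Fr ε (∑ y, r y) x = ∑ y, Fr ε (r y) x := by
    simp only [Fr]
    rw [Finset.sum_comm]
    refine Finset.sum_congr rfl fun j _ => ?_
    rw [Finset.sum_apply, TensorProduct.sum_tmul]
  rw [h1]
  simp only [hr, T]
  rw [Finset.sum_comm]
  have h2 : ∀ g : G, (∑ y, if g • y = x then act k B R g (f y * (1 ⊗ₜ[k] t)) else 0) = f x * (1 ⊗ₜ[k] (g • t)) := by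
    intro g
    rw [Finset.sum_eq_single (g⁻¹ • x)]
    · rw [if_pos (smul_inv_smul g x), map_mul, hf, smul_inv_smul, act_tmul]
    · intro y _ hy
      rw [if_neg]
      intro h3
      apply hy
      rw [← h3, inv_smul_smul]
    · intro h3
      exact absurd (Finset.mem_univ _) h3
  simp only [h2]
  rw [← Finset.mul_sum, ← TensorProduct.tmul_sum, ht]
  exact mul_one _

include hG in
lemma isUnit_of_tmul (r : R) (h : IsUnit (r ⊗ₜ[k] (1 : B))) : IsUnit r := by
  have := hG.ff
  obtain ⟨z, hz⟩ := h.exists_right_inv
  have h1 : ∀ g : G, act k B R g z = z := by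
    intro g
    have h2 := congrArg (act k B R g) hz
    rw [map_mul, map_one, act_tmul, smul_one] at h2
    have h3 : z * ((r ⊗ₜ[k] (1 : B)) * act k B R g z) = z * 1 := by rw [h2]
    rw [← mul_assoc, mul_comm z, hz, one_mul, mul_one] at h3
    exact h3
  obtain ⟨w, rfl⟩ := exists_of_act_eq hG z h1
  rw [Algebra.TensorProduct.tmul_mul_tmul, mul_one] at hz
  have h2 : r * w = 1 := includeLeft_injective (A := k) (B := B) (R := R) (by
    change (r * w) ⊗ₜ[k] (1 : B) = (1 : R) ⊗ₜ[k] (1 : B)
    exact hz)
  exact IsUnit.of_mul_eq_one w h2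

include hG in
/-- The permutation torus is an open subset of an affine space. -/
theorem exists_perm_rep (X : Type) [Fintype X] [MulAction G X] :
    ∃ (n : ℕ) (d : MvPolynomial (Fin n) k) (u : LX X →+ Additive (Localization.Away d ⊗[k] B)ˣ), d ≠ 0 ∧
      Rep G (Localization.Away d) u := by
  classical
  have := hG.ff
  have := hG.fin
  have hfin : Module.Finite k (Eq k B G X) := inferInstance
  let ε := Module.finBasis k (Eq k B G X)
  let n := Module.finrank k (Eq k B G X)
  let Y := MvPolynomial (Fin n) k
  obtain ⟨d, hd⟩ := exists_of_act_eq hG (∏ x : X, Fr ε (fun j => (MvPolynomial.X j : Y)) x) (by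
    intro g
    rw [map_prod]
    refine Fintype.prod_equiv (MulAction.toPerm g) _ _ (fun x => ?_)
    rw [act_Fr]
    rfl)
  let H := Localization.Away d
  let y : Fin n → H := fun j => algebraMap Y H (MvPolynomial.X j)
  have hprod : ∀ (R : Type u) [CommRing R] [Algebra k R] (ψ : Y →ₐ[k] R),
      ∏ x : X, Fr ε (fun j => ψ (MvPolynomial.X j)) x = ψ d ⊗ₜ 1 := by
    intro R _ _ ψ
    have h1 := congrArg (mB B ψ) hd
    rw [map_prod] at h1
    simp only [mB_Fr] at h1
    rw [h1, Algebra.TensorProduct.map_tmul]
    rfl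
  have hunit : ∀ x : X, IsUnit (Fr ε y x) := by
    intro x
    have h1 := hprod H (IsScalarTower.toAlgHom k Y H)
    have h2 : IsUnit ((IsScalarTower.toAlgHom k Y H) d ⊗ₜ[k] (1 : B)) :=
      (IsLocalization.Away.algebraMap_isUnit (S := H) d).map (Algebra.TensorProduct.includeLeft : H →ₐ[k] H ⊗[k] B)
    rw [← h1] at h2
    exact isUnit_of_dvd_unit (Finset.dvd_prod_of_mem _ (Finset.mem_univ x)) h2
  let u : LX X →+ Additive (H ⊗[k] B)ˣ := LX.lift (fun x => Additive.ofMul (hunit x).unit)
  have hu : ∀ x, ((u (dl x)).toMul : H ⊗[k] B) = Fr ε y x := by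
    intro x
    rw [LX.lift_dl]
    rfl
  have hrep : Rep G H u := by
    refine ⟨?_, ?_, ?_⟩
    · intro g l
      let F : LX X →+ Additive (H ⊗[k] B)ˣ :=
        { toFun := fun l => u (g • l)
          map_zero' := by rw [smul_zero, map_zero]
          map_add' := fun a b => by rw [smul_add, map_add] }
      have h1 : F = (um (act k B H g : H ⊗[k] B →+* H ⊗[k] B)).comp u := by
        refine LX.hom_ext (U := Additive (H ⊗[k] B)ˣ) (f := F) (f' := (um (act k B H g : H ⊗[k] B →+* H ⊗[k] B)).comp u) ?_
        intro x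
        apply addUnits_ext
        change ((u (g • dl x)).toMul : H ⊗[k] B) = act k B H g ((u (dl x)).toMul : H ⊗[k] B)
        rw [smul_dl, hu, hu, act_Fr]
      exact DFunLike.congr_fun h1 l
    · intro R _ _ f f' hf
      have h1 : (fun j => f (y j)) = fun j => f' (y j) := by
        apply Fr_injective ε
        intro x
        rw [← mB_Fr, ← mB_Fr, ← hu, ← val_push, ← val_push, hf]
      have h2 : ((f : H →+* R).comp (algebraMap Y H)) = ((f' : H →+* R).comp (algebraMap Y H)) := by
        apply MvPolynomial.ringHom_ext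
        · intro c
          change f (algebraMap Y H (MvPolynomial.C c)) = f' (algebraMap Y H (MvPolynomial.C c))
          have h3 : algebraMap Y H (MvPolynomial.C c) = algebraMap k H c := by
            rw [IsScalarTower.algebraMap_apply k Y H, MvPolynomial.algebraMap_eq]
          rw [h3, f.commutes, f'.commutes]
        · intro j
          exact congrFun h1 j
      have h3 := IsLocalization.ringHom_ext (Submonoid.powers d) h2
      exact AlgHom.ext fun a => congrArg (fun z : H →+* R => z a) h3
    · intro R _ _ χ hχ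
      obtain ⟨r, hr⟩ := exists_Fr hG ε (fun x => ((χ (dl x)).toMul : R ⊗[k] B)) (by
        intro g x
        rw [← smul_dl, hχ g (dl x)]
        rfl)
      let ψ : Y →ₐ[k] R := MvPolynomial.aeval r
      have hψ : ∀ j, ψ (MvPolynomial.X j) = r j := fun j => MvPolynomial.aeval_X r j
      have h1 : IsUnit (ψ d) := by
        apply isUnit_of_tmul (B := B) hG
        rw [← hprod]
        simp only [hψ, hr]
        exact Finset.prod_induction _ IsUnit (fun a b => IsUnit.mul) isUnit_one (fun x _ => Units.isUnit _)
      let f : H →ₐ[k] R := IsLocalization.liftAlgHom (M := Submonoid.powers d) (f := ψ) (by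
        rintro ⟨_, m, rfl⟩
        have h2 := h1.pow m
        rwa [← map_pow] at h2)
      have hf : ∀ j, f (y j) = r j := by
        intro j
        rw [← hψ]
        exact IsLocalization.lift_eq _ _
      refine ⟨f, ?_⟩
      apply LX.hom_ext
      intro x
      apply addUnits_ext
      rw [val_push, hu, mB_Fr]
      simp only [hf]
      exact hr x
  refine ⟨n, d, u, ?_, hrep⟩
  rintro rfl
  obtain ⟨f, -⟩ := hrep.surj (R := k) 0 (cs k B G (LX X) k).zero_mem
  have h1 : (1 : H) = 0 := by
    have h2 : IsUnit (algebraMap Y H 0) := IsLocalization.Away.algebraMap_isUnit (0 : Y)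
    rw [map_zero, isUnit_zero_iff] at h2
    exact h2.symm
  have h2 := congrArg f h1
  rw [map_one, map_zero] at h2
  exact one_ne_zero h2

end K965.PermRep
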