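import Groth.Agent.MultTori.K965.Decomp
import Mathlib.RingTheory.MvPolynomial.MonomialOrder
import Mathlib.Algebra.MvPolynomial.Nilpotent
import Mathlib.RingTheory.Polynomial.UniqueFactorization

/-!
# Units of a localization of a polynomial ring over a field
-/

set_option autoImplicit false
universe u
open MvPolynomial

namespace K965.UfdUnits

open K965.Pts K965.Decomp

variable {N : ℕ} {B : Type u} [Field B]

/-- leading coefficient -/
noncomputable def lc (a : MvPolynomial (Fin N) B) : B := (MonomialOrder.lex : MonomialOrder (Fin N)).leadingCoeff a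

lemma lc_mul (a b : MvPolynomial (Fin N) B) : lc (a * b) = lc a * lc b :=
  MonomialOrder.leadingCoeff_mul

lemma lc_C (c : B) : lc (C c : MvPolynomial (Fin N) B) = c := MonomialOrder.leadingCoeff_C c

lemma lc_ne_zero {a : MvPolynomial (Fin N) B} (h : a ≠ 0) : lc a ≠ 0 := by
  rwa [lc, Ne, MonomialOrder.leadingCoeff_eq_zero_iff]

lemma lc_map {B' : Type u} [Field B'] (f : B →+* B') (a : MvPolynomial (Fin N) B) : lc (map f a) = f (lc a) := by
  have h1 : (MonomialOrder.lex : MonomialOrder (Fin N)).degree (map f a) =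
      (MonomialOrder.lex : MonomialOrder (Fin N)).degree a := by
    rw [MonomialOrder.degree, MonomialOrder.degree, support_map_of_injective a f.injective]
  rw [lc, lc, MonomialOrder.leadingCoeff, MonomialOrder.leadingCoeff, h1, coeff_map]

/-- normalized irreducible factors -/
def Qs (h : MvPolynomial (Fin N) B) : Type u := {q : MvPolynomial (Fin N) B // Irreducible q ∧ q ∣ h ∧ lc q = 1}

variable {h : MvPolynomial (Fin N) B}

lemma eq_of_associated {p q : MvPolynomial (Fin N) B} (hp : lc p = 1) (hq : lc q = 1) (hpq : Associated p q) :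
    p = q := by
  obtain ⟨v, hv⟩ := hpq
  obtain ⟨c, hc, hc'⟩ := isUnit_iff_eq_C_of_isReduced.1 v.isUnit
  rw [hc'] at hv
  have h1 := congrArg lc hv
  rw [lc_mul, lc_C, hp, hq, one_mul] at h1
  rw [h1, map_one, mul_one] at hv
  exact hv

theorem finite_Qs (hh : h ≠ 0) : Finite (Qs h) := by
  classical
  have h1 : ∀ q : Qs h, ∃ p ∈ UniqueFactorizationMonoid.factors h, Associated q.1 p :=
    fun q => UniqueFactorizationMonoid.exists_mem_factors_of_dvd hh q.2.1 q.2.2.1
  choose p hp hpq using h1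
  let f : Qs h → {p // p ∈ (UniqueFactorizationMonoid.factors h).toFinset} :=
    fun q => ⟨p q, Multiset.mem_toFinset.2 (hp q)⟩
  refine Finite.of_injective f ?_
  intro q q' hqq'
  apply Subtype.ext
  have h2 : p q = p q' := congrArg Subtype.val hqq'
  exact eq_of_associated q.2.2.2 q'.2.2.2 ((hpq q).trans (h2 ▸ (hpq q').symm))

variable [Fintype (Qs h)]

theorem exists_factor (n : ℕ) (hh : h ≠ 0) (a : MvPolynomial (Fin N) B) (ha : a ∣ h ^ n) :
    ∃ (c : Bˣ) (d : Qs h → ℕ), a = C (c : B) * ∏ q, q.1 ^ d q := by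
  classical
  have ha0 : a ≠ 0 := by
    rintro rfl
    rw [zero_dvd_iff] at ha
    exact pow_ne_zero n hh ha
  induction a using WfDvdMonoid.induction_on_irreducible with
  | zero => exact absurd rfl ha0
  | unit v hv =>
    obtain ⟨c, hc, hc'⟩ := isUnit_iff_eq_C_of_isReduced.1 hv
    refine ⟨hc.unit, 0, ?_⟩
    simp [hc']
  | mul a p ha0' hp ih =>
    obtain ⟨c, d, hcd⟩ := ih (dvd_trans (dvd_mul_left a p) ha) ha0'
    have hp0 : p ≠ 0 := hp.ne_zero
    have hl : lc p ≠ 0 := lc_ne_zero hp0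
    let u₁ : Bˣ := Units.mk0 (lc p) hl
    let q₀ : MvPolynomial (Fin N) B := C ((u₁⁻¹ : Bˣ) : B) * p
    have hq₀ : p = C (u₁ : B) * q₀ := by
      rw [← mul_assoc, ← C_mul, Units.mul_inv, C_1, one_mul]
    have hirr : Irreducible q₀ := by
      have hu : IsUnit (C ((u₁⁻¹ : Bˣ) : B) : MvPolynomial (Fin N) B) := (u₁⁻¹).isUnit.map C
      exact (irreducible_isUnit_mul hu).2 hp
    have hdvd : q₀ ∣ h := by
      have h1 : q₀ ∣ p := ⟨C (u₁ : B), by rw [mul_comm]; exact hq₀⟩
      have h2 : q₀ ∣ h ^ n := dvd_trans (dvd_trans h1 (dvd_mul_right p a)) ha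
      exact hirr.prime.dvd_of_dvd_pow h2
    have hlc : lc q₀ = 1 := by
      rw [lc_mul, lc_C]
      exact Units.inv_mul u₁
    let q₁ : Qs h := ⟨q₀, hirr, hdvd, hlc⟩
    refine ⟨u₁ * c, d + Pi.single q₁ 1, ?_⟩
    have h3 : ∏ q : Qs h, q.1 ^ ((d + Pi.single q₁ 1 : Qs h → ℕ) q) = (∏ q : Qs h, q.1 ^ d q) * q₀ := by
      simp only [Pi.add_apply, pow_add, Finset.prod_mul_distrib]
      congr 1
      rw [Finset.prod_eq_single q₁]
      · rw [Pi.single_eq_same, pow_one]
      · intro q _ hq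
        rw [Pi.single_eq_of_ne hq, pow_zero]
      · intro hq
        exact absurd (Finset.mem_univ _) hq
    rw [h3, Units.val_mul, C_mul, hcd]
    conv_lhs => rw [hq₀]
    ring

theorem eq_zero_of_prod (c c' : Bˣ) (d d' : Qs h → ℕ)
    (he : C (c : B) * ∏ q, q.1 ^ d q = C (c' : B) * ∏ q, q.1 ^ d' q) (hd : ∀ q, d q = 0 ∨ d' q = 0) :
    c = c' ∧ d = 0 ∧ d' = 0 := by
  classical
  have key : ∀ (c c' : Bˣ) (d d' : Qs h → ℕ), C (c : B) * ∏ q, q.1 ^ d q = C (c' : B) * ∏ q, q.1 ^ d' q →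
      (∀ q, d q = 0 ∨ d' q = 0) → d = 0 := by
    intro c c' d d' he hd
    funext q
    by_contra hq
    have hp : Prime q.1 := q.2.1.prime
    have h1 : q.1 ∣ C (c : B) * ∏ q, q.1 ^ d q :=
      dvd_mul_of_dvd_right (dvd_trans (dvd_pow_self _ hq) (Finset.dvd_prod_of_mem _ (Finset.mem_univ q))) _
    rw [he] at h1
    have h2 : q.1 ∣ ∏ q, q.1 ^ d' q := by
      rcases hp.dvd_or_dvd h1 with h3 | h3
      · exact absurd (isUnit_of_dvd_unit h3 (c'.isUnit.map C)) hp.not_isUnit
      · exact h3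
    obtain ⟨q', -, hq'⟩ := hp.exists_mem_finset_dvd h2
    have hd'q' : d' q' ≠ 0 := by
      intro h0
      rw [h0, pow_zero] at hq'
      exact hp.not_isUnit (isUnit_of_dvd_one hq')
    have h3 : q.1 ∣ q'.1 := hp.dvd_of_dvd_pow hq'
    have h4 : Associated q.1 q'.1 := q.2.1.associated_of_dvd q'.2.1 h3
    have h5 : q = q' := Subtype.ext (eq_of_associated q.2.2.2 q'.2.2.2 h4)
    subst h5
    rcases hd q with h6 | h6
    · exact hq h6
    · exact hd'q' h6
  have h1 := key c c' d d' he hd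
  have h2 := key c' c d' d he.symm (fun q => (hd q).symm)
  refine ⟨?_, h1, h2⟩
  subst h1
  subst h2
  simp only [Pi.zero_apply, pow_zero, Finset.prod_const_one, mul_one] at he
  exact Units.ext (C_injective _ _ he)

section loc

variable {R : Type u} [CommRing R] (θ : MvPolynomial (Fin N) B →+* R) (hθ : Function.Injective θ)
  (hu : IsUnit (θ h)) (hden : ∀ z : R, ∃ (m : ℕ) (a : MvPolynomial (Fin N) B), z * θ h ^ m = θ a)

omit [Fintype (Qs h)] in
include hu in
lemma exists_w : ∃ w : Qs h → Additive Rˣ, ∀ q, ((w q).toMul : R) = θ q.1 := by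
  have h1 : ∀ q : Qs h, IsUnit (θ q.1) := fun q => isUnit_of_dvd_unit (map_dvd θ q.2.2.1) hu
  exact ⟨fun q => Additive.ofMul (h1 q).unit, fun q => rfl⟩

variable (w : Qs h → Additive Rˣ) (hw : ∀ q, ((w q).toMul : R) = θ q.1)

/-- constants -/
noncomputable def ec : Additive Bˣ →+ Additive Rˣ := um (θ.comp C)

lemma val_ec (c : Additive Bˣ) : ((ec θ c).toMul : R) = θ (C (c.toMul : B)) := rfl

include hw in
lemma val_nat (c : Additive Bˣ) (d : Qs h → ℕ) :
    ((ec θ c + sh w (fun q => (d q : ℤ))).toMul : R) = θ (C (c.toMul : B) * ∏ q, q.1 ^ d q) := by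
  rw [map_mul, map_prod]
  change ((ec θ c).toMul : R) * ((sh w (fun q => (d q : ℤ))).toMul : R) = _
  rw [val_ec, sh_apply]
  congr 1
  have h1 : ∀ s : Finset (Qs h), ((∑ q ∈ s, (d q : ℤ) • w q).toMul : R) = ∏ q ∈ s, θ (q.1 ^ d q) := by
    intro s
    classical
    induction s using Finset.induction_on with
    | empty => rfl
    | insert q s hq ih =>
      rw [Finset.sum_insert hq, Finset.prod_insert hq, ← ih, natCast_zsmul, map_pow, ← hw]
      rfl
  exact h1 _

include hden hθ hw in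
theorem exists_unit_decomp (hh : h ≠ 0) (u : Additive Rˣ) : ∃ (v : Additive Bˣ) (D : Qs h → ℤ),
    u = ec θ v + sh w D := by
  obtain ⟨m, a, ha⟩ := hden (u.toMul : R)
  obtain ⟨m', a', ha'⟩ := hden ((-u).toMul : R)
  have h0 : (u.toMul : R) * ((-u).toMul : R) = 1 := by
    change ((u + -u).toMul : R) = 1
    rw [add_neg_cancel]
    rfl
  have h1 : a * a' = h ^ (m + m') := by
    apply hθ
    rw [map_mul, ← ha, ← ha', map_pow, pow_add]
    linear_combination (θ h ^ m * θ h ^ m') * h0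
  obtain ⟨c, d, hcd⟩ := exists_factor (m + m') hh a ⟨a', h1.symm⟩
  obtain ⟨c₁, d₁, hcd₁⟩ := exists_factor m hh (h ^ m) dvd_rfl
  refine ⟨Additive.ofMul c - Additive.ofMul c₁, (fun q => (d q : ℤ)) - fun q => (d₁ q : ℤ), ?_⟩
  rw [map_sub, map_sub]
  have h2 : u + (ec θ (Additive.ofMul c₁) + sh w (fun q => (d₁ q : ℤ))) =
      ec θ (Additive.ofMul c) + sh w (fun q => (d q : ℤ)) := by
    apply addUnits_ext
    rw [val_nat θ w hw]
    change (u.toMul : R) * ((ec θ (Additive.ofMul c₁) + sh w (fun q => (d₁ q : ℤ))).toMul : R) = _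
    rw [val_nat θ w hw]
    change (u.toMul : R) * θ (C (c₁ : B) * ∏ q, q.1 ^ d₁ q) = θ (C (c : B) * ∏ q, q.1 ^ d q)
    rw [← hcd, ← hcd₁, map_pow, ha]
  rw [eq_sub_of_add_eq h2]
  abel

include hθ hw in
theorem unit_decomp_unique (v v' : Additive Bˣ) (D D' : Qs h → ℤ) (he : ec θ v + sh w D = ec θ v' + sh w D') :
    v = v' ∧ D = D' := by
  let d : Qs h → ℕ := fun q => (D q - D' q).toNat
  let d' : Qs h → ℕ := fun q => (D' q - D q).toNat
  have hd : D - D' = (fun q => (d q : ℤ)) - fun q => (d' q : ℤ) := by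
    funext q
    simp only [Pi.sub_apply, d, d']
    omega
  have h1 : ec θ v + sh w (fun q => (d q : ℤ)) = ec θ v' + sh w (fun q => (d' q : ℤ)) := by
    have h2 : sh w D - sh w D' = sh w (fun q => (d q : ℤ)) - sh w (fun q => (d' q : ℤ)) := by
      rw [← map_sub, ← map_sub, hd]
    have h3 : sh w (fun q => (d q : ℤ)) = sh w D - sh w D' + sh w (fun q => (d' q : ℤ)) := by
      rw [h2]; abel
    rw [h3]
    have h4 : ec θ v + (sh w D - sh w D' + sh w (fun q => (d' q : ℤ))) =
        (ec θ v + sh w D) - sh w D' + sh w (fun q => (d' q : ℤ)) := by abel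
    rw [h4, he]
    abel
  have h2 : C (v.toMul : B) * ∏ q, q.1 ^ d q = C (v'.toMul : B) * ∏ q, q.1 ^ d' q := by
    apply hθ
    rw [← val_nat θ w hw, ← val_nat θ w hw, h1]
  obtain ⟨h3, h4, h5⟩ := eq_zero_of_prod v.toMul v'.toMul d d' h2 (fun q => by
    simp only [d, d']
    omega)
  refine ⟨h3, ?_⟩
  rw [h4, h5] at hd
  rw [← sub_eq_zero, hd]
  funext q
  simp

end loc

end K965.UfdUnits
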