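import Groth.Agent.MultTori.K965.EqSplit
import Groth.Agent.MultTori.K965.UfdUnits
import Groth.Agent.MultTori.K965.DictUm
import Mathlib.RingTheory.TensorProduct.MvPolynomial
import Mathlib.RingTheory.Localization.Away.Basic

/-!
# Equivariant characters over an open subset of affine space
-/

set_option autoImplicit false
universe u
open MvPolynomial
open scoped TensorProduct
set_option linter.unusedSectionVars false

namespace K965.PolyChar

open K965.Pts K965.Decomp K965.UfdUnits K965.Gal K965.Dic K965.Dict K965.LatX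

variable {k B : Type u} [Field k] [Field B] [Algebra k B] {N : ℕ} {h : MvPolynomial (Fin N) k}
  {A₁ : Type u} [CommRing A₁] [Algebra k A₁] [Algebra (MvPolynomial (Fin N) k) A₁]
  [IsScalarTower k (MvPolynomial (Fin N) k) A₁]

/-- `B[x] → A₁ ⊗ B` -/
noncomputable def th (k B : Type u) [Field k] [Field B] [Algebra k B] (N : ℕ) (A₁ : Type u) [CommRing A₁] [Algebra k A₁]
    [Algebra (MvPolynomial (Fin N) k) A₁] : MvPolynomial (Fin N) B →+* A₁ ⊗[k] B :=
  eval₂Hom (inr k B A₁) (fun i => algebraMap (MvPolynomial (Fin N) k) A₁ (X i) ⊗ₜ 1)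

lemma th_C (b : B) : th k B N A₁ (C b) = 1 ⊗ₜ b := by
  rw [th, coe_eval₂Hom, eval₂_C]
  rfl

lemma th_X (i : Fin N) : th k B N A₁ (X i) = algebraMap (MvPolynomial (Fin N) k) A₁ (X i) ⊗ₜ 1 := by
  rw [th, coe_eval₂Hom, eval₂_X]

lemma th_map (a : MvPolynomial (Fin N) k) : th k B N A₁ (map (algebraMap k B) a) = algebraMap _ A₁ a ⊗ₜ 1 := by
  have h1 : (th k B N A₁).comp (map (algebraMap k B)) =
      ((Algebra.TensorProduct.includeLeft : A₁ →ₐ[k] A₁ ⊗[k] B) : A₁ →+* A₁ ⊗[k] B).comp
        (algebraMap (MvPolynomial (Fin N) k) A₁) := by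
    apply MvPolynomial.ringHom_ext
    · intro c
      rw [RingHom.comp_apply, RingHom.comp_apply, map_C, th_C, ← algebraMap_eq, ← IsScalarTower.algebraMap_apply]
      change (1 : A₁) ⊗ₜ[k] algebraMap k B c = algebraMap k A₁ c ⊗ₜ[k] (1 : B)
      rw [Algebra.algebraMap_eq_smul_one, Algebra.algebraMap_eq_smul_one, TensorProduct.smul_tmul]
    · intro i
      rw [RingHom.comp_apply, RingHom.comp_apply, map_X, th_X]
      rfl
  exact congrArg (fun z : MvPolynomial (Fin N) k →+* A₁ ⊗[k] B => z a) h1

lemma th_tensor (z : B ⊗[k] MvPolynomial (Fin N) k) : th k B N A₁ (algebraTensorAlgEquiv k B z) =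
    Algebra.TensorProduct.comm k B A₁ (Algebra.TensorProduct.map (AlgHom.id k B)
      (IsScalarTower.toAlgHom k (MvPolynomial (Fin N) k) A₁) z) := by
  induction z using TensorProduct.induction_on with
  | zero => simp
  | tmul b p =>
    rw [algebraTensorAlgEquiv_tmul, smul_eq_C_mul, map_mul, th_C, th_map]
    simp
  | add x y hx hy => rw [map_add, map_add, hx, hy, map_add, map_add]

lemma th_injective (hinj : Function.Injective (algebraMap (MvPolynomial (Fin N) k) A₁)) :
    Function.Injective (th k B N A₁) := by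
  intro a b hab
  obtain ⟨a, rfl⟩ := (algebraTensorAlgEquiv (σ := Fin N) k B).surjective a
  obtain ⟨b, rfl⟩ := (algebraTensorAlgEquiv (σ := Fin N) k B).surjective b
  rw [th_tensor, th_tensor] at hab
  have h1 := (Algebra.TensorProduct.comm k B A₁).injective hab
  have h2 : Function.Injective (Algebra.TensorProduct.map (AlgHom.id k B)
      (IsScalarTower.toAlgHom k (MvPolynomial (Fin N) k) A₁)) :=
    Module.Flat.lTensor_preserves_injective_linearMap (M := B)
      (IsScalarTower.toAlgHom k (MvPolynomial (Fin N) k) A₁).toLinearMap hinj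
  rw [h2 h1]

lemma th_surj [IsLocalization.Away h A₁] (z : A₁ ⊗[k] B) :
    ∃ (m : ℕ) (a : MvPolynomial (Fin N) B), z * th k B N A₁ (map (algebraMap k B) h) ^ m = th k B N A₁ a := by
  induction z using TensorProduct.induction_on with
  | zero => exact ⟨0, 0, by simp⟩
  | tmul x b =>
    obtain ⟨⟨a, s⟩, ha⟩ := IsLocalization.surj (Submonoid.powers h) x
    obtain ⟨m, hm⟩ := s.2
    refine ⟨m, map (algebraMap k B) a * C b, ?_⟩
    dsimp only at ha hm
    rw [th_map, map_mul, th_map, th_C, Algebra.TensorProduct.tmul_pow, Algebra.TensorProduct.tmul_mul_tmul,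
      Algebra.TensorProduct.tmul_mul_tmul, one_pow, mul_one, mul_one, one_mul, ← ha, ← map_pow, hm]
  | add x y hx hy =>
    obtain ⟨m, a, ha⟩ := hx
    obtain ⟨m', a', ha'⟩ := hy
    refine ⟨m + m', a * (map (algebraMap k B) h) ^ m' + a' * (map (algebraMap k B) h) ^ m, ?_⟩
    rw [map_add, map_mul, map_mul, map_pow, map_pow, ← ha, ← ha']
    ring

lemma isUnit_th [IsLocalization.Away h A₁] : IsUnit (th k B N A₁ (map (algebraMap k B) h)) := by
  rw [th_map]
  exact (IsLocalization.Away.algebraMap_isUnit h).map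
    (Algebra.TensorProduct.includeLeft : A₁ →ₐ[k] A₁ ⊗[k] B)

variable {G : Type} [Group G] [MulSemiringAction G B] [SMulCommClass G k B]

lemma act_th (g : G) (a : MvPolynomial (Fin N) B) : act k B A₁ g (th k B N A₁ a) = th k B N A₁ (map (gr k g) a) := by
  have h1 : (act k B A₁ g : A₁ ⊗[k] B →+* A₁ ⊗[k] B).comp (th k B N A₁) = (th k B N A₁).comp (map (gr k g)) := by
    apply MvPolynomial.ringHom_ext
    · intro c
      rw [RingHom.comp_apply, RingHom.comp_apply, map_C, th_C, th_C]
      exact act_tmul g 1 c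
    · intro i
      rw [RingHom.comp_apply, RingHom.comp_apply, map_X, th_X]
      refine (act_tmul g _ 1).trans ?_
      rw [smul_one]
  exact congrArg (fun z : MvPolynomial (Fin N) B →+* A₁ ⊗[k] B => z a) h1

/-- `G` acts on the normalized factors -/
@[reducible] noncomputable def qAct (G : Type) [Group G] [MulSemiringAction G B] [SMulCommClass G k B]
    (h : MvPolynomial (Fin N) k) : MulAction G (Qs (map (algebraMap k B) h)) where
  smul g q := ⟨map (gr k g) q.1, by
    have hequiv : ∀ a : MvPolynomial (Fin N) B, map (gr k g) a = (mapEquiv (Fin N) (MulSemiringAction.toRingEquiv G B g)) a :=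
      fun a => rfl
    refine ⟨?_, ?_, ?_⟩
    · rw [hequiv]
      exact (MulEquiv.irreducible_iff (mapEquiv (Fin N) (MulSemiringAction.toRingEquiv G B g))).2 q.2.1
    · have h1 := map_dvd (map (gr k g)) q.2.2.1
      have h2 : map (gr k g) (map (algebraMap k B) h) = map (algebraMap k B) h := by
        rw [map_map, gr_comp]
      rwa [h2] at h1
    · rw [lc_map, q.2.2.2, map_one]⟩
  one_smul q := Subtype.ext (by
    change map (gr k (1 : G)) q.1 = q.1
    rw [gr_one, map_id])
  mul_smul g g' q := Subtype.ext (by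
    change map (gr k (g * g')) q.1 = map (gr k g) (map (gr k g') q.1)
    rw [map_map, gr_mul])

variable {M : Type} [AddCommGroup M] [DistribMulAction G M] {X : Type} [Fintype X] [MulAction G X]
  {φ : X → M →+ ℤ} (hφ : IsRes G M φ)

include hφ in
/-- Equivariant characters over an open subset of affine space. -/
theorem exists_char_split (hh : h ≠ 0) [IsLocalization.Away h A₁] (χ : M →+ Additive (A₁ ⊗[k] B)ˣ) (hχ : Eqv G χ) :
    ∃ (c : M →+ Additive Bˣ) (p : LX X →+ Additive (A₁ ⊗[k] B)ˣ), (∀ (g : G) m, c (g • m) = um (gr k g) (c m)) ∧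
      Eqv G p ∧ ∀ m, χ m = um (inr k B A₁) (c m) + p (jX φ m) := by
  classical
  have hinj : Function.Injective (algebraMap (MvPolynomial (Fin N) k) A₁) :=
    IsLocalization.injective A₁ (powers_le_nonZeroDivisors_of_noZeroDivisors hh)
  have hhB : map (algebraMap k B) h ≠ 0 := by
    rw [Ne, map_eq_zero_iff _ (map_injective _ (algebraMap k B).injective)]
    exact hh
  have hfin : Finite (Qs (map (algebraMap k B) h)) := finite_Qs hhB
  cases nonempty_fintype (Qs (map (algebraMap k B) h))
  let _ : MulAction G (Qs (map (algebraMap k B) h)) := qAct G h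
  obtain ⟨w, hw⟩ := exists_w (th k B N A₁) (isUnit_th (B := B) (h := h) (A₁ := A₁))
  have hθ := th_injective (B := B) hinj
  obtain ⟨c, p, hc, hp, hcp⟩ := EqSplit.exists_split_char hφ
    (fun g => um (act k B A₁ g : A₁ ⊗[k] B →+* A₁ ⊗[k] B)) (fun g => um (gr k g)) (ec (th k B N A₁))
    (by
      intro g c
      apply addUnits_ext
      rw [val_um, val_ec, val_ec, val_um, ← map_C]
      exact act_th g _) w
    (by
      intro g q
      apply addUnits_ext
      rw [val_um, hw, hw]
      exact act_th g _)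
    (fun v v' D D' => unit_decomp_unique (th k B N A₁) hθ w hw v v' D D')
    (fun u => exists_unit_decomp (th k B N A₁) hθ (th_surj (h := h)) w hw hhB u)
    χ hχ
  refine ⟨c, p, hc, hp, fun m => ?_⟩
  rw [hcp]
  congr 1
  apply addUnits_ext
  rw [val_ec, th_C]
  rfl

end K965.PolyChar
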