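import Groth.Agent.MultTori.K965.TorDom
import Mathlib.AlgebraicGeometry.Birational.Birational
import Mathlib.AlgebraicGeometry.AffineSpace
import Mathlib.CategoryTheory.Monoidal.Cartesian.Over
import Mathlib.RingTheory.Localization.BaseChange

/-!
# Birational equivalences between affine schemes
-/

set_option autoImplicit false
universe u
open CategoryTheory MonoidalCategory CartesianMonoidalCategory AlgebraicGeometry Limits
open scoped TensorProduct

namespace K965.RatGeo

open K965.Pts K965.TorDom

/-- the structure morphism -/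
noncomputable abbrev st (k H : Type u) [CommRing k] [CommRing H] [Algebra k H] :
    Spec (CommRingCat.of H) ⟶ Spec (CommRingCat.of k) := Spec.map (CommRingCat.ofHom (algebraMap k H))

section

variable {k H H' : Type u} [CommRing k] [CommRing H] [Algebra k H] [CommRing H'] [Algebra k H']

lemma isDominant_of_injective (φ : H →+* H') (h : Function.Injective φ) :
    IsDominant (Spec.map (CommRingCat.ofHom φ)) := by
  refine ⟨?_⟩
  have h1 : DenseRange (PrimeSpectrum.comap φ) := by
    rw [PrimeSpectrum.denseRange_comap_iff_ker_le_nilRadical, (RingHom.injective_iff_ker_eq_bot φ).1 h]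
    exact bot_le
  exact h1

lemma birat_of_injective (φ : H →ₐ[k] H') (h : Function.Injective φ)
    (ho : IsOpenImmersion (Spec.map (CommRingCat.ofHom (φ : H →+* H')))) :
    Scheme.BirationalOver (st k H') (st k H) := by
  have := isDominant_of_injective (φ : H →+* H') h
  refine Scheme.Hom.birationalOver (Spec.map (CommRingCat.ofHom (φ : H →+* H'))) _ _ ?_
  rw [← Spec.map_comp]
  congr 1
  ext a
  exact φ.commutes a

lemma birat_of_equiv (e : H ≃ₐ[k] H') : Scheme.BirationalOver (st k H') (st k H) := by
  refine birat_of_injective (e : H →ₐ[k] H') e.injective ?_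
  have : IsIso (CommRingCat.ofHom ((e : H →ₐ[k] H') : H →+* H')) :=
    inferInstanceAs (IsIso (e.toRingEquiv.toCommRingCatIso.hom))
  infer_instance

end

section tensor

variable {k H L K : Type u} [CommRing k] [CommRing H] [Algebra k H] [CommRing L] [Algebra k L] [Algebra H L]
  [IsScalarTower k H L] [CommRing K] [Algebra k K] (t : H) [IsLocalization.Away t L]

include t in
lemma isOpenImmersion_tensor : IsOpenImmersion (Spec.map (CommRingCat.ofHom
    ((Algebra.TensorProduct.map (IsScalarTower.toAlgHom k H L) (AlgHom.id k K) : H ⊗[k] K →ₐ[k] L ⊗[k] K) :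
      H ⊗[k] K →+* L ⊗[k] K))) := by
  let φ : H ⊗[k] K →ₐ[H] L ⊗[k] K := Algebra.TensorProduct.map (Algebra.ofId H L) (AlgHom.id k K)
  algebraize [φ.toRingHom]
  have : IsLocalization.Away (t ⊗ₜ 1 : H ⊗[k] K) (L ⊗[k] K) := by
    have : .powers (t ⊗ₜ[k] 1) = Algebra.algebraMapSubmonoid (H ⊗[k] K) (.powers t) := by simp
    rw [IsLocalization.Away, this]
    refine IsLocalization.tensorProduct_tensorProduct _ _ _ _ ?_
    ext; simp [RingHom.algebraMap_toAlgebra, φ]
  exact IsOpenImmersion.of_isLocalization (t ⊗ₜ[k] (1 : K))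

end tensor

lemma birat_tensor {k H L K : Type u} [Field k] [CommRing H] [Algebra k H] [CommRing L] [Algebra k L] [Algebra H L]
    [IsScalarTower k H L] [CommRing K] [Algebra k K] (t : H) [IsLocalization.Away t L]
    (hinj : Function.Injective (algebraMap H L)) : Scheme.BirationalOver (st k (L ⊗[k] K)) (st k (H ⊗[k] K)) := by
  refine birat_of_injective (Algebra.TensorProduct.map (IsScalarTower.toAlgHom k H L) (AlgHom.id k K)) ?_
    (isOpenImmersion_tensor t)
  exact Module.Flat.rTensor_preserves_injective_linearMap (M := K) (IsScalarTower.toAlgHom k H L).toLinearMap hinj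

/-- The product of affine schemes. -/
lemma birat_prod {k : Type u} [CommRing k] (X Y : Over (Spec (CommRingCat.of k))) [IsAffine X.left] [IsAffine Y.left]
    (H K : Type u) [CommRing H] [Algebra k H] [CommRing K] [Algebra k K]
    (eX : sp (algebraMap k H) ≅ X) (eY : sp (algebraMap k K) ≅ Y) :
    Scheme.BirationalOver (X ⊗ Y).hom (st k (H ⊗[k] K)) := by
  let e₁ : sp (algebraMap k H) ⊗ sp (algebraMap k K) ≅ X ⊗ Y := eX ⊗ᵢ eY
  have h1 : Scheme.BirationalOver (sp (algebraMap k H) ⊗ sp (algebraMap k K)).hom (X ⊗ Y).hom := by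
    have : IsIso e₁.hom.left := inferInstance
    exact Scheme.Hom.birationalOver e₁.hom.left _ _ (Over.w e₁.hom)
  refine h1.symm.trans ?_
  exact Scheme.Hom.birationalOver (pullbackSpecIso k H K).hom _ _ (pullbackSpecIso_hom_base k H K)

/-- Principal open subsets. -/
lemma birat_away {k H : Type u} [CommRing k] [CommRing H] [IsDomain H] [Algebra k H] (t : H) (ht : t ≠ 0) (L : Type u)
    [CommRing L] [Algebra k L] [Algebra H L] [IsScalarTower k H L] [IsLocalization.Away t L] :
    Scheme.BirationalOver (st k L) (st k H) :=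
  birat_of_injective (IsScalarTower.toAlgHom k H L)
    (IsLocalization.injective L (powers_le_nonZeroDivisors_of_noZeroDivisors ht))
    (IsOpenImmersion.of_isLocalization t)

/-- Affine space. -/
lemma isRationalOver_mvPolynomial (k : Type u) [Field k] (n : ℕ) :
    Scheme.IsRationalOver (st k (MvPolynomial (Fin n) k)) := by
  refine ⟨ULift.{u} (Fin n), ?_⟩
  have h1 : Scheme.BirationalOver (st k (MvPolynomial (Fin n) k)) (st k (MvPolynomial (ULift.{u} (Fin n)) k)) :=
    birat_of_equiv (MvPolynomial.renameEquiv k Equiv.ulift)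
  refine h1.trans ?_
  exact Scheme.Hom.birationalOver (AffineSpace.SpecIso (ULift.{u} (Fin n)) (CommRingCat.of k)).inv _ _
    (AffineSpace.SpecIso_inv_over _)

end K965.RatGeo
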