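import Groth.Agent.MultTori.K965.HypSurf
import Mathlib.RingTheory.Localization.Integer
import Mathlib.RingTheory.Localization.Away.Basic

/-!
# Retract rationality from lifting over discrete valuation rings, in terms of rings
-/

set_option autoImplicit false
universe u
open Polynomial
set_option linter.unusedSectionVars false

namespace K965.Ret

section factor

variable {k : Type u} [Field k] {H P : Type u} [CommRing H] [Algebra k H] [CommRing P] [IsDomain P] [Algebra k P]

/-- A homomorphism from a finitely generated algebra to a localization of `P` factors through some `P_h`. -/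
theorem exists_factor_away [Algebra.FiniteType k H] (M : Submonoid P) (hM : M ≤ nonZeroDivisors P) (A : Type u)
    [CommRing A] [Algebra P A] [IsLocalization M A] [Algebra k A] [IsScalarTower k P A] (s : H →ₐ[k] A) :
    ∃ h ∈ M, ∀ (h' : P), h ∣ h' → h' ∈ M → ∀ (L : Type u) [CommRing L] [Algebra P L] [IsLocalization.Away h' L]
      [Algebra k L] [IsScalarTower k P L] (j : L →ₐ[P] A), ∃ s' : H →ₐ[k] L, ∀ x, j (s' x) = s x := by
  classical
  obtain ⟨S, hS⟩ := (inferInstance : Algebra.FiniteType k H).out
  obtain ⟨b, hb⟩ := IsLocalization.exist_integer_multiples_of_finset M (S.image s)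
  refine ⟨b, b.2, ?_⟩
  intro h' hdvd hh' L _ _ _ _ _ j
  have hjinj : Function.Injective j := by
    have h1 : Function.Injective (algebraMap P A) := IsLocalization.injective A hM
    intro x y hxy
    obtain ⟨⟨a, m⟩, ha⟩ := IsLocalization.surj (Submonoid.powers h') x
    obtain ⟨⟨a', m'⟩, ha'⟩ := IsLocalization.surj (Submonoid.powers h') y
    dsimp only at ha ha'
    have hu : IsUnit (algebraMap P L (m * m')) := IsLocalization.map_units L (m * m')
    have e1 : x * algebraMap P L (m * m') = algebraMap P L (a * m') := by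
      rw [map_mul, map_mul, ← ha]; ring
    have e2 : y * algebraMap P L (m * m') = algebraMap P L (a' * m) := by
      rw [map_mul, map_mul, ← ha']; ring
    have e3 : algebraMap P A (a * m') = algebraMap P A (a' * m) := by
      rw [← AlgHom.commutes j, ← AlgHom.commutes j, ← e1, ← e2, map_mul j x, map_mul j y, hxy]
    have e4 := h1 e3
    apply hu.mul_right_cancel
    rw [e1, e2, e4]
  have hjk : ∀ c : k, j (algebraMap k L c) = algebraMap k A c := by
    intro c
    rw [IsScalarTower.algebraMap_apply k P L, AlgHom.commutes, ← IsScalarTower.algebraMap_apply k P A]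
  let j' : L →ₐ[k] A := { (j : L →+* A) with commutes' := hjk }
  have hrange : s.range ≤ j'.range := by
    rw [← Algebra.map_top, ← hS, AlgHom.map_adjoin, Algebra.adjoin_le_iff]
    rintro _ ⟨x, hx, rfl⟩
    obtain ⟨a, ha⟩ := hb (s x) (Finset.mem_image_of_mem _ hx)
    have hbu : IsUnit (algebraMap P L b) :=
      isUnit_of_dvd_unit (map_dvd _ hdvd) (IsLocalization.Away.algebraMap_isUnit h')
    obtain ⟨w, hw⟩ := hbu.exists_right_inv
    refine ⟨algebraMap P L a * w, ?_⟩
    change j _ = s x
    have hb' : algebraMap P A b * j w = 1 := by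
      rw [← AlgHom.commutes j, ← map_mul, hw, map_one]
    rw [map_mul, AlgHom.commutes, ha, Algebra.smul_def]
    change algebraMap P A b * s x * j w = s x
    linear_combination (s x) * hb'
  let ε : L ≃ₐ[k] j'.range := AlgEquiv.ofInjective j' hjinj
  refine ⟨(ε.symm : j'.range →ₐ[k] L).comp (s.codRestrict j'.range fun x => hrange ⟨x, rfl⟩), fun x => ?_⟩
  have h2 : ε (ε.symm (s.codRestrict j'.range (fun x => hrange ⟨x, rfl⟩) x)) =
      s.codRestrict j'.range (fun x => hrange ⟨x, rfl⟩) x := ε.apply_symm_apply _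
  exact congrArg Subtype.val h2

end factor

section dvr

variable {k : Type u} [Field k] {P K : Type u} [CommRing P] [IsDomain P] [IsNoetherianRing P] [Algebra k P] [Field K]
  [Algebra k K] (ρ : P →ₐ[k] K) (F : P) (hF : Prime F) (hρF : ρ F = 0) (hker : ∀ a, ρ a = 0 → F ∣ a)

instance ker_isPrime : (RingHom.ker ρ).IsPrime := RingHom.ker_isPrime ρ

include hF hρF hker in
theorem isDiscreteValuationRing : IsDiscreteValuationRing (Localization.AtPrime (RingHom.ker ρ)) := by
  let A := Localization.AtPrime (RingHom.ker ρ)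
  have hA : IsNoetherianRing A := IsLocalization.isNoetherianRing (RingHom.ker ρ).primeCompl A inferInstance
  have hdom : IsDomain A := inferInstance
  have hmax : IsLocalRing.maximalIdeal A = Ideal.span {algebraMap P A F} := by
    rw [← Localization.AtPrime.map_eq_maximalIdeal]
    have : RingHom.ker ρ = Ideal.span {F} := by
      ext a
      rw [Ideal.mem_span_singleton]
      refine ⟨fun h => hker a h, ?_⟩
      rintro ⟨c, rfl⟩
      rw [RingHom.mem_ker, map_mul, hρF, zero_mul]
    have h0 : Ideal.map (algebraMap P A) (RingHom.ker ρ) = Ideal.map (algebraMap P A) (Ideal.span {F}) :=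
      congrArg _ this
    exact h0.trans (by rw [Ideal.map_span, Set.image_singleton])
  have hnf : ¬ IsField A := by
    rw [IsLocalRing.isField_iff_maximalIdeal_eq, hmax, Ideal.span_singleton_eq_bot]
    intro h
    have := IsLocalization.injective A (RingHom.ker ρ).primeCompl_le_nonZeroDivisors (h.trans (map_zero _).symm)
    exact hF.ne_zero this
  have h1 := (IsDiscreteValuationRing.TFAE A hnf).out 0 4
  rw [h1]
  exact ⟨⟨_, hmax⟩⟩

/-- The map from the localization to `K`. -/
noncomputable def rhoA : Localization.AtPrime (RingHom.ker ρ) →ₐ[k] K :=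
  IsLocalization.liftAlgHom (M := (RingHom.ker ρ).primeCompl) (f := ρ) (fun y => by
    rw [isUnit_iff_ne_zero]
    exact y.2)

lemma rhoA_algebraMap (a : P) : rhoA ρ (algebraMap P _ a) = ρ a := by
  simp [rhoA]

lemma rhoA_surjective (hsurj : ∀ z : K, ∃ a b, ρ b ≠ 0 ∧ z * ρ b = ρ a) : Function.Surjective (rhoA ρ) := by
  intro z
  obtain ⟨a, b, hb, hab⟩ := hsurj z
  refine ⟨IsLocalization.mk' _ a (⟨b, hb⟩ : (RingHom.ker ρ).primeCompl), ?_⟩
  have h1 : (IsLocalization.mk' (Localization.AtPrime (RingHom.ker ρ)) a (⟨b, hb⟩ : (RingHom.ker ρ).primeCompl)) *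
      algebraMap P _ b = algebraMap P _ a := IsLocalization.mk'_spec _ a (⟨b, hb⟩ : (RingHom.ker ρ).primeCompl)
  have h2 := congrArg (rhoA ρ) h1
  rw [map_mul, rhoA_algebraMap, rhoA_algebraMap, ← hab] at h2
  exact mul_right_cancel₀ hb h2

lemma ker_rhoA : RingHom.ker (rhoA ρ) = IsLocalRing.maximalIdeal (Localization.AtPrime (RingHom.ker ρ)) := by
  have h1 : (RingHom.ker (rhoA ρ)) ≤ IsLocalRing.maximalIdeal (Localization.AtPrime (RingHom.ker ρ)) :=
    IsLocalRing.le_maximalIdeal (RingHom.ker_ne_top _)
  refine le_antisymm h1 ?_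
  rw [← Localization.AtPrime.map_eq_maximalIdeal, Ideal.map_le_iff_le_comap]
  intro a ha
  rw [Ideal.mem_comap, RingHom.mem_ker, rhoA_algebraMap]
  exact ha

end dvr

section main

/-- Lifting over discrete valuation rings gives a rational retraction, in terms of rings. -/
theorem exists_ring_retract (k : Type u) [Field k] (H : Type u) [CommRing H] [IsDomain H] [Algebra k H]
    [Algebra.Smooth k H]
    (hlift : ∀ (A : Type u) [CommRing A] [IsDomain A] [IsDiscreteValuationRing A] [Algebra k A]
      (u : H →ₐ[k] IsLocalRing.ResidueField A), ∃ s : H →ₐ[k] A, ∀ x, IsLocalRing.residue A (s x) = u x) :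
    ∃ (N : ℕ) (h : MvPolynomial (Fin N) k) (t : H) (s : H →ₐ[k] Localization.Away h)
      (σ : Localization.Away h →ₐ[k] Localization.Away t), h ≠ 0 ∧ t ≠ 0 ∧ ∀ x : H, σ (s x) = algebraMap H _ x := by
  let K := FractionRing H
  obtain ⟨n, ρ, F, hF, hρF, hker, hsurj⟩ := exists_hypersurface k H K
  let P := MvPolynomial (Fin (n + 1)) k
  let A := Localization.AtPrime (RingHom.ker ρ)
  have hdvr : IsDiscreteValuationRing A := isDiscreteValuationRing ρ F hF hρF hker
  -- the residue field of `A` is `K`
  have hkerA : RingHom.ker (rhoA ρ) = IsLocalRing.maximalIdeal A := ker_rhoA ρ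
  have hu : ∀ z : K, ∃ w : IsLocalRing.ResidueField A, ∀ a : A, rhoA ρ a = z ↔ IsLocalRing.residue A a = w := by
    intro z
    obtain ⟨a, rfl⟩ := rhoA_surjective ρ hsurj z
    refine ⟨IsLocalRing.residue A a, fun b => ?_⟩
    rw [← sub_eq_zero, ← map_sub, ← RingHom.mem_ker, hkerA, ← sub_eq_zero (a := IsLocalRing.residue A b), ← map_sub,
      IsLocalRing.residue_eq_zero_iff]
  choose w hw using hu
  have hw' : ∀ a : A, w (rhoA ρ a) = IsLocalRing.residue A a := fun a => ((hw _ a).1 rfl).symm
  let ε : K →ₐ[k] IsLocalRing.ResidueField A :=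
    { toFun := w
      map_one' := by rw [← map_one (rhoA ρ), hw', map_one]
      map_mul' := fun x y => by
        obtain ⟨a, rfl⟩ := rhoA_surjective ρ hsurj x
        obtain ⟨b, rfl⟩ := rhoA_surjective ρ hsurj y
        rw [← map_mul, hw', hw', hw', map_mul]
      map_zero' := by rw [← map_zero (rhoA ρ), hw', map_zero]
      map_add' := fun x y => by
        obtain ⟨a, rfl⟩ := rhoA_surjective ρ hsurj x
        obtain ⟨b, rfl⟩ := rhoA_surjective ρ hsurj y
        rw [← map_add, hw', hw', hw', map_add]
      commutes' := fun c => by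
        rw [← AlgHom.commutes (rhoA ρ), hw']
        rfl }
  obtain ⟨s₀, hs₀⟩ := hlift A (ε.comp (IsScalarTower.toAlgHom k H K))
  have hs₀' : ∀ x : H, rhoA ρ (s₀ x) = algebraMap H K x := by
    intro x
    rw [hw]
    exact hs₀ x
  -- factor `s₀` through `P_h`
  obtain ⟨h, hh, hfac⟩ := exists_factor_away (RingHom.ker ρ).primeCompl
    (RingHom.ker ρ).primeCompl_le_nonZeroDivisors A s₀
  have hh0 : h ≠ 0 := nonZeroDivisors.ne_zero ((RingHom.ker ρ).primeCompl_le_nonZeroDivisors hh)
  have hunit : ∀ y : Submonoid.powers h, IsUnit (Algebra.ofId P A y) := by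
    rintro ⟨_, m, rfl⟩
    have h1 := (IsLocalization.map_units A (⟨h, hh⟩ : (RingHom.ker ρ).primeCompl)).pow m
    rwa [← map_pow] at h1
  let j : Localization.Away h →ₐ[P] A := IsLocalization.liftAlgHom (M := Submonoid.powers h) (f := Algebra.ofId P A) hunit
  obtain ⟨s, hs⟩ := hfac h dvd_rfl hh (Localization.Away h) j
  -- factor `ρ` through `H_t`
  obtain ⟨d, hd, hfac'⟩ := exists_factor_away (k := k) (H := P) (nonZeroDivisors H) le_rfl K ρ
  obtain ⟨a', b', hb', hab'⟩ := IsFractionRing.div_surjective (A := H) (ρ h)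
  have hρh : ρ h ≠ 0 := hh
  have ha'0 : a' ≠ 0 := by
    rintro rfl
    rw [map_zero, zero_div] at hab'
    exact hρh hab'.symm
  let t : H := d * a'
  have ht : t ∈ nonZeroDivisors H := mul_mem hd (mem_nonZeroDivisors_of_ne_zero ha'0)
  have hunit' : ∀ y : Submonoid.powers t, IsUnit (Algebra.ofId H K y) := by
    rintro ⟨_, m, rfl⟩
    have h1 := (IsLocalization.map_units K (⟨t, ht⟩ : nonZeroDivisors H)).pow m
    rwa [← map_pow] at h1
  let jt : Localization.Away t →ₐ[H] K := IsLocalization.liftAlgHom (M := Submonoid.powers t) (f := Algebra.ofId H K) hunit'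
  obtain ⟨ρt, hρt⟩ := hfac' t (dvd_mul_right _ _) ht (Localization.Away t) jt
  have hjtinj : Function.Injective jt := by
    have hfr : Function.Injective (algebraMap H K) := IsFractionRing.injective H K
    intro x y hxy
    obtain ⟨⟨a, m⟩, ha⟩ := IsLocalization.surj (Submonoid.powers t) x
    obtain ⟨⟨a', m'⟩, ha'⟩ := IsLocalization.surj (Submonoid.powers t) y
    dsimp only at ha ha'
    have hu : IsUnit (algebraMap H (Localization.Away t) (m * m')) := IsLocalization.map_units _ (m * m')
    have e1 : x * algebraMap H (Localization.Away t) (m * m') = algebraMap H _ (a * m') := by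
      rw [map_mul, map_mul, ← ha]; ring
    have e2 : y * algebraMap H (Localization.Away t) (m * m') = algebraMap H _ (a' * m) := by
      rw [map_mul, map_mul, ← ha']; ring
    have e3 : algebraMap H K (a * m') = algebraMap H K (a' * m) := by
      rw [← AlgHom.commutes jt, ← AlgHom.commutes jt, ← e1, ← e2, map_mul jt x, map_mul jt y, hxy]
    have e4 := hfr e3
    apply hu.mul_right_cancel
    rw [e1, e2, e4]
  -- `h` becomes a unit in `H_t`
  have hρth : IsUnit (ρt h) := by
    have h1 : ρt h * algebraMap H (Localization.Away t) b' = algebraMap H (Localization.Away t) a' := by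
      apply hjtinj
      rw [map_mul, hρt, AlgHom.commutes, AlgHom.commutes, ← hab', div_mul_cancel₀]
      rw [Ne, IsFractionRing.to_map_eq_zero_iff]
      exact nonZeroDivisors.ne_zero hb'
    have h2 : IsUnit (algebraMap H (Localization.Away t) a') :=
      isUnit_of_dvd_unit (map_dvd _ (dvd_mul_left a' d)) (IsLocalization.Away.algebraMap_isUnit t)
    rw [← h1] at h2
    exact isUnit_of_mul_isUnit_left h2
  let σ : Localization.Away h →ₐ[k] Localization.Away t :=
    IsLocalization.liftAlgHom (M := Submonoid.powers h) (f := ρt) (by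
      rintro ⟨_, m, rfl⟩
      have h1 := hρth.pow m
      rwa [← map_pow] at h1)
  refine ⟨n + 1, h, t, s, σ, hh0, nonZeroDivisors.ne_zero ht, fun x => ?_⟩
  apply hjtinj
  rw [AlgHom.commutes, ← hs₀' x, ← hs x]
  -- `jt ∘ σ = rhoA ∘ j`
  have key : ∀ z : Localization.Away h, jt (σ z) = rhoA ρ (j z) := by
    intro z
    have h1 : ((jt : Localization.Away t →+* K).comp (σ : Localization.Away h →+* Localization.Away t)) =
        ((rhoA ρ : A →+* K).comp (j : Localization.Away h →+* A)) := by
      apply IsLocalization.ringHom_ext (Submonoid.powers h)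
      refine RingHom.ext fun a => ?_
      change jt (σ (algebraMap P _ a)) = rhoA ρ (j (algebraMap P _ a))
      rw [AlgHom.commutes j, rhoA_algebraMap]
      have h2 : σ (algebraMap P _ a) = ρt a := IsLocalization.lift_eq _ _
      rw [h2, hρt]
    exact congrArg (fun f : Localization.Away h →+* K => f z) h1
  exact key _

end main

end K965.Ret
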