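import Mathlib.RingTheory.Spectrum.Maximal.Defs
import Mathlib.RingTheory.Ideal.Quotient.Operations
import Mathlib.RingTheory.Ideal.Quotient.ChineseRemainder
import Mathlib.LinearAlgebra.TensorProduct.RightExactness
import Mathlib.RingTheory.Ideal.GoingUp
import Mathlib.RingTheory.TensorProduct.Finite
import Mathlib.RingTheory.LocalRing.ResidueField.Defs

/-!
# Lifting units from the residue rings of a semilocal ring
-/

set_option autoImplicit false
universe u v
open TensorProduct

namespace K965.SemiLift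

variable {A : Type u} [CommRing A] [Finite (MaximalSpectrum A)]

/-- Orthogonal idempotents modulo the maximal ideals. -/
theorem exists_idem (m : MaximalSpectrum A) :
    ∃ e : A, Ideal.Quotient.mk m.asIdeal e = 1 ∧ ∀ m' : MaximalSpectrum A, m' ≠ m → Ideal.Quotient.mk m'.asIdeal e = 0 := by
  classical
  have hco : Pairwise fun i j : MaximalSpectrum A => IsCoprime i.asIdeal j.asIdeal := by
    intro i j hij
    rw [Ideal.isCoprime_iff_sup_eq]
    exact i.isMaximal.coprime_of_ne j.isMaximal (fun h => hij (MaximalSpectrum.ext h))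
  obtain ⟨e, he⟩ := Ideal.pi_quotient_surjective hco (fun m' => if m' = m then 1 else 0)
  refine ⟨e, ?_, ?_⟩
  · rw [he m, if_pos rfl]
  · intro m' hm'
    rw [he m', if_neg hm']

/-- The reduction of `A ⊗ B` modulo `m`. -/
noncomputable abbrev red (B : Type v) [CommRing B] [Algebra A B] (m : MaximalSpectrum A) :
    A ⊗[A] B →ₐ[A] (A ⧸ m.asIdeal) ⊗[A] B :=
  Algebra.TensorProduct.map (Ideal.Quotient.mkₐ A m.asIdeal) (AlgHom.id A B)

omit [Finite (MaximalSpectrum A)] in
theorem red_surjective (B : Type v) [CommRing B] [Algebra A B] (m : MaximalSpectrum A) :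
    Function.Surjective (red B m) :=
  TensorProduct.map_surjective (Ideal.Quotient.mk_surjective) Function.surjective_id

theorem exists_lift (B : Type v) [CommRing B] [Algebra A B] (v : ∀ m : MaximalSpectrum A, (A ⧸ m.asIdeal) ⊗[A] B) :
    ∃ b : A ⊗[A] B, ∀ m, red B m b = v m := by
  classical
  cases nonempty_fintype (MaximalSpectrum A)
  choose e he he' using exists_idem (A := A)
  choose b hb using fun m => red_surjective B m (v m)
  refine ⟨∑ m, e m • b m, fun m => ?_⟩
  rw [map_sum, Finset.sum_eq_single m]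
  · rw [map_smul, hb]
    have : e m • v m = (Ideal.Quotient.mk m.asIdeal (e m)) • v m := rfl
    rw [this, he, one_smul]
  · intro m' _ hm'
    rw [map_smul]
    have : e m' • red B m (b m') = (Ideal.Quotient.mk m.asIdeal (e m')) • red B m (b m') := rfl
    rw [this, he' _ _ hm'.symm, zero_smul]
  · intro h
    exact absurd (Finset.mem_univ m) h

omit [Finite (MaximalSpectrum A)] in
theorem isUnit_of_red (B : Type v) [CommRing B] [Algebra A B] [Module.Finite A B] (b : A ⊗[A] B)
    (h : ∀ m, IsUnit (red B m b)) : IsUnit b := by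
  by_contra hb
  obtain ⟨n, hn, hbn⟩ := exists_max_ideal_of_mem_nonunits hb
  have hfin : Module.Finite A (A ⊗[A] B) := inferInstance
  have hint : Algebra.IsIntegral A (A ⊗[A] B) := inferInstance
  have hm : (n.comap (algebraMap A (A ⊗[A] B))).IsMaximal := Ideal.isMaximal_comap_of_isIntegral_of_isMaximal n
  let m : MaximalSpectrum A := ⟨_, hm⟩
  obtain ⟨w, hw⟩ := (h m).exists_right_inv
  obtain ⟨c, hc⟩ := red_surjective B m w
  have hk : b * c - 1 ∈ RingHom.ker (red B m) := by
    rw [RingHom.mem_ker, map_sub, map_mul, hc, hw, map_one, sub_self]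
  have hker : RingHom.ker (red B m) =
      (RingHom.ker (Ideal.Quotient.mkₐ A m.asIdeal)).map (Algebra.TensorProduct.includeLeft : A →ₐ[A] A ⊗[A] B) :=
    Algebra.TensorProduct.rTensor_ker _ (Ideal.Quotient.mk_surjective : Function.Surjective
      (Ideal.Quotient.mkₐ A m.asIdeal))
  rw [hker] at hk
  have hle : (RingHom.ker (Ideal.Quotient.mkₐ A m.asIdeal)).map (Algebra.TensorProduct.includeLeft : A →ₐ[A] A ⊗[A] B) ≤ n := by
    rw [Ideal.map_le_iff_le_comap]
    intro x hx
    have : x ∈ m.asIdeal := by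
      rw [RingHom.mem_ker] at hx
      exact Ideal.Quotient.eq_zero_iff_mem.1 hx
    exact this
  have h1 := hle hk
  apply hn.ne_top
  rw [Ideal.eq_top_iff_one]
  have h2 : (1 : A ⊗[A] B) = b * c - (b * c - 1) := by ring
  rw [h2]
  exact n.sub_mem (n.mul_mem_right _ hbn) h1

/-- A family of units over the residue fields of a semilocal ring lifts. -/
theorem exists_unit (B : Type v) [CommRing B] [Algebra A B] [Module.Finite A B]
    (v : ∀ m : MaximalSpectrum A, ((A ⧸ m.asIdeal) ⊗[A] B)ˣ) :
    ∃ b : (A ⊗[A] B)ˣ, ∀ m, Units.map (red B m : A ⊗[A] B →* (A ⧸ m.asIdeal) ⊗[A] B) b = v m := by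
  obtain ⟨b, hb⟩ := exists_lift B (fun m => ((v m : (A ⧸ m.asIdeal) ⊗[A] B)))
  obtain ⟨b', rfl⟩ := isUnit_of_red B b (fun m => by rw [hb]; exact (v m).isUnit)
  exact ⟨b', fun m => Units.ext (hb m)⟩

end K965.SemiLift
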