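import Groth.Agent.MultTori.K965.DictRep
import Groth.Agent.MultTori.K965.PermRep
import Groth.Agent.MultTori.K965.NormInj
import Groth.Agent.MultTori.K965.NormFin
import Groth.Agent.MultTori.K965.DensePt
import Groth.Agent.MultTori.K965.FreeX
import Groth.Agent.MultTori.K965.BcGal

/-!
# Translating points into thick sets
-/

set_option autoImplicit false
universe u
set_option linter.dupNamespace false
open CategoryTheory MonoidalCategory CartesianMonoidalCategory MonObj GrpObj AlgebraicGeometry Opposite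
open scoped TensorProduct

namespace K965.Thick

open K965.Pts K965.Alpha K965.Gal K965.Dict K965.EqRep K965.TorDom K965.BcGal K965.LatX K965.FreeX
open K964.UC (mB mB_comp)

/-- A set of points over a field meeting every translate of the image of a quasi-trivial torus. -/
def Thick {A₀ : Type u} [CommRing A₀] (T : Over (Spec (CommRingCat.of A₀))) {κ : Type u} [Field κ]
    [Algebra A₀ κ] (W : Set (sp (algebraMap A₀ κ) ⟶ T)) : Prop :=
  (Finite κ ∧ W.Nonempty) ∨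
  (Infinite κ ∧ ∃ U : T.left.Opens, (∃ t : T.left, t ∈ U ∧ ∃ y, T.hom.base t =
      (Spec.map (CommRingCat.ofHom (algebraMap A₀ κ))).base y) ∧
    ∀ x : sp (algebraMap A₀ κ) ⟶ T, (∀ y, x.left.base y ∈ U) → x ∈ W)

section fin

variable {A₀ B : Type u} [CommRing A₀] [CommRing B] [Algebra A₀ B] {G : Type} [Group G] [Fintype G]
  [MulSemiringAction G B] [SMulCommClass G A₀ B] (hG : IsGal A₀ B G) {r : ℕ} [DistribMulAction G (Fin r → ℤ)]
  {κ : Type u} [Field κ] [Algebra A₀ κ]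

include hG in
theorem fin_lift [Finite κ] (c : (Fin r → ℤ) →+ Additive (κ ⊗[A₀] B)ˣ) (hc : Eqv G c) :
    ∃ p : LX (FX G r) →+ Additive (κ ⊗[A₀] B)ˣ, Eqv G p ∧ p.comp (jF G r) = c := by
  let := gact A₀ B G κ
  have := gact_comm (A := A₀) (B := B) (G := G) κ
  have hG' : IsGal κ (κ ⊗[A₀] B) G := isGal κ hG
  obtain ⟨c', rfl⟩ := tc_surjective (A := A₀) (B := B) (C := κ) (R := κ) c
  obtain ⟨p', hp', hp''⟩ := NormFin.exists_lift hG' (jF G r) jF_smul (rF G r) rF_jF torsionFree c'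
    ((eqv_tc_iff c').1 hc)
  exact ⟨tc p', (eqv_tc_iff p').2 hp', by rw [← tc_comp, hp'']⟩

end fin

/-- A point of the fibre -/
lemma exists_pt_tensor {A₀ H κ : Type u} [CommRing A₀] [CommRing H] [CommRing κ] [Algebra A₀ H] [Algebra A₀ κ]
    (P : Spec (CommRingCat.of H)) (y : Spec (CommRingCat.of κ))
    (h : (Spec.map (CommRingCat.ofHom (algebraMap A₀ H))).base P = (Spec.map (CommRingCat.ofHom (algebraMap A₀ κ))).base y) :
    ∃ Q : PrimeSpectrum (κ ⊗[A₀] H),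
      PrimeSpectrum.comap ((Algebra.TensorProduct.includeRight : H →ₐ[A₀] κ ⊗[A₀] H) : H →+* κ ⊗[A₀] H) Q = P := by
  obtain ⟨z, hz1, hz2⟩ := Scheme.Pullback.exists_preimage_pullback y P h.symm
  refine ⟨(pullbackSpecIso A₀ κ H).hom.base z, ?_⟩
  have h1 := congrArg (fun f : _ ⟶ Spec (CommRingCat.of H) => f.base z) (pullbackSpecIso_hom_snd A₀ κ H)
  refine Eq.trans ?_ hz2
  exact h1

section infin

variable {A₀ B : Type u} [CommRing A₀] [CommRing B] [Algebra A₀ B] {G : Type} [Group G] [Fintype G]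
  [MulSemiringAction G B] [SMulCommClass G A₀ B] (hG : IsGal A₀ B G) {r : ℕ} [DistribMulAction G (Fin r → ℤ)]
  {κ : Type u} [Field κ] [Algebra A₀ κ]
  {H : Type u} [CommRing H] [Algebra A₀ H] {u₀ : (Fin r → ℤ) →+ Additive (H ⊗[A₀] B)ˣ} (hu : Rep G H u₀)

include hG hu in
theorem inf_lift [Infinite κ] (c : (Fin r → ℤ) →+ Additive (κ ⊗[A₀] B)ˣ) (hc : Eqv G c)
    (V : Set (PrimeSpectrum H)) (hV : IsOpen V) (hne : ∃ Q : PrimeSpectrum (κ ⊗[A₀] H),
      PrimeSpectrum.comap ((Algebra.TensorProduct.includeRight : H →ₐ[A₀] κ ⊗[A₀] H) : H →+* κ ⊗[A₀] H) Q ∈ V) :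
    ∃ (p : LX (FX G r) →+ Additive (κ ⊗[A₀] B)ˣ) (f : H →ₐ[A₀] κ), Eqv G p ∧
      (∀ n, push f u₀ n + p (jF G r n) = c n) ∧
      ∀ y : PrimeSpectrum κ, PrimeSpectrum.comap (f : H →+* κ) y ∈ V := by
  let := gact A₀ B G κ
  have := gact_comm (A := A₀) (B := B) (G := G) κ
  have hG' : IsGal κ (κ ⊗[A₀] B) G := isGal κ hG
  obtain ⟨c', rfl⟩ := tc_surjective (A := A₀) (B := B) (C := κ) (R := κ) c
  have hc' := (eqv_tc_iff c').1 hc
  obtain ⟨u', hu', ru'⟩ := exists_rep_bc κ hu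
  obtain ⟨n, d, uL, hd, rL⟩ := PermRep.exists_perm_rep hG' (FX G r)
  let RP := Localization.Away d
  let χ : (Fin r → ℤ) →+ Additive (RP ⊗[κ] (κ ⊗[A₀] B))ˣ := push (Algebra.ofId κ RP) c' - uL.comp (jF G r)
  have hχ : Eqv (A := κ) G χ := eqv_sub (eqv_push _ hc') (eqv_comp rL.eqv _ jF_smul)
  obtain ⟨τ, hτ⟩ := ru'.surj χ hχ
  have hinj : Function.Injective τ :=
    NormInj.injective hG' (jF G r) jF_smul (rF G r) rF_jF ru' rL c' hc' τ hτ
  let iH : H →+* κ ⊗[A₀] H := ((Algebra.TensorProduct.includeRight : H →ₐ[A₀] κ ⊗[A₀] H) : H →+* κ ⊗[A₀] H)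
  let V₁ : Set (PrimeSpectrum (κ ⊗[A₀] H)) := PrimeSpectrum.comap iH ⁻¹' V
  have hV₁ : IsOpen V₁ := hV.preimage (PrimeSpectrum.continuous_comap iH)
  let V₂ : Set (PrimeSpectrum RP) := PrimeSpectrum.comap (τ : κ ⊗[A₀] H →+* RP) ⁻¹' V₁
  have hV₂ : IsOpen V₂ := hV₁.preimage (PrimeSpectrum.continuous_comap _)
  have hdense : DenseRange (PrimeSpectrum.comap (τ : κ ⊗[A₀] H →+* RP)) := by
    rw [PrimeSpectrum.denseRange_comap_iff_ker_le_nilRadical]
    have hk : RingHom.ker (τ : κ ⊗[A₀] H →+* RP) = ⊥ :=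
      (RingHom.injective_iff_ker_eq_bot (τ : κ ⊗[A₀] H →+* RP)).1 hinj
    rw [hk]
    exact bot_le
  have hne₂ : V₂.Nonempty := by
    obtain ⟨_, hx, ⟨z, rfl⟩⟩ := hdense.inter_open_nonempty V₁ hV₁ hne
    exact ⟨z, hx⟩
  obtain ⟨ev, hev⟩ := DensePt.exists_ev d hd V₂ hV₂ hne₂
  let f : H →ₐ[A₀] κ := ((ev.comp τ).restrictScalars A₀).comp
    (Algebra.TensorProduct.includeRight : H →ₐ[A₀] κ ⊗[A₀] H)
  refine ⟨tc (push ev uL), f, (eqv_tc_iff _).2 (eqv_push _ rL.eqv), ?_, ?_⟩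
  · have h1 : push f u₀ = tc (push (ev.comp τ) u') := by
      rw [tc_push, hu', push_push]
    have h2 : ∀ n, push (ev.comp τ) u' n + push ev uL (jF G r n) = c' n := by
      intro n
      rw [← push_push, hτ]
      change push ev (push (Algebra.ofId κ RP) c' - uL.comp (jF G r)) n + _ = _
      rw [push_sub, push_push, push_comp]
      have h3 : ev.comp (Algebra.ofId κ RP) = AlgHom.id κ κ := by ext
      rw [h3, push_id]
      exact sub_add_cancel (c' n) ((push ev uL) (jF G r n))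
    intro n
    rw [h1]
    have h5 := congrArg (um ((cb A₀ B κ κ : κ ⊗[κ] (κ ⊗[A₀] B) →ₐ[κ] κ ⊗[A₀] B) :
      κ ⊗[κ] (κ ⊗[A₀] B) →+* κ ⊗[A₀] B)) (h2 n)
    rw [map_add] at h5
    exact h5
  · intro y
    exact hev y

end infin

section field

variable {A₀ B : Type u} [CommRing A₀] [CommRing B] [Algebra A₀ B] {G : Type} [Group G] [Fintype G]
  [MulSemiringAction G B] [SMulCommClass G A₀ B] (hG : IsGal A₀ B G) {r : ℕ} [DistribMulAction G (Fin r → ℤ)]
  {T : Over (Spec (CommRingCat.of A₀))} [GrpObj T] [IsAffine T.left] (D : K965.Dict A₀ B G T (Fin r → ℤ))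
  {κ : Type u} [Field κ] [Algebra A₀ κ]

include hG in
theorem exists_mem (W : Set (sp (algebraMap A₀ κ) ⟶ T)) (hW : Thick T W) (u : sp (algebraMap A₀ κ) ⟶ T) :
    ∃ (p : LX (FX G r) →+ Additive (κ ⊗[A₀] B)ˣ), Eqv G p ∧ ∃ x ∈ W,
      ∀ n, D.ch κ x n + p (jF G r n) = D.ch κ u n := by
  rcases hW with ⟨hfin, v, hv⟩ | ⟨hinf, U, ⟨t, htU, y, hty⟩, hU⟩
  · obtain ⟨p, hp, hp'⟩ := fin_lift hG (D.ch κ u - D.ch κ v) (eqv_sub (D.eqv κ u) (D.eqv κ v))
    refine ⟨p, hp, v, hv, fun n => ?_⟩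
    have h1 := DFunLike.congr_fun hp' n
    rw [AddMonoidHom.comp_apply] at h1
    rw [h1]
    exact add_sub_cancel (D.ch κ v n) (D.ch κ u n)
  · let _ : Algebra A₀ Γ(T.left, ⊤) := (strMap T).toAlgebra
    have hu := DictRep.rep_of_dict D
    let V : Set (PrimeSpectrum Γ(T.left, ⊤)) := T.left.isoSpec.inv.base ⁻¹' (U : Set T.left)
    have hV : IsOpen V := U.2.preimage T.left.isoSpec.inv.continuous
    let P : Spec (CommRingCat.of Γ(T.left, ⊤)) := T.left.isoSpec.hom.base t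
    have hPt : T.left.isoSpec.inv.base P = t := by
      have h1 := congrArg (fun z : T.left ⟶ T.left => z.base t) T.left.isoSpec.hom_inv_id
      exact h1
    have hP : (Spec.map (CommRingCat.ofHom (algebraMap A₀ Γ(T.left, ⊤)))).base P =
        (Spec.map (CommRingCat.ofHom (algebraMap A₀ κ))).base y := by
      rw [← hty]
      have h1 : Spec.map (CommRingCat.ofHom (algebraMap A₀ Γ(T.left, ⊤))) = T.left.isoSpec.inv ≫ T.hom := spec_strMap T
      rw [h1]
      change T.hom.base (T.left.isoSpec.inv.base P) = _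
      rw [hPt]
    obtain ⟨Q, hQ⟩ := exists_pt_tensor P y hP
    obtain ⟨p, f, hp, hpf, hf⟩ := inf_lift hG hu (D.ch κ u) (D.eqv κ u) V hV ⟨Q, by
      rw [hQ]
      change T.left.isoSpec.inv.base P ∈ U
      rw [hPt]
      exact htU⟩
    refine ⟨p, hp, mp (f : Γ(T.left, ⊤) →+* κ) f.comp_algebraMap ≫ upt T, hU _ fun y => hf y, fun n => ?_⟩
    rw [D.nat f (upt T)]
    exact hpf n

end field

end K965.Thick
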