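import Groth.Agent.MultTori.K965.SemiLift
import Groth.Agent.MultTori.K965.IsGal
import Mathlib.RingTheory.Unramified.Field
import Mathlib.RingTheory.QuasiFinite.Basic
import Mathlib.RingTheory.Etale.Finite
import Mathlib.RingTheory.Artinian.Ring
import Mathlib.LinearAlgebra.TensorProduct.Quotient
import Mathlib.RingTheory.Flat.TorsionFree

/-!
# An equivariant system of uniformizers in a Galois extension of a discrete valuation ring
-/

set_option autoImplicit false
universe u
open TensorProduct

namespace K965.Unif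

open K965.Gal

variable {A B : Type u} [CommRing A] [CommRing B] [Algebra A B]

section mact

variable {G : Type} [Group G] [MulSemiringAction G B]

/-- the action on maximal ideals -/
def mact (g : G) (q : MaximalSpectrum B) : MaximalSpectrum B :=
  ⟨q.asIdeal.comap (MulSemiringAction.toRingEquiv G B g⁻¹), Ideal.comap_isMaximal_of_equiv _⟩

lemma mem_mact (g : G) (q : MaximalSpectrum B) (x : B) : x ∈ (mact g q).asIdeal ↔ g⁻¹ • x ∈ q.asIdeal := Iff.rfl

lemma mact_mul (g h : G) (q : MaximalSpectrum B) : mact (g * h) q = mact g (mact h q) := by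
  apply MaximalSpectrum.ext
  ext x
  rw [mem_mact, mem_mact, mem_mact, mul_inv_rev, mul_smul]

lemma mact_one (q : MaximalSpectrum B) : mact (1 : G) q = q := by
  apply MaximalSpectrum.ext
  ext x
  rw [mem_mact, inv_one, one_smul]

/-- the action as a permutation -/
def mequiv (g : G) : MaximalSpectrum B ≃ MaximalSpectrum B where
  toFun := mact g
  invFun := mact g⁻¹
  left_inv q := by rw [← mact_mul, inv_mul_cancel, mact_one]
  right_inv q := by rw [← mact_mul, mul_inv_cancel, mact_one]

end mact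

theorem finite_maximalSpectrum [IsLocalRing A] [Module.Finite A B] : Finite (MaximalSpectrum B) := by
  have h1 := Algebra.QuasiFinite.finite_primesOver (S := B) (IsLocalRing.maximalIdeal A)
  have h2 : Finite ((IsLocalRing.maximalIdeal A).primesOver B) := h1
  refine Finite.of_injective (β := (IsLocalRing.maximalIdeal A).primesOver B)
    (fun q => ⟨q.asIdeal, q.isMaximal.isPrime, ⟨?_⟩⟩) ?_
  · have h3 : (q.asIdeal.comap (algebraMap A B)).IsMaximal := Ideal.isMaximal_comap_of_isIntegral_of_isMaximal _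
    exact (IsLocalRing.eq_maximalIdeal h3).symm
  · intro q q' h
    exact MaximalSpectrum.ext (congrArg Subtype.val h)

/-- The Jacobson radical of a finite étale algebra over a local ring. -/
theorem exists_eq_mul [IsLocalRing A] (π : A) (hπ : IsLocalRing.maximalIdeal A = Ideal.span {π}) [Module.Finite A B]
    [Algebra.Etale A B] (b : B) (hb : ∀ q : MaximalSpectrum B, b ∈ q.asIdeal) : ∃ c, b = algebraMap A B π * c := by
  let m := IsLocalRing.maximalIdeal A
  let R := (A ⧸ m) ⊗[A] B
  let _ : Field (A ⧸ m) := Ideal.Quotient.field m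
  have hred : IsReduced R := Algebra.FormallyUnramified.isReduced_of_field (A ⧸ m) R
  have hart : IsArtinianRing R := IsArtinianRing.of_finite (A ⧸ m) R
  let ρ : B →ₐ[A] R := Algebra.TensorProduct.includeRight
  have hρ : Function.Surjective ρ := by
    intro z
    induction z using TensorProduct.induction_on with
    | zero => exact ⟨0, map_zero _⟩
    | tmul a b =>
      obtain ⟨a, rfl⟩ := Ideal.Quotient.mk_surjective a
      refine ⟨a • b, ?_⟩
      change (1 : A ⧸ m) ⊗ₜ[A] (a • b) = _
      rw [← TensorProduct.smul_tmul]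
      congr 1
      rw [Algebra.smul_def, mul_one]
      rfl
    | add x y hx hy =>
      obtain ⟨x', rfl⟩ := hx
      obtain ⟨y', rfl⟩ := hy
      exact ⟨x' + y', map_add _ _ _⟩
  have h0 : ρ b = 0 := by
    have h1 : ρ b ∈ (⊥ : Ideal R).jacobson := by
      rw [Ideal.jacobson, Ideal.mem_sInf]
      rintro J ⟨-, hJ⟩
      have hJ' : (J.comap ρ).IsMaximal := Ideal.comap_isMaximal_of_surjective ρ hρ
      exact hb ⟨_, hJ'⟩
    rw [IsArtinianRing.jacobson_eq_radical] at h1
    have h2 : IsNilpotent (ρ b) := h1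
    exact h2.eq_zero
  have h3 : (quotTensorEquivQuotSMul B m) ((1 : A ⧸ m) ⊗ₜ[A] b) = Submodule.Quotient.mk b := by
    have := quotTensorEquivQuotSMul_mk_tmul m 1 b
    rwa [one_smul] at this
  have h4 : (1 : A ⧸ m) ⊗ₜ[A] b = 0 := h0
  rw [h4, map_zero, eq_comm, Submodule.Quotient.mk_eq_zero] at h3
  refine Submodule.smul_induction_on h3 ?_ ?_
  · intro a ha n _
    rw [show m = Ideal.span {π} from hπ, Ideal.mem_span_singleton] at ha
    obtain ⟨c, rfl⟩ := ha
    exact ⟨c • n, by rw [mul_smul, Algebra.smul_def]⟩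
  · rintro x y ⟨c, rfl⟩ ⟨d, rfl⟩
    exact ⟨c + d, by rw [mul_add]⟩

lemma mem_of_local [IsLocalRing A] (π : A) (hπ : π ∈ IsLocalRing.maximalIdeal A) [Module.Finite A B]
    (q : MaximalSpectrum B) : algebraMap A B π ∈ q.asIdeal := by
  have h3 : (q.asIdeal.comap (algebraMap A B)).IsMaximal := Ideal.isMaximal_comap_of_isIntegral_of_isMaximal _
  have h4 := IsLocalRing.eq_maximalIdeal h3
  have h5 : π ∈ q.asIdeal.comap (algebraMap A B) := by
    rw [h4]
    exact hπ
  exact h5

lemma isUnit_one_sub [IsLocalRing A] (π : A) (hπ : π ∈ IsLocalRing.maximalIdeal A) [Module.Finite A B]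
    (b : B) : IsUnit (1 - algebraMap A B π * b) := by
  by_contra h
  obtain ⟨m, hm, hx⟩ := exists_max_ideal_of_mem_nonunits h
  apply hm.ne_top
  rw [Ideal.eq_top_iff_one]
  have h1 : (1 : B) = (1 - algebraMap A B π * b) + algebraMap A B π * b := by ring
  rw [h1]
  exact m.add_mem hx (m.mul_mem_right _ (mem_of_local π hπ ⟨m, hm⟩))

/-- An equivariant family of generators of the maximal ideals. -/
theorem exists_unif {G : Type} [Group G] [Fintype G] [MulSemiringAction G B] [SMulCommClass G A B] [IsLocalRing A] (π : A)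
    (hπ : IsLocalRing.maximalIdeal A = Ideal.span {π}) [Module.Finite A B] [Algebra.Etale A B] :
    ∃ ϖ : MaximalSpectrum B → B, (∀ q, q.asIdeal = Ideal.span {ϖ q}) ∧ ∀ (g : G) q, g • ϖ q = ϖ (mact g q) := by
  classical
  have hfin : Finite (MaximalSpectrum B) := finite_maximalSpectrum (A := A)
  have hπ' : π ∈ IsLocalRing.maximalIdeal A := hπ ▸ Ideal.mem_span_singleton_self π
  choose f hf hf' using SemiLift.exists_idem (A := B)
  have hf1 : ∀ q : MaximalSpectrum B, f q - 1 ∈ q.asIdeal := by
    intro q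
    rw [← Ideal.Quotient.eq_zero_iff_mem, map_sub, hf, map_one, sub_self]
  have hf2 : ∀ q q' : MaximalSpectrum B, q' ≠ q → f q ∈ q'.asIdeal := by
    intro q q' h
    rw [← Ideal.Quotient.eq_zero_iff_mem, hf' q q' h]
  let e : MaximalSpectrum B → B := fun q => ∏ g : G, g • f (mact g⁻¹ q)
  have he0 : ∀ (h : G) q, h • e q = e (mact h q) := by
    intro h q
    simp only [e, Finset.smul_prod']
    refine Fintype.prod_equiv (Equiv.mulLeft h) _ _ (fun g => ?_)
    rw [← mul_smul, ← mact_mul]
    simp
  have he1 : ∀ q, e q - 1 ∈ q.asIdeal := by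
    intro q
    rw [← Ideal.Quotient.eq_zero_iff_mem, map_sub, map_one, sub_eq_zero, map_prod]
    refine Finset.prod_eq_one fun g _ => ?_
    rw [← sub_eq_zero, ← map_one (Ideal.Quotient.mk q.asIdeal), ← map_sub, Ideal.Quotient.eq_zero_iff_mem]
    have h1 := hf1 (mact g⁻¹ q)
    rw [mem_mact, inv_inv, smul_sub, smul_one] at h1
    exact h1
  have he2 : ∀ q q' : MaximalSpectrum B, q' ≠ q → e q ∈ q'.asIdeal := by
    intro q q' h
    have h1 := hf2 q q' h
    rw [← mact_one (G := G) q] at h1
    refine Ideal.mem_of_dvd _ ?_ h1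
    have h2 := Finset.dvd_prod_of_mem (fun g : G => g • f (mact g⁻¹ q)) (Finset.mem_univ (1 : G))
    simpa using h2
  let E : MaximalSpectrum B → B := fun q => 3 * e q ^ 2 - 2 * e q ^ 3
  have hE0 : ∀ (h : G) q, h • E q = E (mact h q) := by
    intro h q
    have h2 : h • (2 : B) = 2 := map_ofNat (MulSemiringAction.toRingHom G B h) 2
    have h3 : h • (3 : B) = 3 := map_ofNat (MulSemiringAction.toRingHom G B h) 3
    simp only [E, smul_sub, smul_mul', smul_pow', he0, h2, h3]
  have hE1 : ∀ q, E q - 1 ∈ q.asIdeal := by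
    intro q
    have h1 : E q - 1 = (e q - 1) * (1 + e q - 2 * e q ^ 2) := by
      simp only [E]; ring
    rw [h1]
    exact Ideal.mul_mem_right _ _ (he1 q)
  have hE2 : ∀ q q' : MaximalSpectrum B, q' ≠ q → E q ∈ q'.asIdeal := by
    intro q q' h
    have h1 : E q = e q * (3 * e q - 2 * e q ^ 2) := by
      simp only [E]; ring
    rw [h1]
    exact Ideal.mul_mem_right _ _ (he2 q q' h)
  set p : B := algebraMap A B π with hp
  have hpG : ∀ g : G, g • p = p := by
    intro g
    exact smul_algebraMap g π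
  have hE3 : ∀ q, ∃ c, E q * (1 - E q) = p ^ 2 * c := by
    intro q
    obtain ⟨c, hc⟩ := exists_eq_mul π hπ (e q * (1 - e q)) (by
      intro q'
      by_cases h : q' = q
      · subst h
        have : e q' * (1 - e q') = (e q' - 1) * (-e q') := by ring
        rw [this]
        exact Ideal.mul_mem_right _ _ (he1 q')
      · exact Ideal.mul_mem_right _ _ (he2 q q' h))
    refine ⟨c ^ 2 * (3 - 2 * e q) * (1 + 2 * e q), ?_⟩
    have h1 : E q * (1 - E q) = (e q * (1 - e q)) ^ 2 * ((3 - 2 * e q) * (1 + 2 * e q)) := by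
      simp only [E]; ring
    rw [h1, hc]
    ring
  refine ⟨fun q => p * E q + (1 - E q), ?_, ?_⟩
  · intro q
    apply le_antisymm
    · -- `q ⊆ (ϖ)`
      set ϖ := p * E q + (1 - E q) with hϖ
      obtain ⟨c, hc⟩ := hE3 q
      have h1 : ∃ d, p = ϖ * d := by
        obtain ⟨u, hu⟩ := (isUnit_one_sub π hπ' (- c * (1 - p) ^ 2))
        refine ⟨(E q + p * (1 - E q)) * ((u⁻¹ : Bˣ) : B), ?_⟩
        have h2 : p * (u : B) = ϖ * (E q + p * (1 - E q)) := by
          rw [hu, hϖ]
          linear_combination (- (1 - p) ^ 2) * hc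
        rw [← mul_assoc, ← h2, mul_assoc, Units.mul_inv, mul_one]
      obtain ⟨d, hd⟩ := h1
      have h3 : 1 - E q = ϖ * ((1 - E q) + d * (p * c * (1 - p))) := by
        have h4 : 1 - E q = ϖ * (1 - E q) + p * (p * c * (1 - p)) := by
          rw [hϖ]
          linear_combination (1 - p) * hc
        calc 1 - E q = ϖ * (1 - E q) + p * (p * c * (1 - p)) := h4
          _ = ϖ * (1 - E q) + (ϖ * d) * (p * c * (1 - p)) := by rw [← hd]
          _ = _ := by ring
      intro x hx
      obtain ⟨y, hy⟩ := exists_eq_mul π hπ (x * E q) (by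
        intro q'
        by_cases h : q' = q
        · subst h
          exact Ideal.mul_mem_right _ _ hx
        · exact Ideal.mul_mem_left _ _ (hE2 q q' h))
      rw [Ideal.mem_span_singleton]
      refine ⟨d * y + ((1 - E q) + d * (p * c * (1 - p))) * x, ?_⟩
      calc x = x * E q + (1 - E q) * x := by ring
        _ = p * y + (1 - E q) * x := by rw [hy]
        _ = (ϖ * d) * y + (ϖ * ((1 - E q) + d * (p * c * (1 - p)))) * x := by rw [← hd, ← h3]
        _ = _ := by ring
    · rw [Ideal.span_singleton_le_iff_mem]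
      refine Ideal.add_mem _ (Ideal.mul_mem_right _ _ (mem_of_local π hπ' q)) ?_
      rw [← Ideal.neg_mem_iff]
      simpa using hE1 q
  · intro g q
    simp only [smul_add, smul_sub, smul_mul', hE0, hpG, smul_one]

/-- faithfully flat contraction of principal ideals -/
lemma dvd_of_tmul {Ah : Type u} [CommRing Ah] [Algebra A Ah] [Module.FaithfullyFlat A Ah] (b c : B) (z : Ah ⊗[A] B)
    (h : (1 : Ah) ⊗ₜ[A] c = ((1 : Ah) ⊗ₜ[A] b) * z) : ∃ d, c = b * d := by
  let N : Submodule A B := (Ideal.span {b}).restrictScalars A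
  have h1 : ∀ w : Ah ⊗[A] B, LinearMap.lTensor Ah N.mkQ (((1 : Ah) ⊗ₜ[A] b) * w) = 0 := by
    intro w
    induction w using TensorProduct.induction_on with
    | zero => simp
    | tmul x y =>
      rw [Algebra.TensorProduct.tmul_mul_tmul, LinearMap.lTensor_tmul]
      have : N.mkQ (b * y) = 0 := by
        rw [← LinearMap.mem_ker, Submodule.ker_mkQ]
        exact Ideal.mem_span_singleton.2 ⟨y, rfl⟩
      rw [this, TensorProduct.tmul_zero]
    | add x y hx hy => rw [mul_add, map_add, hx, hy, add_zero]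
  have h2 : (1 : Ah) ⊗ₜ[A] (N.mkQ c) = 0 := by
    rw [← LinearMap.lTensor_tmul, h, h1]
  have h4 := Module.FaithfullyFlat.tensorProduct_mk_injective (A := A) (B := Ah) (B ⧸ N)
    (a₁ := N.mkQ c) (a₂ := 0) (by simpa using h2)
  rw [← LinearMap.mem_ker, Submodule.ker_mkQ] at h4
  exact Ideal.mem_span_singleton.1 h4

/-- Factorization of the divisors of `π ^ n`. -/
theorem exists_factor [IsDomain A] [IsNoetherianRing A] [Module.Finite A B] [Module.Flat A B]
    [Finite (MaximalSpectrum B)] {π : A} (hπ0 : π ≠ 0) (ϖ : MaximalSpectrum B → B)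
    (hϖ : ∀ q, q.asIdeal = Ideal.span {ϖ q}) (H : Submonoid B) (hu : ∀ b, IsUnit b → b ∈ H) (hH : ∀ q, ϖ q ∈ H)
    (b : B) (hb : ∃ n, b ∣ algebraMap A B π ^ n) : b ∈ H := by
  have hN : IsNoetherianRing B := IsNoetherianRing.of_finite A B
  have hreg : ∀ (n : ℕ) (x : B), algebraMap A B π ^ n * x = 0 → x = 0 := by
    intro n x hx
    rw [← map_pow, ← Algebra.smul_def] at hx
    exact (smul_eq_zero.1 hx).resolve_left (pow_ne_zero n hπ0)
  induction h : Ideal.span {b} using WellFoundedGT.induction generalizing b with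
  | ind I ih =>
    by_cases hbu : IsUnit b
    · exact hu b hbu
    obtain ⟨m, hm, hbm⟩ := exists_max_ideal_of_mem_nonunits hbu
    have h1 := hϖ ⟨m, hm⟩
    change m = _ at h1
    rw [h1, Ideal.mem_span_singleton] at hbm
    obtain ⟨c, hc⟩ := hbm
    obtain ⟨n, hn⟩ := hb
    have hcn : c ∣ algebraMap A B π ^ n := (Dvd.intro_left _ hc.symm).trans hn
    have h2 : c ∈ H := by
      refine ih (Ideal.span {c}) ?_ c ⟨n, hcn⟩ rfl
      rw [← h]
      refine lt_of_le_of_ne ?_ ?_
      · rw [Ideal.span_singleton_le_span_singleton]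
        exact Dvd.intro_left _ hc.symm
      · intro heq
        have h3 : c ∈ Ideal.span {b} := by
          rw [heq]; exact Ideal.mem_span_singleton_self c
        obtain ⟨d, hd⟩ := Ideal.mem_span_singleton.1 h3
        obtain ⟨t, ht⟩ := hcn
        have h4 : algebraMap A B π ^ n * (1 - ϖ ⟨m, hm⟩ * d) = 0 := by
          rw [ht]
          have h5 : c = ϖ ⟨m, hm⟩ * c * d := by rw [← hc]; exact hd
          linear_combination t * h5
        have h6 := hreg n _ h4
        have h7 : IsUnit (ϖ ⟨m, hm⟩) := IsUnit.of_mul_eq_one d (sub_eq_zero.1 h6).symm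
        apply hm.ne_top
        rw [h1]
        exact Ideal.span_singleton_eq_top.2 h7
    rw [hc]
    exact H.mul_mem (hH _) h2

end K965.Unif
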